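import Cfsg.Agent.Lib.RigidGraph.Defs

/-! Fixed points propagated from an orbit, and the words. -/

set_option autoImplicit false
set_option maxRecDepth 100000

namespace Cfsg.Agent.RigidGraph.Co2

def stepsX0 : List (ℕ × List (ℕ × Bool)) := [(1, [(0, true), (611, true), (1482, true), (1427, true), (1538, true), (977, false), (425, false), (1151, false)]),
  (2, [(0, true), (611, true), (1427, true), (425, true), (543, false), (1538, false), (1395, false), (1482, false)]),
  (3, [(0, true), (611, true), (961, true), (486, true), (996, true), (425, false), (485, true)]),
  (4, [(0, true), (1020, true), (1482, true), (2, true), (506, true), (1, true), (1427, false), (425, false)]),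
  (5, [(0, true), (977, true), (470, true), (1, true), (1395, true), (1221, false), (485, false), (543, false)]),
  (6, [(0, true), (611, true), (1427, true), (961, true), (5, true), (977, true), (1482, true)]),
  (7, [(0, true), (1020, true), (1936, true), (1, true), (470, true), (543, true), (425, false), (1482, false)]),
  (8, [(0, true), (1020, true), (977, true), (1, true), (1778, true), (1615, false), (1482, true), (425, true)]),
  (9, [(0, true), (1020, true), (996, true), (470, true), (1, true), (486, true), (485, false)]),
  (10, [(0, true), (1020, true), (977, true), (1, true), (1936, true), (2297, false), (425, true)]),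
  (11, [(10, true), (1482, true), (2297, true), (5, true), (470, true), (1615, true), (8, true)]),
  (12, [(10, true), (485, true), (9, true), (961, true), (1936, true), (1778, false), (554, true)]),
  (13, [(10, true), (1615, true), (1151, true), (12, true), (1778, true), (611, true), (0, true)]),
  (14, [(10, true), (1615, true), (506, true), (8, true), (1427, true), (961, false), (0, true)]),
  (15, [(10, true), (2297, true), (3, true), (425, true), (1221, true), (9, true), (543, true)]),
  (16, [(10, true), (470, true), (1, true), (1936, true), (996, true), (0, true), (1778, false)]),
  (17, [(10, true), (485, true), (1151, true), (11, true), (425, true), (543, false), (1482, false)]),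
  (18, [(10, true), (1615, true), (1395, true), (8, true), (543, true), (554, true), (611, true)]),
  (19, [(10, true), (470, true), (17, true), (977, true), (0, true), (611, true), (554, true), (1482, false)]),
  (20, [(10, true), (470, true), (17, true), (977, true), (0, true), (1151, true), (2297, false)]),
  (21, [(10, true), (1482, true), (2297, true), (554, true), (2, true), (1, true), (425, false)]),
  (22, [(10, true), (1482, true), (2297, true), (5, true), (961, true), (977, false), (425, true)]),
  (23, [(10, true), (485, true), (1151, true), (11, true), (4, true), (543, true), (425, false)]),
  (24, [(10, true), (1221, true), (13, true), (543, true), (506, true), (1, true), (3, true)]),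
  (25, [(10, true), (1615, true), (470, true), (2, true), (17, true), (1020, false), (961, false)]),
  (26, [(10, true), (470, true), (17, true), (977, true), (0, true), (1151, true), (425, false)]),
  (27, [(10, true), (485, true), (1221, true), (6, true), (18, true), (554, true), (543, true)]),
  (28, [(10, true), (470, true), (17, true), (26, true), (1221, true), (3, true)]),
  (29, [(10, true), (470, true), (1615, true), (2, true), (17, true), (554, true), (1482, false)]),
  (30, [(10, true), (485, true), (1151, true), (1615, true), (16, true), (21, true)]),
  (31, [(30, true), (611, true), (1427, true), (7, true), (13, true), (0, true)]),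
  (32, [(30, true), (961, true), (611, true), (1482, true), (25, true), (13, true), (0, true)]),
  (33, [(30, true), (470, true), (1427, true), (21, true), (13, true), (0, true), (486, false)]),
  (34, [(30, true), (961, true), (611, true), (485, true), (2, true), (1151, true)]),
  (35, [(30, true), (611, true), (1482, true), (29, true), (13, true), (0, true), (425, false)]),
  (36, [(30, true), (961, true), (611, true), (1221, true), (31, true), (12, true), (425, true)]),
  (37, [(30, true), (470, true), (1482, true), (17, true), (13, true), (0, true), (543, false)]),
  (38, [(30, true), (961, true), (611, true), (486, true), (5, true), (485, true)]),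
  (39, [(30, true), (611, true), (1482, true), (29, true), (13, true), (0, true)]),
  (40, [(30, true), (32, true), (11, true), (1, true), (0, true), (961, false)]),
  (41, [(30, true), (961, true), (470, true), (1, true), (554, true), (543, true), (1615, false)]),
  (42, [(30, true), (961, true), (470, true), (1482, true), (4, true), (1151, false), (554, true)]),
  (43, [(42, true), (611, true), (20, true), (1, true), (0, true), (470, false)]),
  (44, [(30, true), (1427, true), (1395, true), (7, true), (12, false), (1778, false), (425, false)]),
  (45, [(10, true), (554, true), (44, true), (961, true), (2, true), (0, true), (425, false)]),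
  (46, [(32, true), (470, true), (45, true), (1538, true), (4, true), (961, false)]),
  (47, [(30, true), (470, true), (45, true), (1482, true), (3, true), (1221, true), (1615, true)]),
  (48, [(30, true), (46, true), (16, true), (543, true), (2, true), (8, true)]),
  (49, [(0, true), (996, true), (977, true), (45, true), (554, true), (1482, false), (1020, false)]),
  (50, [(32, true), (49, true), (1221, true), (35, true), (2, true), (6, true), (1615, true)]),
  (51, [(0, true), (611, true), (1020, true), (47, true), (15, true), (485, true), (1482, true)]),
  (52, [(0, true), (1020, true), (2297, true), (2, true), (24, true), (425, true), (1482, true)]),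
  (53, [(0, true), (996, true), (19, true), (48, true), (51, true), (7, true)]),
  (54, [(0, true), (961, true), (2297, true), (1, true), (35, true), (554, false), (1482, true)]),
  (55, [(0, true), (611, true), (1482, true), (5, true), (14, true), (2297, true), (425, false)]),
  (56, [(0, true), (996, true), (1936, true), (5, true), (1151, true), (543, true)]),
  (57, [(0, true), (961, true), (2297, true), (1, true), (51, true), (506, true), (425, true)]),
  (58, [(0, true), (611, true), (1020, true), (47, true), (15, true), (24, true)]),
  (59, [(0, true), (611, true), (1020, true), (47, true), (15, true), (1936, true)]),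
  (60, [(0, true), (611, true), (1020, true), (47, true), (13, true), (2297, true), (470, false)]),
  (61, [(0, true), (977, true), (1, true), (554, true), (45, true), (1936, true), (425, false)]),
  (62, [(0, true), (1020, true), (977, true), (46, true), (53, true), (17, true)]),
  (63, [(0, true), (611, true), (996, true), (44, true), (34, true), (1482, true), (425, false)]),
  (64, [(0, true), (611, true), (961, true), (44, true), (24, true), (977, true)]),
  (65, [(0, true), (961, true), (2297, true), (1, true), (51, true), (18, true)]),
  (66, [(0, true), (611, true), (4, true), (1, true), (3, true), (2297, true), (1151, true)]),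
  (67, [(0, true), (611, true), (1020, true), (47, true), (13, true), (425, true), (1482, true)]),
  (68, [(0, true), (996, true), (977, true), (45, true), (66, true), (2297, true)]),
  (69, [(0, true), (611, true), (4, true), (1427, true), (485, true), (31, true), (543, false)]),
  (70, [(0, true), (1482, true), (1936, true), (14, true), (46, true), (486, true), (425, false)]),
  (71, [(0, true), (1020, true), (1538, true), (15, true), (37, true), (1151, true)]),
  (72, [(0, true), (1482, true), (2, true), (3, true), (1, true), (1615, true), (425, true)]),
  (73, [(0, true), (2297, true), (961, true), (1, true), (1395, true), (425, true), (1615, false)]),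
  (74, [(0, true), (611, true), (1482, true), (62, true), (49, true), (6, false)]),
  (75, [(0, true), (611, true), (1482, true), (33, true), (57, true), (1538, false)]),
  (76, [(0, true), (611, true), (1482, true), (5, true), (554, true), (3, true)]),
  (77, [(0, true), (611, true), (1778, true), (45, true), (21, true), (961, true), (1615, false)]),
  (78, [(0, true), (611, true), (961, true), (44, true), (17, true), (53, true)]),
  (79, [(0, true), (1020, true), (1538, true), (15, true), (76, true), (470, true)]),
  (80, [(0, true), (961, true), (2, true), (977, true), (470, true), (10, true)]),
  (81, [(0, true), (996, true), (977, true), (45, true), (31, true), (1151, true)]),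
  (82, [(0, true), (611, true), (5, true), (554, true), (23, true), (47, true)]),
  (83, [(0, true), (611, true), (1020, true), (47, true), (13, true), (2297, true)]),
  (84, [(0, true), (961, true), (2297, true), (1, true), (23, true), (3, true)]),
  (85, [(0, true), (1020, true), (3, true), (1, true), (64, false), (1427, true), (961, false)]),
  (86, [(0, true), (1020, true), (3, true), (1, true), (2, true), (611, false), (1482, true)]),
  (87, [(0, true), (3, true), (1427, true), (1, true), (2, true), (72, false), (425, true)]),
  (88, [(0, true), (996, true), (2, true), (1538, true), (55, true), (13, false)]),
  (89, [(0, true), (611, true), (1020, true), (54, true), (15, true), (2297, true)]),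
  (90, [(0, true), (611, true), (1020, true), (47, true), (13, true), (1482, true)]),
  (91, [(0, true), (611, true), (1020, true), (46, true), (34, true), (1427, true)]),
  (92, [(0, true), (996, true), (2, true), (1538, true), (543, true), (1, true)]),
  (93, [(0, true), (611, true), (1020, true), (47, true), (13, true), (996, false)]),
  (94, [(0, true), (611, true), (9, true), (47, true), (75, true), (470, true), (425, false)]),
  (95, [(0, true), (611, true), (1778, true), (45, true), (38, true), (1151, true)]),
  (96, [(0, true), (611, true), (1020, true), (46, true), (8, true), (74, true)]),
  (97, [(0, true), (611, true), (961, true), (72, true), (1395, false), (1936, true)]),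
  (98, [(0, true), (611, true), (1020, true), (46, true), (15, true), (16, true)]),
  (99, [(0, true), (611, true), (1778, true), (45, true), (38, true), (1482, false)]),
  (100, [(0, true), (3, true), (1, true), (2, true), (71, false)]),
  (101, [(0, true), (611, true), (1427, true), (24, true), (93, true), (14, false)]),
  (102, [(0, true), (3, true), (1, true), (2, true), (66, false)]),
  (103, [(0, true), (611, true), (1427, true), (53, true), (13, true), (1615, false)]),
  (104, [(0, true), (3, true), (1, true), (2, true), (2297, true)]),
  (105, [(0, true), (611, true), (3, true), (1, true), (2, true), (961, false)]),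
  (106, [(0, true), (611, true), (1020, true), (54, true), (39, true), (977, false)]),
  (107, [(0, true), (611, true), (1020, true), (1, true), (15, true), (2, true)]),
  (108, [(0, true), (611, true), (1, true), (2, true), (58, true), (425, false), (1482, false)]),
  (109, [(0, true), (1, true), (2, true), (486, true), (2297, true), (1427, false), (543, false)]),
  (110, [(0, true), (611, true), (1482, true), (5, true), (94, true), (1615, false)]),
  (111, [(0, true), (1, true), (2, true), (486, true), (1221, true), (485, false)]),
  (112, [(0, true), (1, true), (2, true), (1395, true), (1020, true), (10, true)]),
  (113, [(0, true), (611, true), (1427, true), (24, true), (49, true), (486, true)]),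
  (114, [(0, true), (1, true), (2, true), (485, true), (10, true), (2297, true)]),
  (115, [(0, true), (1, true), (2, true), (996, true), (110, false), (5, true)]),
  (116, [(0, true), (1, true), (2, true), (486, true), (2297, true), (1482, false)]),
  (117, [(0, true), (611, true), (1427, true), (24, true), (20, true), (1615, true), (425, true)]),
  (118, [(0, true), (1, true), (2, true), (5, true), (109, false), (4, true)]),
  (119, [(0, true), (1, true), (2, true), (485, true), (470, true), (2297, false)]),
  (120, [(0, true), (1, true), (2, true), (486, true), (39, false), (1615, false)]),
  (121, [(0, true), (1, true), (2, true), (486, true), (39, false), (425, false)]),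
  (122, [(0, true), (1, true), (2, true), (5, true), (4, true), (425, true)]),
  (123, [(0, true), (1, true), (2, true), (5, true), (4, true)]),
  (124, [(0, true), (1, true), (2, true), (39, false), (1020, true), (425, false)]),
  (125, [(0, true), (1, true), (2, true), (39, false), (1020, true), (554, false)]),
  (126, [(0, true), (1, true), (2, true), (39, false), (77, true), (425, false)]),
  (127, [(0, true), (1, true), (2, true), (39, false), (76, true), (425, false)]),
  (128, [(0, true), (1, true), (2, true), (39, false), (75, false), (1482, false)]),
  (129, [(0, true), (1, true), (2, true), (39, false), (486, true), (1482, false)]),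
  (130, [(0, true), (1, true), (2, true), (39, false), (485, true), (425, false)]),
  (131, [(0, true), (1, true), (2, true), (39, false), (6, true)]),
  (132, [(0, true), (1, true), (2, true), (39, false), (1020, true)]),
  (133, [(0, true), (1, true), (2, true), (39, false), (75, false)]),
  (134, [(0, true), (1, true), (2, true), (39, false), (72, false)]),
  (135, [(0, true), (1, true), (2, true), (39, false), (486, true)]),
  (136, [(0, true), (1, true), (2, true), (39, false), (1482, false)]),
  (137, [(0, true), (1, true), (2, true), (39, false), (1151, true)]),
  (138, [(0, true), (1, true), (2, true), (39, false), (425, false)]),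
  (139, [(0, true), (1, true), (2, true), (39, false)]),
  (140, [(0, true), (1, true), (2, true), (996, true), (8, true), (425, false)]),
  (141, [(0, true), (1, true), (2, true), (5, true), (60, true), (1482, true)]),
  (142, [(0, true), (1, true), (2, true), (977, true), (15, true), (425, false)]),
  (143, [(0, true), (1, true), (2, true), (5, true), (60, true), (1615, false)]),
  (144, [(0, true), (1, true), (2, true), (5, true), (1395, true), (425, false)]),
  (145, [(0, true), (1, true), (2, true), (5, true), (1395, true)]),
  (146, [(0, true), (1, true), (2, true), (5, true), (6, true), (1615, true)]),
  (147, [(0, true), (1, true), (2, true), (5, true), (6, true)]),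
  (148, [(0, true), (1, true), (2, true), (5, true), (64, true)]),
  (149, [(0, true), (1, true), (2, true), (5, true), (65, true)]),
  (150, [(0, true), (1, true), (2, true), (5, true), (1936, true)])]

def stepsX1 : List (ℕ × List (ℕ × Bool)) := [(151, [(0, true), (1, true), (2, true), (5, true), (425, false)]),
  (152, [(0, true), (1, true), (2, true), (5, true), (2297, true)]),
  (153, [(0, true), (1, true), (2, true), (5, true), (1151, true)]),
  (154, [(0, true), (1, true), (2, true), (5, true), (1482, false)]),
  (155, [(0, true), (1, true), (2, true), (5, true)]),
  (156, [(0, true), (1, true), (2, true), (506, true), (6, true)]),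
  (157, [(0, true), (1, true), (2, true), (6, true), (57, true)]),
  (158, [(0, true), (1, true), (2, true), (6, true), (977, true)]),
  (159, [(0, true), (1, true), (2, true), (6, true), (1427, true)]),
  (160, [(0, true), (1, true), (2, true), (6, true), (425, false)]),
  (161, [(0, true), (1, true), (2, true), (6, true), (1482, true)]),
  (162, [(0, true), (1, true), (2, true), (6, true), (2297, false)]),
  (163, [(0, true), (1, true), (2, true), (6, true)]),
  (164, [(0, true), (1, true), (2, true), (7, true), (2297, true)]),
  (165, [(0, true), (1, true), (2, true), (7, true), (1615, true)]),
  (166, [(0, true), (1, true), (2, true), (7, true), (425, true)]),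
  (167, [(0, true), (1, true), (2, true), (7, true)]),
  (168, [(0, true), (1, true), (2, true), (8, true), (1615, false)]),
  (169, [(0, true), (1, true), (2, true), (8, true)]),
  (170, [(0, true), (1, true), (2, true), (9, true)]),
  (171, [(0, true), (1, true), (2, true), (4, false)]),
  (172, [(0, true), (1, true), (611, true), (1020, true), (8, true), (1482, false)]),
  (173, [(0, true), (1, true), (961, true), (2297, true), (51, true), (1615, false)]),
  (174, [(0, true), (1, true), (425, true), (977, true), (60, true), (1395, true)]),
  (175, [(0, true), (1, true), (611, true), (1020, true), (61, true), (425, false)]),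
  (176, [(0, true), (1, true), (425, true), (4, true), (1538, true), (3, true)]),
  (177, [(0, true), (1, true), (611, true), (4, true), (961, true), (977, true)]),
  (178, [(0, true), (1, true), (425, true), (4, true), (977, true), (1482, true)]),
  (179, [(0, true), (1, true), (977, true), (4, true), (3, true), (961, true)]),
  (180, [(0, true), (1, true), (611, true), (4, true), (961, true), (1151, true)]),
  (181, [(0, true), (1, true), (977, true), (4, true), (3, true), (1151, true)]),
  (182, [(0, true), (1, true), (425, true), (4, true), (3, true), (10, false)]),
  (183, [(0, true), (1, true), (425, true), (4, true), (3, true), (2297, true)]),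
  (184, [(0, true), (1, true), (5, true), (3, true), (4, true), (1482, false)]),
  (185, [(0, true), (1, true), (5, true), (3, true), (4, true), (1615, true)]),
  (186, [(0, true), (1, true), (5, true), (3, true), (4, true), (425, false)]),
  (187, [(0, true), (1, true), (425, true), (4, true), (3, true), (1151, false)]),
  (188, [(0, true), (1, true), (961, true), (2297, true), (74, true), (1151, true)]),
  (189, [(0, true), (1, true), (961, true), (7, true), (82, true), (977, false)]),
  (190, [(0, true), (1, true), (3, true), (4, true), (425, true), (1482, true)]),
  (191, [(0, true), (1, true), (3, true), (4, true), (72, false), (470, true)]),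
  (192, [(0, true), (1, true), (3, true), (4, true), (75, false), (1151, false)]),
  (193, [(0, true), (1, true), (3, true), (4, true), (977, true), (1482, false)]),
  (194, [(0, true), (1, true), (3, true), (4, true), (6, true), (1482, true)]),
  (195, [(0, true), (1, true), (3, true), (4, true), (6, true)]),
  (196, [(0, true), (1, true), (3, true), (4, true), (75, false)]),
  (197, [(0, true), (1, true), (3, true), (4, true), (74, false)]),
  (198, [(0, true), (1, true), (3, true), (4, true), (611, true)]),
  (199, [(0, true), (1, true), (3, true), (4, true), (977, true)]),
  (200, [(0, true), (1, true), (3, true), (4, true), (425, true)]),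
  (201, [(0, true), (1, true), (3, true), (4, true), (1151, false)]),
  (202, [(0, true), (1, true), (3, true), (4, true), (1615, false)]),
  (203, [(0, true), (1, true), (3, true), (4, true)]),
  (204, [(0, true), (1, true), (3, true), (1778, true), (425, true), (486, false)]),
  (205, [(0, true), (1, true), (3, true), (5, true), (186, false), (1482, true)]),
  (206, [(0, true), (1, true), (3, true), (5, true), (186, false), (2297, true)]),
  (207, [(0, true), (1, true), (3, true), (5, true), (184, false), (425, true)]),
  (208, [(0, true), (1, true), (3, true), (1778, true), (1395, true), (1151, false)]),
  (209, [(0, true), (1, true), (3, true), (5, true), (1395, true)]),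
  (210, [(0, true), (1, true), (3, true), (5, true), (6, true), (1615, true)]),
  (211, [(0, true), (1, true), (3, true), (5, true), (6, true)]),
  (212, [(0, true), (1, true), (3, true), (5, true), (425, true)]),
  (213, [(0, true), (1, true), (3, true), (5, true), (90, false)]),
  (214, [(0, true), (1, true), (3, true), (5, true), (543, true)]),
  (215, [(0, true), (1, true), (3, true), (5, true), (961, true)]),
  (216, [(0, true), (1, true), (3, true), (5, true), (470, false)]),
  (217, [(0, true), (1, true), (3, true), (5, true), (1151, false)]),
  (218, [(0, true), (1, true), (3, true), (5, true), (1482, false)]),
  (219, [(0, true), (1, true), (3, true), (5, true)]),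
  (220, [(0, true), (1, true), (3, true), (6, true), (99, false)]),
  (221, [(0, true), (1, true), (3, true), (1778, true), (425, true)]),
  (222, [(0, true), (1, true), (3, true), (6, true), (82, false)]),
  (223, [(0, true), (1, true), (3, true), (6, true), (1427, true)]),
  (224, [(0, true), (1, true), (3, true), (6, true), (1615, true)]),
  (225, [(0, true), (1, true), (3, true), (1778, true), (1482, true)]),
  (226, [(0, true), (1, true), (3, true), (6, true), (425, false)]),
  (227, [(0, true), (1, true), (3, true), (6, true)]),
  (228, [(0, true), (1, true), (3, true), (1778, true), (1615, false)]),
  (229, [(0, true), (1, true), (3, true), (7, true), (425, true)]),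
  (230, [(0, true), (1, true), (3, true), (7, true), (1482, false)]),
  (231, [(0, true), (1, true), (3, true), (7, true)]),
  (232, [(0, true), (1, true), (3, true), (1778, true)]),
  (233, [(0, true), (1, true), (3, true), (8, true)]),
  (234, [(0, true), (1, true), (3, true), (9, true)]),
  (235, [(0, true), (1, true), (3, true), (10, true)]),
  (236, [(0, true), (1, true), (5, true), (2297, true), (1427, true), (425, false)]),
  (237, [(0, true), (1, true), (5, true), (1936, true), (65, true), (425, false)]),
  (238, [(0, true), (1, true), (5, true), (1778, true), (1427, true)]),
  (239, [(0, true), (1, true), (5, true), (1778, true), (208, false)]),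
  (240, [(0, true), (1, true), (5, true), (1778, true), (1151, true), (1615, true)]),
  (241, [(0, true), (1, true), (5, true), (2297, true), (996, true), (977, false)]),
  (242, [(0, true), (1, true), (5, true), (1778, true), (102, true)]),
  (243, [(0, true), (1, true), (5, true), (1778, true), (996, true)]),
  (244, [(0, true), (1, true), (5, true), (1778, true), (1615, true)]),
  (245, [(0, true), (1, true), (5, true), (4, true), (61, true)]),
  (246, [(0, true), (1, true), (5, true), (4, true), (977, true)]),
  (247, [(0, true), (1, true), (5, true), (4, true), (470, true)]),
  (248, [(0, true), (1, true), (5, true), (4, true), (543, true)]),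
  (249, [(0, true), (1, true), (5, true), (4, true), (425, true)]),
  (250, [(0, true), (1, true), (5, true), (4, true), (1615, true)]),
  (251, [(0, true), (1, true), (5, true), (4, true)]),
  (252, [(0, true), (1, true), (4, true), (6, true), (52, true)]),
  (253, [(0, true), (1, true), (4, true), (6, true), (53, true)]),
  (254, [(0, true), (1, true), (4, true), (6, true), (1936, true)]),
  (255, [(0, true), (1, true), (4, true), (6, true), (1427, true)]),
  (256, [(0, true), (1, true), (4, true), (6, true), (1615, false)]),
  (257, [(0, true), (1, true), (4, true), (6, true), (425, true)]),
  (258, [(0, true), (1, true), (4, true), (6, true), (1482, false)]),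
  (259, [(0, true), (1, true), (4, true), (6, true)]),
  (260, [(0, true), (1, true), (4, true), (7, true), (44, true)]),
  (261, [(0, true), (1, true), (4, true), (7, true), (1482, false)]),
  (262, [(0, true), (1, true), (4, true), (7, true), (425, false)]),
  (263, [(0, true), (1, true), (4, true), (7, true)]),
  (264, [(0, true), (1, true), (4, true), (8, true), (425, false)]),
  (265, [(0, true), (1, true), (4, true), (8, true)]),
  (266, [(0, true), (1, true), (4, true), (9, true)]),
  (267, [(0, true), (1, true), (4, true), (2, false)]),
  (268, [(0, true), (1, true), (5, true), (1778, true), (2297, false)]),
  (269, [(0, true), (1, true), (5, true), (7, true), (1395, true)]),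
  (270, [(0, true), (1, true), (5, true), (7, true), (44, true)]),
  (271, [(0, true), (1, true), (5, true), (7, true), (6, true)]),
  (272, [(0, true), (1, true), (5, true), (1778, true), (1482, true)]),
  (273, [(0, true), (1, true), (5, true), (37, false), (425, true)]),
  (274, [(0, true), (1, true), (5, true), (37, false), (1151, false)]),
  (275, [(0, true), (1, true), (5, true), (37, false)]),
  (276, [(0, true), (1, true), (5, true), (1936, true), (425, false)]),
  (277, [(0, true), (1, true), (5, true), (1778, true), (425, false)]),
  (278, [(0, true), (1, true), (5, true), (7, true), (425, false)]),
  (279, [(0, true), (1, true), (5, true), (7, true)]),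
  (280, [(0, true), (1, true), (5, true), (1936, true), (1615, true)]),
  (281, [(0, true), (1, true), (5, true), (1936, true)]),
  (282, [(0, true), (1, true), (5, true), (9, true)]),
  (283, [(0, true), (1, true), (5, true), (2297, true)]),
  (284, [(0, true), (1, true), (42, false), (1482, true), (554, false)]),
  (285, [(0, true), (1, true), (42, false), (554, false), (1151, true)]),
  (286, [(0, true), (1, true), (42, false), (173, true), (425, false)]),
  (287, [(0, true), (1, true), (42, false), (172, true), (2297, true)]),
  (288, [(0, true), (1, true), (42, false), (961, true), (425, true)]),
  (289, [(0, true), (1, true), (42, false), (53, true), (425, false)]),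
  (290, [(0, true), (1, true), (42, false), (977, true), (425, false)]),
  (291, [(0, true), (1, true), (42, false), (6, true)]),
  (292, [(0, true), (1, true), (42, false), (554, false)]),
  (293, [(0, true), (1, true), (42, false), (53, true)]),
  (294, [(0, true), (1, true), (42, false), (961, true)]),
  (295, [(0, true), (1, true), (42, false), (425, false)]),
  (296, [(0, true), (1, true), (42, false), (470, true)]),
  (297, [(0, true), (1, true), (42, false), (543, false)]),
  (298, [(0, true), (1, true), (42, false), (1482, true)]),
  (299, [(0, true), (1, true), (42, false)]),
  (300, [(0, true), (20, true), (1395, false), (72, true), (1151, true), (1221, true), (1482, false)])]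

def stepsX2 : List (ℕ × List (ℕ × Bool)) := [(301, [(0, true), (20, true), (1395, false), (73, true), (425, true), (1615, true), (2297, false)]),
  (302, [(0, true), (29, true), (54, true), (267, true), (45, true), (1778, false)]),
  (303, [(0, true), (29, true), (51, true), (2297, true), (67, true), (485, true)]),
  (304, [(0, true), (30, true), (45, true), (154, true), (178, true), (1151, true)]),
  (305, [(0, true), (3, true), (113, true), (246, true), (150, true), (1482, true)]),
  (306, [(0, true), (3, true), (108, true), (260, true), (48, true), (2297, true)]),
  (307, [(0, true), (3, true), (113, true), (20, true), (44, true), (611, true)]),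
  (308, [(0, true), (3, true), (108, true), (28, true), (122, true), (1151, true)]),
  (309, [(0, true), (3, true), (108, true), (28, true), (2, true), (4, true)]),
  (310, [(0, true), (3, true), (108, true), (161, true), (64, true), (29, false)]),
  (311, [(0, true), (3, true), (109, true), (1020, true), (149, true), (1482, true)]),
  (312, [(0, true), (3, true), (113, true), (12, true), (1778, true), (2297, true)]),
  (313, [(0, true), (3, true), (113, true), (15, true), (2, true), (1427, true)]),
  (314, [(0, true), (3, true), (119, true), (1020, true), (57, true), (1482, false)]),
  (315, [(0, true), (3, true), (113, true), (1020, true), (154, true), (1482, true)]),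
  (316, [(0, true), (3, true), (108, true), (12, true), (130, true), (1615, false)]),
  (317, [(0, true), (3, true), (108, true), (47, true), (228, true), (425, true)]),
  (318, [(0, true), (3, true), (119, true), (1020, true), (68, true), (1615, false)]),
  (319, [(0, true), (3, true), (113, true), (146, true), (86, true), (1615, true)]),
  (320, [(0, true), (3, true), (113, true), (246, true), (178, true), (1615, true)]),
  (321, [(0, true), (3, true), (113, true), (1020, true), (179, true), (1482, true)]),
  (322, [(0, true), (3, true), (2, true), (4, true), (6, true), (425, false)]),
  (323, [(0, true), (3, true), (2, true), (4, true), (6, true)]),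
  (324, [(0, true), (3, true), (2, true), (4, true), (1020, true)]),
  (325, [(0, true), (3, true), (2, true), (4, true), (75, false)]),
  (326, [(0, true), (3, true), (2, true), (4, true), (977, true)]),
  (327, [(0, true), (3, true), (2, true), (4, true), (611, true)]),
  (328, [(0, true), (3, true), (2, true), (4, true), (425, false)]),
  (329, [(0, true), (3, true), (2, true), (4, true), (2297, true)]),
  (330, [(0, true), (3, true), (2, true), (4, true), (1482, false)]),
  (331, [(0, true), (3, true), (2, true), (4, true)]),
  (332, [(0, true), (3, true), (2, true), (172, true), (26, true), (1482, true)]),
  (333, [(0, true), (3, true), (2, true), (180, true), (34, true), (1615, true)]),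
  (334, [(0, true), (3, true), (2, true), (961, true), (14, true)]),
  (335, [(0, true), (3, true), (2, true), (5, true), (191, true), (1482, true)]),
  (336, [(0, true), (3, true), (2, true), (5, true), (89, false), (425, false)]),
  (337, [(0, true), (3, true), (2, true), (5, true), (86, false), (1615, false)]),
  (338, [(0, true), (3, true), (2, true), (5, true), (6, true), (1482, false)]),
  (339, [(0, true), (3, true), (2, true), (5, true), (6, true)]),
  (340, [(0, true), (3, true), (2, true), (5, true), (90, false)]),
  (341, [(0, true), (3, true), (2, true), (5, true), (91, false)]),
  (342, [(0, true), (3, true), (2, true), (5, true), (961, true)]),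
  (343, [(0, true), (3, true), (2, true), (5, true), (543, true)]),
  (344, [(0, true), (3, true), (2, true), (5, true), (1482, true)]),
  (345, [(0, true), (3, true), (2, true), (5, true), (2297, false)]),
  (346, [(0, true), (3, true), (2, true), (5, true), (425, false)]),
  (347, [(0, true), (3, true), (2, true), (5, true)]),
  (348, [(0, true), (3, true), (2, true), (1482, true), (1427, true)]),
  (349, [(0, true), (3, true), (2, true), (1482, true), (425, false)]),
  (350, [(0, true), (3, true), (2, true), (2297, true), (425, false)]),
  (351, [(0, true), (3, true), (2, true), (6, true), (7, true)]),
  (352, [(0, true), (3, true), (2, true), (6, true), (554, false)]),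
  (353, [(0, true), (3, true), (2, true), (6, true), (1615, true)]),
  (354, [(0, true), (3, true), (2, true), (6, true), (425, false)]),
  (355, [(0, true), (3, true), (2, true), (6, true)]),
  (356, [(0, true), (3, true), (2, true), (1482, true), (2297, false)]),
  (357, [(0, true), (3, true), (2, true), (2297, true), (1482, false)]),
  (358, [(0, true), (3, true), (2, true), (7, true), (425, true)]),
  (359, [(0, true), (3, true), (2, true), (7, true)]),
  (360, [(0, true), (3, true), (2, true), (1482, true)]),
  (361, [(0, true), (3, true), (2, true), (8, true)]),
  (362, [(0, true), (3, true), (2, true), (9, true)]),
  (363, [(0, true), (3, true), (2, true), (10, false)]),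
  (364, [(0, true), (2, true), (1482, true), (19, true), (425, false), (1615, false)]),
  (365, [(0, true), (2, true), (8, true), (1538, true), (174, true)]),
  (366, [(0, true), (2, true), (1615, true), (5, true), (62, true)]),
  (367, [(0, true), (2, true), (17, true), (252, true), (5, true)]),
  (368, [(0, true), (2, true), (4, true), (5, true), (1020, true), (1482, true)]),
  (369, [(0, true), (2, true), (4, true), (5, true), (485, true), (554, false)]),
  (370, [(0, true), (2, true), (4, true), (5, true), (486, true), (1482, false)]),
  (371, [(0, true), (2, true), (1615, true), (5, true), (67, true)]),
  (372, [(0, true), (2, true), (4, true), (5, true), (61, true)]),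
  (373, [(0, true), (2, true), (4, true), (5, true), (1020, true)]),
  (374, [(0, true), (2, true), (1615, true), (5, true), (425, false)]),
  (375, [(0, true), (2, true), (4, true), (5, true), (1221, true)]),
  (376, [(0, true), (2, true), (4, true), (5, true), (543, true)]),
  (377, [(0, true), (2, true), (4, true), (5, true), (2297, true)]),
  (378, [(0, true), (2, true), (4, true), (5, true), (425, false)]),
  (379, [(0, true), (2, true), (4, true), (5, true)]),
  (380, [(0, true), (2, true), (4, true), (6, true), (53, true)]),
  (381, [(0, true), (2, true), (4, true), (6, true), (52, true)]),
  (382, [(0, true), (2, true), (4, true), (6, true), (1427, true)]),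
  (383, [(0, true), (2, true), (4, true), (6, true), (425, false)]),
  (384, [(0, true), (2, true), (4, true), (6, true), (1482, true)]),
  (385, [(0, true), (2, true), (4, true), (6, true), (1615, true)]),
  (386, [(0, true), (2, true), (4, true), (6, true), (2297, true)]),
  (387, [(0, true), (2, true), (4, true), (6, true)]),
  (388, [(0, true), (2, true), (4, true), (7, true), (1615, true)]),
  (389, [(0, true), (2, true), (4, true), (7, true), (2297, true)]),
  (390, [(0, true), (2, true), (4, true), (7, true), (1482, true)]),
  (391, [(0, true), (2, true), (4, true), (7, true)]),
  (392, [(0, true), (2, true), (4, true), (8, true), (1615, false)]),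
  (393, [(0, true), (2, true), (4, true), (8, true)]),
  (394, [(0, true), (2, true), (4, true), (9, true)]),
  (395, [(0, true), (2, true), (4, true), (1, false)]),
  (396, [(0, true), (2, true), (8, true), (1538, true), (75, true)]),
  (397, [(0, true), (2, true), (8, true), (1615, true), (44, true)]),
  (398, [(0, true), (2, true), (29, true), (5, true), (52, true)]),
  (399, [(0, true), (2, true), (29, true), (5, true), (425, false)]),
  (400, [(0, true), (2, true), (41, false), (1020, true), (1615, true)]),
  (401, [(0, true), (2, true), (41, false), (190, true), (1538, true)]),
  (402, [(0, true), (2, true), (41, false), (192, true), (9, true)]),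
  (403, [(0, true), (2, true), (41, false), (425, false), (2297, true)]),
  (404, [(0, true), (2, true), (41, false), (189, true), (51, true)]),
  (405, [(0, true), (2, true), (41, false), (190, true), (2297, true)]),
  (406, [(0, true), (2, true), (41, false), (425, false), (554, false)]),
  (407, [(0, true), (2, true), (41, false), (190, true), (961, true)]),
  (408, [(0, true), (2, true), (41, false), (191, true), (1615, true)]),
  (409, [(0, true), (2, true), (41, false), (190, true), (1482, true)]),
  (410, [(0, true), (2, true), (41, false), (5, true), (470, true)]),
  (411, [(0, true), (2, true), (41, false), (5, true)]),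
  (412, [(0, true), (2, true), (41, false), (189, true), (1482, true)]),
  (413, [(0, true), (2, true), (41, false), (1020, true), (2297, false)]),
  (414, [(0, true), (2, true), (41, false), (1020, true)]),
  (415, [(0, true), (2, true), (41, false), (190, true)]),
  (416, [(0, true), (2, true), (41, false), (48, true), (1482, true)]),
  (417, [(0, true), (2, true), (41, false), (80, true)]),
  (418, [(0, true), (2, true), (41, false), (212, true)]),
  (419, [(0, true), (2, true), (41, false), (1395, false)]),
  (420, [(0, true), (2, true), (41, false), (425, false)]),
  (421, [(0, true), (2, true), (41, false), (1482, true)]),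
  (422, [(0, true), (2, true), (41, false), (1221, true)]),
  (423, [(0, true), (2, true), (41, false), (7, true)]),
  (424, [(0, true), (2, true), (41, false), (1936, false)]),
  (426, [(0, true), (2, true), (41, false), (1615, true)]),
  (427, [(0, true), (2, true), (41, false)]),
  (428, [(0, true), (43, false), (132, true), (57, true), (425, false)]),
  (429, [(0, true), (43, false), (45, true), (109, true), (543, false), (425, true)]),
  (430, [(0, true), (43, false), (45, true), (109, true), (44, true)]),
  (431, [(0, true), (43, false), (45, true), (1151, true), (79, true)]),
  (432, [(0, true), (43, false), (62, true), (57, true), (1482, true)]),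
  (433, [(0, true), (43, false), (45, true), (109, true), (543, false)]),
  (434, [(0, true), (43, false), (87, true), (51, true), (60, true)]),
  (435, [(0, true), (43, false), (48, true), (58, true), (1778, true)]),
  (436, [(0, true), (43, false), (45, true), (50, true), (543, false)]),
  (437, [(0, true), (43, false), (48, true), (61, true), (76, true)]),
  (438, [(0, true), (43, false), (48, true), (58, true), (1482, true)]),
  (439, [(0, true), (43, false), (54, true), (70, true), (49, true)]),
  (440, [(0, true), (43, false), (45, true), (64, true), (1151, true)]),
  (441, [(0, true), (43, false), (48, true), (58, true), (9, false)]),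
  (442, [(0, true), (43, false), (54, true), (57, true), (425, false)]),
  (443, [(0, true), (43, false), (45, true), (50, true), (554, true)]),
  (444, [(0, true), (43, false), (45, true), (50, true), (1427, false)]),
  (445, [(0, true), (43, false), (45, true), (170, true), (4, true)]),
  (446, [(0, true), (43, false), (45, true), (61, true), (1151, true)]),
  (447, [(0, true), (43, false), (45, true), (55, true), (470, true)]),
  (448, [(0, true), (43, false), (46, true), (49, true), (1151, true)]),
  (449, [(0, true), (43, false), (47, true), (48, true), (554, false)]),
  (450, [(0, true), (43, false), (48, true), (71, true), (425, false)]),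
  (451, [(0, true), (43, false), (45, true), (50, true), (425, false)])]

def stepsX3 : List (ℕ × List (ℕ × Bool)) := [(452, [(0, true), (43, false), (44, true), (54, true), (554, false)]),
  (453, [(0, true), (43, false), (45, true), (55, true), (1482, false)]),
  (454, [(0, true), (43, false), (46, true), (52, true), (1482, true)]),
  (455, [(0, true), (43, false), (54, true), (66, true), (425, true)]),
  (456, [(0, true), (43, false), (54, true), (57, true), (1615, false)]),
  (457, [(0, true), (43, false), (49, true), (59, true), (1482, false)]),
  (458, [(0, true), (43, false), (52, true), (59, true), (470, true)]),
  (459, [(0, true), (43, false), (51, true), (57, true), (486, true)]),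
  (460, [(0, true), (43, false), (48, true), (50, true), (554, false)]),
  (461, [(0, true), (43, false), (45, true), (61, true), (2297, false)]),
  (462, [(0, true), (43, false), (48, true), (50, true), (425, false)]),
  (463, [(0, true), (43, false), (54, true), (55, true), (425, false)]),
  (464, [(0, true), (43, false), (48, true), (64, true), (1615, true)]),
  (465, [(0, true), (43, false), (56, true), (57, true), (1482, true)]),
  (466, [(0, true), (43, false), (46, true), (44, true), (425, false)]),
  (467, [(0, true), (43, false), (54, true), (3, true), (486, false)]),
  (468, [(0, true), (43, false), (45, true), (1151, true), (611, true)]),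
  (469, [(0, true), (43, false), (45, true), (44, true), (1615, true)]),
  (471, [(0, true), (43, false), (3, true), (46, true), (1615, false)]),
  (472, [(0, true), (43, false), (3, true), (45, true), (1615, false)]),
  (473, [(0, true), (43, false), (3, true), (48, true), (1615, true)]),
  (474, [(0, true), (43, false), (3, true), (5, true), (425, false)]),
  (475, [(0, true), (43, false), (3, true), (5, true)]),
  (476, [(0, true), (43, false), (3, true), (44, true), (1482, true)]),
  (477, [(0, true), (43, false), (3, true), (486, false), (1482, true)]),
  (478, [(0, true), (43, false), (3, true), (485, false), (425, false)]),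
  (479, [(0, true), (43, false), (3, true), (47, true), (425, false)]),
  (480, [(0, true), (43, false), (3, true), (48, true)]),
  (481, [(0, true), (43, false), (3, true), (232, false)]),
  (482, [(0, true), (43, false), (3, true), (235, false)]),
  (483, [(0, true), (43, false), (3, true), (1395, false)]),
  (484, [(0, true), (43, false), (3, true), (554, false)]),
  (487, [(0, true), (43, false), (3, true), (1221, true)]),
  (488, [(0, true), (43, false), (3, true), (485, false)]),
  (489, [(0, true), (43, false), (3, true), (425, true)]),
  (490, [(0, true), (43, false), (3, true), (1615, false)]),
  (491, [(0, true), (43, false), (3, true)]),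
  (492, [(0, true), (43, false), (1151, true), (543, false), (2297, true)]),
  (493, [(0, true), (43, false), (45, true), (1615, true), (425, false)]),
  (494, [(0, true), (43, false), (45, true), (50, true), (1482, false)]),
  (495, [(0, true), (43, false), (56, true), (104, true)]),
  (496, [(0, true), (43, false), (1615, true), (48, true), (425, false)]),
  (497, [(0, true), (43, false), (1151, true), (45, true), (425, true)]),
  (498, [(0, true), (43, false), (49, true), (46, true)]),
  (499, [(0, true), (43, false), (48, true), (47, true)]),
  (500, [(0, true), (43, false), (48, true), (85, true), (1482, false)]),
  (501, [(0, true), (43, false), (554, false), (1615, true), (1482, false)]),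
  (502, [(0, true), (43, false), (49, true), (53, true), (425, true)]),
  (503, [(0, true), (43, false), (1151, true), (45, true)]),
  (504, [(0, true), (43, false), (52, true), (59, true)]),
  (505, [(0, true), (43, false), (554, false), (243, true)]),
  (507, [(0, true), (43, false), (543, false), (246, true)]),
  (508, [(0, true), (43, false), (554, false), (16, false), (2297, true)]),
  (509, [(0, true), (43, false), (554, false), (92, true)]),
  (510, [(0, true), (43, false), (554, false), (13, false)]),
  (511, [(0, true), (43, false), (108, true), (94, true)]),
  (512, [(0, true), (43, false), (56, true), (60, true)]),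
  (513, [(0, true), (43, false), (52, true), (90, true)]),
  (514, [(0, true), (43, false), (52, true), (55, true)]),
  (515, [(0, true), (43, false), (4, true), (6, true)]),
  (516, [(0, true), (43, false), (4, true), (57, true)]),
  (517, [(0, true), (43, false), (4, true), (506, false)]),
  (518, [(0, true), (43, false), (4, true), (59, true)]),
  (519, [(0, true), (43, false), (4, true), (977, true)]),
  (520, [(0, true), (43, false), (4, true), (1538, true)]),
  (521, [(0, true), (43, false), (4, true), (425, false)]),
  (522, [(0, true), (43, false), (4, true), (1482, false)]),
  (523, [(0, true), (43, false), (4, true)]),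
  (524, [(0, true), (43, false), (554, false), (45, true)]),
  (525, [(0, true), (43, false), (66, true), (67, true)]),
  (526, [(0, true), (43, false), (69, true), (506, false)]),
  (527, [(0, true), (43, false), (554, false), (14, false)]),
  (528, [(0, true), (43, false), (554, false), (9, true)]),
  (529, [(0, true), (43, false), (62, true), (1482, true)]),
  (530, [(0, true), (43, false), (75, true), (470, false)]),
  (531, [(0, true), (43, false), (61, true), (961, true)]),
  (532, [(0, true), (43, false), (61, true), (1538, false)]),
  (533, [(0, true), (43, false), (554, false), (425, false)]),
  (534, [(0, true), (43, false), (61, true), (2297, false)]),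
  (535, [(0, true), (43, false), (62, true), (425, false)]),
  (536, [(0, true), (43, false), (63, true), (470, false)]),
  (537, [(0, true), (43, false), (62, true), (1615, false)]),
  (538, [(0, true), (43, false), (5, true), (1615, false)]),
  (539, [(0, true), (43, false), (5, true)]),
  (540, [(0, true), (43, false), (61, true)]),
  (541, [(0, true), (43, false), (60, true), (1482, true)]),
  (542, [(0, true), (43, false), (63, true), (425, false)]),
  (544, [(0, true), (43, false), (1395, false), (1615, false)]),
  (545, [(0, true), (43, false), (1395, false)]),
  (546, [(0, true), (43, false), (87, true)]),
  (547, [(0, true), (43, false), (6, true)]),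
  (548, [(0, true), (43, false), (543, false)]),
  (549, [(0, true), (43, false), (1020, true)]),
  (550, [(0, true), (43, false), (425, false)]),
  (551, [(0, true), (43, false), (1151, true)]),
  (552, [(0, true), (43, false), (1482, true)]),
  (553, [(0, true), (43, false), (1615, true)]),
  (555, [(0, true), (43, false)]),
  (556, [(13, true), (54, true), (163, true), (58, true), (191, true), (1482, false)]),
  (557, [(10, true), (81, true), (100, true), (177, true), (25, true)]),
  (558, [(3, true), (108, true), (161, true), (82, true), (7, true), (425, true)]),
  (559, [(3, true), (108, true), (131, true), (260, true), (1395, true), (977, true)]),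
  (560, [(3, true), (108, true), (159, true), (50, true), (1538, true), (0, false)]),
  (561, [(3, true), (276, true), (155, true), (221, true), (12, true), (425, true)]),
  (562, [(3, true), (6, true), (54, true), (265, true), (243, true)]),
  (563, [(3, true), (6, true), (58, true), (119, true), (106, true), (1482, false)]),
  (564, [(3, true), (276, true), (1427, true), (18, true), (485, true)]),
  (565, [(3, true), (1, true), (112, true), (554, true), (103, true), (1482, true)]),
  (566, [(3, true), (1, true), (117, true), (543, true), (98, true), (554, false)]),
  (567, [(3, true), (1, true), (117, true), (31, true), (2, true), (1615, true)]),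
  (568, [(3, true), (1, true), (108, true), (115, true), (27, true), (1615, false)]),
  (569, [(3, true), (1, true), (108, true), (159, true), (48, true), (977, true)]),
  (570, [(3, true), (1, true), (113, true), (110, true), (16, true), (1482, true)]),
  (571, [(3, true), (1, true), (110, true), (2297, true), (35, true), (425, false)]),
  (572, [(3, true), (1, true), (108, true), (470, true), (1020, true), (1482, false)]),
  (573, [(3, true), (1, true), (117, true), (554, true), (63, true), (1615, true)]),
  (574, [(3, true), (1, true), (108, true), (543, true), (98, true), (425, true)]),
  (575, [(3, true), (1, true), (2, true), (4, true), (221, true), (425, false)]),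
  (576, [(3, true), (1, true), (108, true), (2, true), (4, true), (1615, true)]),
  (577, [(3, true), (1, true), (2, true), (4, true), (977, true), (1482, false)]),
  (578, [(3, true), (1, true), (2, true), (4, true), (1395, true), (1482, true)]),
  (579, [(3, true), (1, true), (2, true), (4, true), (1395, true)]),
  (580, [(3, true), (1, true), (2, true), (4, true), (75, false)]),
  (581, [(3, true), (1, true), (2, true), (4, true), (485, true)]),
  (582, [(3, true), (1, true), (2, true), (4, true), (486, true)]),
  (583, [(3, true), (1, true), (2, true), (4, true), (977, true)]),
  (584, [(3, true), (1, true), (2, true), (4, true), (425, true)]),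
  (585, [(3, true), (1, true), (2, true), (4, true), (1221, false)]),
  (586, [(3, true), (1, true), (2, true), (4, true), (2297, true)]),
  (587, [(3, true), (1, true), (2, true), (4, true)]),
  (588, [(3, true), (1, true), (2, true), (172, true), (24, true), (1482, false)]),
  (589, [(3, true), (1, true), (2, true), (172, true), (32, true)]),
  (590, [(3, true), (1, true), (2, true), (172, true), (18, true)]),
  (591, [(3, true), (1, true), (2, true), (175, true), (425, false), (2297, false)]),
  (592, [(3, true), (1, true), (2, true), (6, true), (92, false)]),
  (593, [(3, true), (1, true), (2, true), (6, true), (180, true)]),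
  (594, [(3, true), (1, true), (2, true), (6, true), (117, true)]),
  (595, [(3, true), (1, true), (2, true), (6, true), (5, true)]),
  (596, [(3, true), (1, true), (2, true), (5, true), (91, false)]),
  (597, [(3, true), (1, true), (2, true), (5, true), (554, true)]),
  (598, [(3, true), (1, true), (2, true), (5, true), (1427, false)]),
  (599, [(3, true), (1, true), (2, true), (5, true), (961, true)]),
  (600, [(3, true), (1, true), (2, true), (5, true), (977, true)]),
  (601, [(3, true), (1, true), (2, true), (5, true), (1615, true)]),
  (602, [(3, true), (1, true), (2, true), (5, true), (425, true)]),
  (603, [(3, true), (1, true), (2, true), (5, true)]),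
  (604, [(3, true), (1, true), (2, true), (6, true), (99, false)]),
  (605, [(3, true), (1, true), (2, true), (6, true), (1020, true)]),
  (606, [(3, true), (1, true), (2, true), (6, true), (1615, true)]),
  (607, [(3, true), (1, true), (2, true), (6, true), (7, true)])]

def stepsX4 : List (ℕ × List (ℕ × Bool)) := [(608, [(3, true), (1, true), (2, true), (6, true), (543, true)]),
  (609, [(3, true), (1, true), (2, true), (6, true), (425, true)]),
  (610, [(3, true), (1, true), (2, true), (6, true)]),
  (612, [(3, true), (1, true), (2, true), (9, true), (543, true)]),
  (613, [(3, true), (1, true), (2, true), (14, true), (1151, true)]),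
  (614, [(3, true), (1, true), (2, true), (2297, true), (1482, false)]),
  (615, [(3, true), (1, true), (2, true), (14, true)]),
  (616, [(3, true), (1, true), (2, true), (9, true), (425, true)]),
  (617, [(3, true), (1, true), (2, true), (15, true)]),
  (618, [(3, true), (1, true), (2, true), (9, true)]),
  (619, [(3, true), (1, true), (2, true), (2297, true)]),
  (620, [(1, true), (2, true), (961, true), (1221, true), (240, true)]),
  (621, [(1, true), (2, true), (6, true), (2297, true), (249, true)]),
  (622, [(1, true), (2, true), (6, true), (1221, true), (58, true), (1151, false)]),
  (623, [(1, true), (2, true), (6, true), (245, true), (7, true), (425, true)]),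
  (624, [(1, true), (2, true), (6, true), (1221, true), (52, true), (1615, false)]),
  (625, [(1, true), (2, true), (6, true), (1221, true), (52, true)]),
  (626, [(1, true), (2, true), (6, true), (4, true), (5, true), (1482, false)]),
  (627, [(1, true), (2, true), (6, true), (4, true), (5, true)]),
  (628, [(1, true), (2, true), (4, true), (5, true), (1020, true)]),
  (629, [(1, true), (2, true), (4, true), (5, true), (61, true)]),
  (630, [(1, true), (2, true), (4, true), (5, true), (977, true)]),
  (631, [(1, true), (2, true), (4, true), (5, true), (611, true)]),
  (632, [(1, true), (2, true), (4, true), (5, true), (51, true)]),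
  (633, [(1, true), (2, true), (4, true), (5, true), (425, true)]),
  (634, [(1, true), (2, true), (4, true), (5, true), (2297, true)]),
  (635, [(1, true), (2, true), (4, true), (5, true)]),
  (636, [(1, true), (2, true), (4, true), (6, true), (52, true)]),
  (637, [(1, true), (2, true), (4, true), (6, true), (425, true)]),
  (638, [(1, true), (2, true), (4, true), (6, true), (1427, true)]),
  (639, [(1, true), (2, true), (4, true), (6, true), (543, true)]),
  (640, [(1, true), (2, true), (4, true), (6, true), (1020, true)]),
  (641, [(1, true), (2, true), (4, true), (6, true), (2297, true)]),
  (642, [(1, true), (2, true), (4, true), (6, true), (1482, false)]),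
  (643, [(1, true), (2, true), (4, true), (6, true)]),
  (644, [(1, true), (2, true), (4, true), (7, true), (485, true)]),
  (645, [(1, true), (2, true), (4, true), (7, true), (1482, false)]),
  (646, [(1, true), (2, true), (4, true), (7, true), (425, true)]),
  (647, [(1, true), (2, true), (4, true), (7, true)]),
  (648, [(1, true), (2, true), (4, true), (8, true), (425, false)]),
  (649, [(1, true), (2, true), (4, true), (8, true)]),
  (650, [(1, true), (2, true), (4, true), (9, true)]),
  (651, [(1, true), (2, true), (4, true), (0, false)]),
  (652, [(1, true), (2, true), (6, true), (5, true), (1020, true)]),
  (653, [(1, true), (2, true), (6, true), (5, true), (470, true)]),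
  (654, [(1, true), (2, true), (6, true), (5, true), (72, true)]),
  (655, [(1, true), (2, true), (6, true), (5, true), (7, true)]),
  (656, [(1, true), (2, true), (6, true), (5, true), (1482, true)]),
  (657, [(1, true), (2, true), (6, true), (5, true), (2297, false)]),
  (658, [(1, true), (2, true), (6, true), (5, true), (425, false)]),
  (659, [(1, true), (2, true), (6, true), (5, true)]),
  (660, [(1, true), (2, true), (5, true), (7, true), (1538, true)]),
  (661, [(1, true), (2, true), (5, true), (7, true), (425, true)]),
  (662, [(1, true), (2, true), (5, true), (7, true), (1482, true)]),
  (663, [(1, true), (2, true), (5, true), (7, true)]),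
  (664, [(1, true), (2, true), (5, true), (8, true), (425, false)]),
  (665, [(1, true), (2, true), (5, true), (8, true)]),
  (666, [(1, true), (2, true), (5, true), (9, true)]),
  (667, [(1, true), (2, true), (5, true), (1151, true)]),
  (668, [(1, true), (2, true), (41, false), (1482, true), (977, true)]),
  (669, [(1, true), (2, true), (41, false), (186, true), (486, true)]),
  (670, [(1, true), (2, true), (41, false), (187, true), (2297, false)]),
  (671, [(1, true), (2, true), (41, false), (184, true), (1482, false)]),
  (672, [(1, true), (2, true), (41, false), (543, true), (1482, true)]),
  (673, [(1, true), (2, true), (41, false), (1395, true)]),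
  (674, [(1, true), (2, true), (41, false), (6, true), (425, true)]),
  (675, [(1, true), (2, true), (41, false), (6, true)]),
  (676, [(1, true), (2, true), (41, false), (50, true)]),
  (677, [(1, true), (2, true), (41, false), (51, true)]),
  (678, [(1, true), (2, true), (41, false), (961, true)]),
  (679, [(1, true), (2, true), (41, false), (543, true)]),
  (680, [(1, true), (2, true), (41, false), (1615, true)]),
  (681, [(1, true), (2, true), (41, false), (1151, true)]),
  (682, [(1, true), (2, true), (41, false), (425, false)]),
  (683, [(1, true), (2, true), (41, false)]),
  (684, [(1, true), (42, false), (425, true), (1615, true), (49, true), (2297, true)]),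
  (685, [(1, true), (42, false), (1427, true), (554, true), (2297, true), (425, false)]),
  (686, [(1, true), (42, false), (48, true), (108, true), (554, true)]),
  (687, [(1, true), (42, false), (1427, true), (425, true), (554, true)]),
  (688, [(1, true), (42, false), (425, true), (50, true), (977, true), (2297, true)]),
  (689, [(1, true), (42, false), (554, true), (44, true), (51, true)]),
  (690, [(1, true), (42, false), (554, true), (44, true), (470, true)]),
  (691, [(1, true), (42, false), (425, true), (56, true), (485, true)]),
  (692, [(1, true), (42, false), (1427, true), (425, true), (1538, true), (1482, true)]),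
  (693, [(1, true), (42, false), (46, true), (49, true), (485, true)]),
  (694, [(1, true), (42, false), (1427, true), (425, true), (83, true)]),
  (695, [(1, true), (42, false), (44, true), (51, true), (45, true)]),
  (696, [(1, true), (42, false), (44, true), (51, true), (543, true)]),
  (697, [(1, true), (42, false), (45, true), (50, true), (554, true)]),
  (698, [(1, true), (42, false), (44, true), (46, true), (1936, true)]),
  (699, [(1, true), (42, false), (45, true), (47, true), (1482, true)]),
  (700, [(1, true), (42, false), (1427, true), (47, true), (60, true)]),
  (701, [(1, true), (42, false), (45, true), (52, true), (977, true)]),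
  (702, [(1, true), (42, false), (1427, true), (425, true), (1778, true)]),
  (703, [(1, true), (42, false), (44, true), (51, true), (425, true)]),
  (704, [(1, true), (42, false), (44, true), (51, true), (611, true)]),
  (705, [(1, true), (42, false), (45, true), (50, true), (611, true)]),
  (706, [(1, true), (42, false), (46, true), (49, true), (425, false)]),
  (707, [(1, true), (42, false), (47, true), (48, true), (961, true)]),
  (708, [(1, true), (42, false), (45, true), (52, true), (425, false)]),
  (709, [(1, true), (42, false), (1427, true), (425, true), (1936, true)]),
  (710, [(1, true), (42, false), (47, true), (54, true), (977, true)]),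
  (711, [(1, true), (42, false), (1427, true), (425, true), (1395, false)]),
  (712, [(1, true), (42, false), (425, true), (1936, true), (1482, true)]),
  (713, [(1, true), (42, false), (48, true), (57, true), (2297, true)]),
  (714, [(1, true), (42, false), (51, true), (58, true), (1615, false)]),
  (715, [(1, true), (42, false), (50, true), (59, true), (1615, true)]),
  (716, [(1, true), (42, false), (44, true), (46, true), (543, true)]),
  (717, [(1, true), (42, false), (44, true), (56, true), (961, true)]),
  (718, [(1, true), (42, false), (44, true), (46, true), (1151, false)]),
  (719, [(1, true), (42, false), (45, true), (47, true), (1615, true)]),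
  (720, [(1, true), (42, false), (1427, true), (48, true), (1221, true)]),
  (721, [(1, true), (42, false), (425, true), (61, true), (1778, false)]),
  (722, [(1, true), (42, false), (1427, true), (48, true), (996, true)]),
  (723, [(1, true), (42, false), (49, true), (51, true), (554, false)]),
  (724, [(1, true), (42, false), (49, true), (53, true), (977, true)]),
  (725, [(1, true), (42, false), (3, true), (48, true), (2297, true)]),
  (726, [(1, true), (42, false), (3, true), (425, true), (1395, true)]),
  (727, [(1, true), (42, false), (3, true), (5, true), (7, true)]),
  (728, [(1, true), (42, false), (3, true), (5, true), (2297, true)]),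
  (729, [(1, true), (42, false), (3, true), (5, true), (611, true)]),
  (730, [(1, true), (42, false), (3, true), (5, true), (1482, true)]),
  (731, [(1, true), (42, false), (3, true), (5, true)]),
  (732, [(1, true), (42, false), (3, true), (1482, true), (485, true)]),
  (733, [(1, true), (42, false), (3, true), (60, true), (1615, true)]),
  (734, [(1, true), (42, false), (3, true), (60, true), (425, false)]),
  (735, [(1, true), (42, false), (3, true), (61, true), (1615, false)]),
  (736, [(1, true), (42, false), (3, true), (1395, true), (1482, true)]),
  (737, [(1, true), (42, false), (3, true), (1395, true)]),
  (738, [(1, true), (42, false), (3, true), (506, true), (2297, false)]),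
  (739, [(1, true), (42, false), (3, true), (6, true)]),
  (740, [(1, true), (42, false), (3, true), (51, true)]),
  (741, [(1, true), (42, false), (3, true), (50, true)]),
  (742, [(1, true), (42, false), (3, true), (49, true)]),
  (743, [(1, true), (42, false), (3, true), (7, true)]),
  (744, [(1, true), (42, false), (3, true), (1615, true)]),
  (745, [(1, true), (42, false), (3, true), (2297, true)]),
  (746, [(1, true), (42, false), (3, true), (425, false)]),
  (747, [(1, true), (42, false), (3, true)]),
  (748, [(1, true), (42, false), (425, true), (45, true), (486, false)]),
  (749, [(1, true), (42, false), (60, true), (77, true), (1615, true)]),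
  (750, [(1, true), (42, false), (107, true), (105, true)]),
  (751, [(1, true), (42, false), (104, true), (106, true)]),
  (752, [(1, true), (42, false), (1427, true), (1221, true), (485, true)]),
  (753, [(1, true), (42, false), (485, true), (44, true), (1482, false)]),
  (754, [(1, true), (42, false), (485, true), (58, true), (425, true)]),
  (755, [(1, true), (42, false), (486, true), (50, true), (425, true)]),
  (756, [(1, true), (42, false), (44, true), (53, true)]),
  (757, [(1, true), (42, false), (486, true), (68, true), (425, true)]),
  (758, [(1, true), (42, false), (485, true), (71, true), (1482, true)])]

def stepsX5 : List (ℕ × List (ℕ × Bool)) := [(759, [(1, true), (42, false), (64, true), (70, true), (1151, false)]),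
  (760, [(1, true), (42, false), (425, true), (69, true)]),
  (761, [(1, true), (42, false), (62, true), (72, true)]),
  (762, [(1, true), (42, false), (65, true), (71, true)]),
  (763, [(1, true), (42, false), (1427, true), (176, true), (1482, true)]),
  (764, [(1, true), (42, false), (61, true), (44, true)]),
  (765, [(1, true), (42, false), (60, true), (45, true)]),
  (766, [(1, true), (42, false), (60, true), (56, true)]),
  (767, [(1, true), (42, false), (61, true), (57, true)]),
  (768, [(1, true), (42, false), (61, true), (54, true)]),
  (769, [(1, true), (42, false), (60, true), (55, true)]),
  (770, [(1, true), (42, false), (4, true), (1395, true), (1482, true)]),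
  (771, [(1, true), (42, false), (4, true), (1395, true)]),
  (772, [(1, true), (42, false), (4, true), (485, true)]),
  (773, [(1, true), (42, false), (4, true), (470, true)]),
  (774, [(1, true), (42, false), (4, true), (977, true)]),
  (775, [(1, true), (42, false), (4, true), (611, true)]),
  (776, [(1, true), (42, false), (4, true), (1482, false)]),
  (777, [(1, true), (42, false), (4, true), (425, true)]),
  (778, [(1, true), (42, false), (4, true), (1151, false)]),
  (779, [(1, true), (42, false), (4, true)]),
  (780, [(1, true), (42, false), (425, true), (93, true)]),
  (781, [(1, true), (42, false), (74, true), (75, true)]),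
  (782, [(1, true), (42, false), (75, true), (425, true)]),
  (783, [(1, true), (42, false), (72, true), (1427, true)]),
  (784, [(1, true), (42, false), (53, true), (56, true)]),
  (785, [(1, true), (42, false), (425, true), (15, false)]),
  (786, [(1, true), (42, false), (55, true), (57, true)]),
  (787, [(1, true), (42, false), (54, true), (2297, true)]),
  (788, [(1, true), (42, false), (52, true), (554, false)]),
  (789, [(1, true), (42, false), (425, true), (1395, true)]),
  (790, [(1, true), (42, false), (1427, true), (961, true)]),
  (791, [(1, true), (42, false), (5, true), (7, true)]),
  (792, [(1, true), (42, false), (5, true), (470, true)]),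
  (793, [(1, true), (42, false), (5, true), (1615, true)]),
  (794, [(1, true), (42, false), (5, true), (1482, false)]),
  (795, [(1, true), (42, false), (5, true)]),
  (796, [(1, true), (42, false), (506, true), (1020, true)]),
  (797, [(1, true), (42, false), (1395, true), (1482, true)]),
  (798, [(1, true), (42, false), (59, true), (425, false)]),
  (799, [(1, true), (42, false), (56, true), (2297, true)]),
  (800, [(1, true), (42, false), (69, true), (2297, false)]),
  (801, [(1, true), (42, false), (977, true), (1482, true)]),
  (802, [(1, true), (42, false), (1395, true), (1615, true)]),
  (803, [(1, true), (42, false), (1395, true)]),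
  (804, [(1, true), (42, false), (54, true)]),
  (805, [(1, true), (42, false), (55, true)]),
  (806, [(1, true), (42, false), (51, true)]),
  (807, [(1, true), (42, false), (543, true)]),
  (808, [(1, true), (42, false), (2297, true)]),
  (809, [(1, true), (42, false), (425, true)]),
  (810, [(1, true), (42, false), (1482, false)]),
  (811, [(1, true), (42, false)]),
  (812, [(10, true), (33, false), (62, true), (196, true), (554, true)]),
  (813, [(20, true), (23, false), (52, true), (78, true), (48, true)]),
  (814, [(10, true), (33, false), (1395, true), (47, true), (9, true), (1482, false)]),
  (815, [(3, true), (40, false), (1395, true), (54, true), (425, true)]),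
  (816, [(3, true), (40, false), (1395, true), (46, true), (1778, true)]),
  (817, [(3, true), (40, false), (1395, true), (47, true), (142, false)]),
  (818, [(3, true), (40, false), (1151, true), (124, true), (47, true)]),
  (819, [(3, true), (40, false), (166, true), (47, true), (58, true)]),
  (820, [(3, true), (40, false), (1151, true), (425, true), (44, true)]),
  (821, [(3, true), (40, false), (166, true), (275, true), (46, true)]),
  (822, [(3, true), (40, false), (45, true), (46, true), (4, true)]),
  (823, [(3, true), (40, false), (46, true), (1778, true), (1936, true)]),
  (824, [(3, true), (40, false), (221, true), (227, true), (961, false)]),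
  (825, [(3, true), (40, false), (1151, true), (135, true), (49, true)]),
  (826, [(3, true), (40, false), (49, true), (50, true), (4, true)]),
  (827, [(3, true), (40, false), (54, true), (425, true), (1538, true)]),
  (828, [(3, true), (40, false), (1151, true), (124, true), (977, false)]),
  (829, [(3, true), (40, false), (49, true), (63, true), (1615, true)]),
  (830, [(3, true), (40, false), (59, true), (46, true), (2297, true)]),
  (831, [(3, true), (40, false), (45, true), (56, true), (53, true)]),
  (832, [(3, true), (40, false), (58, true), (50, true), (425, true)]),
  (833, [(3, true), (40, false), (1151, true), (111, true), (486, false)]),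
  (834, [(3, true), (40, false), (62, true), (48, true), (554, true)]),
  (835, [(3, true), (40, false), (62, true), (75, true), (996, false)]),
  (836, [(3, true), (40, false), (49, true), (63, true), (543, true)]),
  (837, [(3, true), (40, false), (62, true), (48, true), (1151, false)]),
  (838, [(3, true), (40, false), (62, true), (75, true), (425, false)]),
  (839, [(3, true), (40, false), (62, true), (75, true), (1482, false)]),
  (840, [(3, true), (40, false), (52, true), (74, true), (425, false)]),
  (841, [(3, true), (40, false), (276, true), (233, true), (425, true)]),
  (842, [(3, true), (40, false), (1151, true), (543, true), (961, false)]),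
  (843, [(3, true), (40, false), (276, true), (49, true), (554, false)]),
  (844, [(3, true), (40, false), (1151, true), (48, true), (2, true)]),
  (845, [(3, true), (40, false), (46, true), (61, true), (554, true)]),
  (846, [(3, true), (40, false), (46, true), (44, true), (543, true)]),
  (847, [(3, true), (40, false), (1395, true), (47, true), (1482, false), (1615, false)]),
  (848, [(3, true), (40, false), (1395, true), (47, true), (961, false)]),
  (849, [(3, true), (40, false), (1395, true), (46, true), (1482, true)]),
  (850, [(3, true), (40, false), (45, true), (996, false), (425, false)]),
  (851, [(3, true), (40, false), (49, true), (260, true), (1615, false)]),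
  (852, [(3, true), (40, false), (48, true), (2, true), (543, true)]),
  (853, [(3, true), (40, false), (49, true), (2, true), (425, true)]),
  (854, [(3, true), (40, false), (50, true), (2, true), (1151, false)]),
  (855, [(3, true), (40, false), (2, true), (51, true), (2297, true)]),
  (856, [(3, true), (40, false), (2, true), (44, true), (425, false)]),
  (857, [(3, true), (40, false), (2, true), (5, true), (1482, true)]),
  (858, [(3, true), (40, false), (2, true), (5, true), (425, false)]),
  (859, [(3, true), (40, false), (2, true), (5, true)]),
  (860, [(3, true), (40, false), (2, true), (44, true), (1482, true)]),
  (861, [(3, true), (40, false), (2, true), (45, true), (1482, true)]),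
  (862, [(3, true), (40, false), (2, true), (46, true), (425, false)]),
  (863, [(3, true), (40, false), (2, true), (506, true), (425, false)]),
  (864, [(3, true), (40, false), (2, true), (48, true), (1482, true)]),
  (865, [(3, true), (40, false), (2, true), (49, true), (1482, true)]),
  (866, [(3, true), (40, false), (2, true), (543, true), (425, true)]),
  (867, [(3, true), (40, false), (2, true), (6, true)]),
  (868, [(3, true), (40, false), (2, true), (50, true)]),
  (869, [(3, true), (40, false), (2, true), (51, true)]),
  (870, [(3, true), (40, false), (2, true), (48, true)]),
  (871, [(3, true), (40, false), (2, true), (425, false)]),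
  (872, [(3, true), (40, false), (2, true), (1020, true)]),
  (873, [(3, true), (40, false), (2, true), (1482, true)]),
  (874, [(3, true), (40, false), (2, true), (2297, false)]),
  (875, [(3, true), (40, false), (2, true)]),
  (876, [(2, true), (41, false), (1395, true), (100, true), (1615, false)]),
  (877, [(2, true), (41, false), (1395, true), (101, true), (425, true)]),
  (878, [(2, true), (41, false), (1615, true), (48, true), (425, false)]),
  (879, [(2, true), (41, false), (104, true), (106, true)]),
  (880, [(2, true), (41, false), (104, true), (261, true)]),
  (881, [(2, true), (41, false), (100, true), (265, true)]),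
  (882, [(2, true), (41, false), (1395, true), (101, true)]),
  (883, [(2, true), (41, false), (1395, true), (100, true)]),
  (884, [(2, true), (41, false), (103, true), (96, true)]),
  (885, [(2, true), (41, false), (102, true), (97, true)]),
  (886, [(2, true), (41, false), (101, true), (98, true)]),
  (887, [(2, true), (41, false), (100, true), (99, true)]),
  (888, [(2, true), (41, false), (48, true), (57, true)]),
  (889, [(2, true), (41, false), (44, true), (78, true), (425, true)]),
  (890, [(2, true), (41, false), (1427, true), (272, true), (1482, false)]),
  (891, [(2, true), (41, false), (1615, true), (46, true), (1482, true)]),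
  (892, [(2, true), (41, false), (1615, true), (66, true), (2297, true)]),
  (893, [(2, true), (41, false), (45, true), (60, true)]),
  (894, [(2, true), (41, false), (45, true), (64, true)]),
  (895, [(2, true), (41, false), (44, true), (65, true)]),
  (896, [(2, true), (41, false), (46, true), (215, true)]),
  (897, [(2, true), (41, false), (47, true), (214, true)]),
  (898, [(2, true), (41, false), (4, true), (6, true), (470, false)]),
  (899, [(2, true), (41, false), (4, true), (6, true)]),
  (900, [(2, true), (41, false), (4, true), (470, true)]),
  (901, [(2, true), (41, false), (4, true), (485, true)]),
  (902, [(2, true), (41, false), (4, true), (486, true)]),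
  (903, [(2, true), (41, false), (4, true), (7, true)]),
  (904, [(2, true), (41, false), (4, true), (51, true)]),
  (905, [(2, true), (41, false), (4, true), (1615, true)]),
  (906, [(2, true), (41, false), (4, true), (425, true)]),
  (907, [(2, true), (41, false), (4, true)]),
  (908, [(2, true), (41, false), (2297, true), (425, false), (1482, true)])]

def stepsX6 : List (ℕ × List (ℕ × Bool)) := [(909, [(2, true), (41, false), (1395, true), (1615, true), (425, false)]),
  (910, [(2, true), (41, false), (73, true), (470, true)]),
  (911, [(2, true), (41, false), (72, true), (1936, true)]),
  (912, [(2, true), (41, false), (72, true), (1151, false)]),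
  (913, [(2, true), (41, false), (68, true), (2297, true)]),
  (914, [(2, true), (41, false), (69, true), (1151, true)]),
  (915, [(2, true), (41, false), (68, true), (554, true)]),
  (916, [(2, true), (41, false), (71, true), (1151, true)]),
  (917, [(2, true), (41, false), (70, true), (425, false)]),
  (918, [(2, true), (41, false), (69, true), (2297, true)]),
  (919, [(2, true), (41, false), (68, true), (543, false)]),
  (920, [(2, true), (41, false), (75, true), (1151, false)]),
  (921, [(2, true), (41, false), (5, true), (425, true)]),
  (922, [(2, true), (41, false), (5, true), (2297, false)]),
  (923, [(2, true), (41, false), (5, true)]),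
  (924, [(2, true), (41, false), (61, true), (425, false)]),
  (925, [(2, true), (41, false), (60, true), (1482, true)]),
  (926, [(2, true), (41, false), (63, true), (425, false)]),
  (927, [(2, true), (41, false), (62, true), (1482, true)]),
  (928, [(2, true), (41, false), (65, true), (425, true)]),
  (929, [(2, true), (41, false), (64, true), (1482, true)]),
  (930, [(2, true), (41, false), (425, false), (1615, true)]),
  (931, [(2, true), (41, false), (6, true)]),
  (932, [(2, true), (41, false), (55, true)]),
  (933, [(2, true), (41, false), (961, true)]),
  (934, [(2, true), (41, false), (425, false)]),
  (935, [(2, true), (41, false), (7, true)]),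
  (936, [(2, true), (41, false), (1482, true)]),
  (937, [(2, true), (41, false), (977, true)]),
  (938, [(2, true), (41, false), (1615, true)]),
  (939, [(2, true), (41, false)]),
  (940, [(10, true), (33, false), (166, true), (99, true), (425, true)]),
  (941, [(30, true), (13, false), (221, true), (92, true), (554, false)]),
  (942, [(10, true), (33, false), (178, true), (205, true)]),
  (943, [(3, true), (40, false), (425, true), (241, true), (1615, true)]),
  (944, [(3, true), (40, false), (996, false), (1427, true), (554, false)]),
  (945, [(3, true), (40, false), (996, false), (49, true), (1482, true)]),
  (946, [(3, true), (40, false), (1395, true), (69, true)]),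
  (947, [(3, true), (40, false), (1395, true), (68, true)]),
  (948, [(3, true), (40, false), (107, true), (94, true)]),
  (949, [(3, true), (40, false), (240, true), (53, true), (977, false)]),
  (950, [(3, true), (40, false), (105, true), (92, true)]),
  (951, [(3, true), (40, false), (996, false), (246, true)]),
  (952, [(3, true), (40, false), (240, true), (249, true)]),
  (953, [(3, true), (40, false), (996, false), (49, true), (1615, true)]),
  (954, [(3, true), (40, false), (102, true), (96, true)]),
  (955, [(3, true), (40, false), (996, false), (1778, true)]),
  (956, [(3, true), (40, false), (102, true), (187, true)]),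
  (957, [(3, true), (40, false), (102, true), (88, true)]),
  (958, [(3, true), (40, false), (100, true), (178, true)]),
  (959, [(3, true), (40, false), (100, true), (90, true)]),
  (960, [(3, true), (40, false), (996, false), (147, true)]),
  (962, [(3, true), (40, false), (996, false), (977, false)]),
  (963, [(3, true), (40, false), (996, false), (470, false)]),
  (964, [(3, true), (40, false), (100, true), (4, true)]),
  (965, [(3, true), (40, false), (4, true), (57, true)]),
  (966, [(3, true), (40, false), (4, true), (58, true)]),
  (967, [(3, true), (40, false), (4, true), (470, true)]),
  (968, [(3, true), (40, false), (4, true), (2297, true)]),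
  (969, [(3, true), (40, false), (4, true), (425, true)]),
  (970, [(3, true), (40, false), (4, true), (1482, false)]),
  (971, [(3, true), (40, false), (4, true)]),
  (972, [(3, true), (40, false), (977, false), (1482, true)]),
  (973, [(3, true), (40, false), (76, true), (1151, true)]),
  (974, [(3, true), (40, false), (996, false), (2297, true)]),
  (975, [(3, true), (40, false), (173, true), (1020, true)]),
  (976, [(3, true), (40, false), (178, true), (1482, true)]),
  (978, [(3, true), (40, false), (178, true), (425, true)]),
  (979, [(3, true), (40, false), (172, true), (486, false)]),
  (980, [(3, true), (40, false), (176, true), (425, true)]),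
  (981, [(3, true), (40, false), (177, true), (5, true)]),
  (982, [(3, true), (40, false), (178, true), (1615, true)]),
  (983, [(3, true), (40, false), (179, true), (2297, false)]),
  (984, [(3, true), (40, false), (172, true), (425, true)]),
  (985, [(3, true), (40, false), (5, true), (425, true)]),
  (986, [(3, true), (40, false), (5, true), (1151, false)]),
  (987, [(3, true), (40, false), (5, true)]),
  (988, [(3, true), (40, false), (172, true), (1482, true)]),
  (989, [(3, true), (40, false), (92, true), (1615, false)]),
  (990, [(3, true), (40, false), (174, true), (425, false)]),
  (991, [(3, true), (40, false), (996, false), (1482, true)]),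
  (992, [(3, true), (40, false), (88, true)]),
  (993, [(3, true), (40, false), (271, true)]),
  (994, [(3, true), (40, false), (178, true)]),
  (995, [(3, true), (40, false), (6, true)]),
  (997, [(3, true), (40, false), (69, true)]),
  (998, [(3, true), (40, false), (1427, true)]),
  (999, [(3, true), (40, false), (554, false)]),
  (1000, [(3, true), (40, false), (1482, true)]),
  (1001, [(3, true), (40, false), (2297, false)]),
  (1002, [(3, true), (40, false), (425, false)]),
  (1003, [(3, true), (40, false)]),
  (1004, [(13, true), (30, false), (1151, false), (554, false), (1482, true)]),
  (1005, [(30, true), (13, false), (81, true), (961, true)]),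
  (1006, [(30, true), (13, false), (207, true), (11, false)]),
  (1007, [(6, true), (37, false), (246, true), (1395, true)]),
  (1008, [(6, true), (37, false), (1395, true), (506, true)]),
  (1009, [(6, true), (37, false), (1395, true), (543, false)]),
  (1010, [(6, true), (37, false), (172, true), (2297, true)]),
  (1011, [(6, true), (37, false), (156, true), (543, false)]),
  (1012, [(30, true), (13, false), (611, true), (14, true)]),
  (1013, [(4, true), (39, false), (230, true), (425, true)]),
  (1014, [(4, true), (39, false), (229, true), (425, true)]),
  (1015, [(4, true), (39, false), (228, true), (1151, true)]),
  (1016, [(4, true), (39, false), (235, true), (1482, false)]),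
  (1017, [(4, true), (39, false), (5, true), (1151, true)]),
  (1018, [(4, true), (39, false), (5, true), (425, false)]),
  (1019, [(4, true), (39, false), (5, true)]),
  (1021, [(4, true), (39, false), (220, true), (425, false)]),
  (1022, [(4, true), (39, false), (223, true), (425, false)]),
  (1023, [(4, true), (39, false), (222, true), (425, false)]),
  (1024, [(4, true), (39, false), (56, true), (1482, true)]),
  (1025, [(4, true), (39, false), (1020, false), (1615, false)]),
  (1026, [(4, true), (39, false), (977, true), (1615, true)]),
  (1027, [(4, true), (39, false), (6, true)]),
  (1028, [(4, true), (39, false), (611, true)]),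
  (1029, [(4, true), (39, false), (977, true)]),
  (1030, [(4, true), (39, false), (1427, true)]),
  (1031, [(4, true), (39, false), (1020, false)]),
  (1032, [(4, true), (39, false), (554, false)]),
  (1033, [(4, true), (39, false), (2297, true)]),
  (1034, [(4, true), (39, false), (425, false)]),
  (1035, [(4, true), (39, false)]),
  (1036, [(30, true), (13, false), (1221, true), (425, false)]),
  (1037, [(13, true), (30, false), (49, true), (554, false)]),
  (1038, [(13, true), (30, false), (197, true), (1615, true)]),
  (1039, [(30, true), (13, false), (1778, true), (1151, true)]),
  (1040, [(30, true), (13, false), (1778, true), (425, true)]),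
  (1041, [(6, true), (37, false), (1395, true)]),
  (1042, [(6, true), (37, false), (5, true), (1482, true)]),
  (1043, [(6, true), (37, false), (5, true)]),
  (1044, [(13, true), (30, false), (1151, false), (1538, true)]),
  (1045, [(5, true), (38, false), (961, true)]),
  (1046, [(5, true), (38, false), (50, true)]),
  (1047, [(5, true), (38, false), (543, true)]),
  (1048, [(5, true), (38, false), (1778, true)]),
  (1049, [(5, true), (38, false), (1482, true)]),
  (1050, [(5, true), (38, false), (425, true)]),
  (1051, [(5, true), (38, false)]),
  (1052, [(13, true), (30, false), (1615, true), (425, false)]),
  (1053, [(30, true), (13, false), (554, false), (1615, false)]),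
  (1054, [(30, true), (13, false), (205, true)]),
  (1055, [(13, true), (30, false), (204, true)]),
  (1056, [(13, true), (30, false), (44, false)]),
  (1057, [(6, true), (37, false), (1615, true)]),
  (1058, [(6, true), (37, false), (1482, true)]),
  (1059, [(6, true), (37, false)]),
  (1060, [(30, true), (13, false), (1615, true)]),
  (1061, [(13, true), (30, false), (2297, true)]),
  (1062, [(13, true), (30, false), (1221, false)])]

def stepsX7 : List (ℕ × List (ℕ × Bool)) := [(1063, [(30, true), (13, false), (1151, true)]),
  (1064, [(30, true), (13, false), (425, false)]),
  (1065, [(13, true), (30, false), (425, true)]),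
  (1066, [(13, true), (30, false)]),
  (1067, [(30, true), (13, false)]),
  (1068, [(13, true), (1, true), (0, true), (554, true), (1151, false), (1615, false)]),
  (1069, [(13, true), (1, true), (0, true), (977, true), (2297, false)]),
  (1070, [(13, true), (1, true), (0, true), (996, true), (961, true)]),
  (1071, [(13, true), (1, true), (0, true), (961, true), (2297, true)]),
  (1072, [(1, true), (0, true), (3, true), (1020, true), (1427, false), (1482, true)]),
  (1073, [(1, true), (0, true), (3, true), (45, true), (2297, true)]),
  (1074, [(1, true), (0, true), (3, true), (45, true), (1020, true)]),
  (1075, [(1, true), (0, true), (3, true), (1020, true), (2297, false)]),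
  (1076, [(1, true), (0, true), (5, true), (485, true), (1151, true)]),
  (1077, [(1, true), (0, true), (5, true), (44, true), (425, true)]),
  (1078, [(1, true), (0, true), (5, true), (44, true), (543, false)]),
  (1079, [(1, true), (0, true), (5, true), (961, true), (996, true)]),
  (1080, [(1, true), (0, true), (7, true), (554, true), (1151, false), (425, false)]),
  (1081, [(1, true), (0, true), (7, true), (45, true), (2297, false)]),
  (1082, [(1, true), (0, true), (7, true), (45, true), (961, true)]),
  (1083, [(1, true), (0, true), (7, true), (961, true), (2297, true)]),
  (1084, [(1, true), (0, true), (8, true), (543, true), (1151, true), (554, false)]),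
  (1085, [(1, true), (0, true), (8, true), (44, true), (48, true)]),
  (1086, [(1, true), (0, true), (8, true), (48, true), (45, true)]),
  (1087, [(1, true), (0, true), (8, true), (44, true), (45, true)]),
  (1088, [(1, true), (0, true), (8, true), (48, true), (961, true)]),
  (1089, [(1, true), (0, true), (8, true), (1395, false), (1151, true)]),
  (1090, [(1, true), (0, true), (8, true), (1395, false), (1615, false)]),
  (1091, [(1, true), (0, true), (8, true), (1395, false)]),
  (1092, [(1, true), (0, true), (1395, false), (485, true), (961, false)]),
  (1093, [(1, true), (0, true), (1395, false), (425, true), (470, true)]),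
  (1094, [(1, true), (0, true), (1395, false), (7, true), (1482, true)]),
  (1095, [(1, true), (0, true), (1395, false), (7, true)]),
  (1096, [(1, true), (0, true), (5, true), (44, true), (1482, false)]),
  (1097, [(1, true), (0, true), (5, true), (996, true), (977, false)]),
  (1098, [(1, true), (0, true), (5, true), (54, true), (977, true)]),
  (1099, [(1, true), (0, true), (5, true), (70, true), (543, false)]),
  (1100, [(1, true), (0, true), (1395, false), (425, true), (1482, false)]),
  (1101, [(1, true), (0, true), (1395, false), (554, true), (1482, true)]),
  (1102, [(1, true), (0, true), (1395, false), (470, true), (1482, true)]),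
  (1103, [(1, true), (0, true), (1395, false), (1427, true)]),
  (1104, [(1, true), (0, true), (1395, false), (425, true)]),
  (1105, [(1, true), (0, true), (1395, false), (1482, true)]),
  (1106, [(1, true), (0, true), (1395, false), (1615, false)]),
  (1107, [(1, true), (0, true), (1395, false)]),
  (1108, [(0, true), (3, true), (2, true), (425, true), (1615, true), (1151, true)]),
  (1109, [(0, true), (3, true), (2, true), (45, true), (47, true)]),
  (1110, [(0, true), (3, true), (2, true), (45, true), (1020, true)]),
  (1111, [(0, true), (3, true), (2, true), (1020, true), (1538, false)]),
  (1112, [(0, true), (2, true), (5, true), (961, true), (977, true), (611, true)]),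
  (1113, [(0, true), (2, true), (5, true), (961, true), (45, true)]),
  (1114, [(0, true), (2, true), (5, true), (961, true), (1020, true)]),
  (1115, [(0, true), (2, true), (5, true), (1020, true), (1936, true)]),
  (1116, [(0, true), (2, true), (6, true), (425, true), (1482, true), (554, true)]),
  (1117, [(0, true), (2, true), (6, true), (44, true), (2297, true)]),
  (1118, [(0, true), (2, true), (6, true), (44, true), (996, true)]),
  (1119, [(0, true), (2, true), (6, true), (996, true), (2297, false)]),
  (1120, [(0, true), (2, true), (11, true), (543, true), (1151, true), (425, false)]),
  (1121, [(0, true), (2, true), (11, true), (961, true), (1538, false)]),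
  (1122, [(0, true), (2, true), (11, true), (49, true), (977, true)]),
  (1123, [(0, true), (2, true), (11, true), (961, true), (977, true)]),
  (1124, [(0, true), (2, true), (11, true), (49, true), (425, true)]),
  (1125, [(0, true), (2, true), (11, true), (961, true), (425, false)]),
  (1126, [(0, true), (2, true), (11, true), (996, true), (425, true)]),
  (1127, [(0, true), (2, true), (11, true), (425, true), (961, false)]),
  (1128, [(0, true), (2, true), (6, true), (44, true), (425, true)]),
  (1129, [(0, true), (2, true), (6, true), (48, true), (425, true)]),
  (1130, [(0, true), (2, true), (6, true), (425, true), (1482, true)]),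
  (1131, [(0, true), (2, true), (6, true), (961, true), (2297, true)]),
  (1132, [(0, true), (2, true), (5, true), (961, true), (425, false)]),
  (1133, [(0, true), (2, true), (5, true), (45, true), (425, true)]),
  (1134, [(0, true), (2, true), (5, true), (977, true), (425, true)]),
  (1135, [(0, true), (2, true), (5, true), (425, true), (961, false)]),
  (1136, [(0, true), (2, true), (45, true), (109, false)]),
  (1137, [(0, true), (2, true), (3, true), (47, true), (425, true)]),
  (1138, [(0, true), (2, true), (3, true), (425, true), (961, true)]),
  (1139, [(0, true), (2, true), (3, true), (961, true), (977, true)]),
  (1140, [(0, true), (3, true), (1427, true), (44, true), (611, false)]),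
  (1141, [(0, true), (3, true), (4, true), (44, true), (48, true)]),
  (1142, [(0, true), (3, true), (4, true), (44, true), (1427, true)]),
  (1143, [(0, true), (3, true), (4, true), (48, true), (1427, false)]),
  (1144, [(0, true), (3, true), (5, true), (554, true), (1151, true), (1615, false)]),
  (1145, [(0, true), (3, true), (5, true), (44, true), (2297, true)]),
  (1146, [(0, true), (3, true), (5, true), (45, true), (1482, true)]),
  (1147, [(0, true), (3, true), (5, true), (470, true), (1482, false)]),
  (1148, [(0, true), (3, true), (9, true), (470, true), (2297, true)]),
  (1149, [(0, true), (3, true), (9, true), (470, true), (1538, true)]),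
  (1150, [(0, true), (3, true), (9, true), (486, true), (1538, false)]),
  (1152, [(0, true), (3, true), (9, true), (50, true), (1020, true)]),
  (1153, [(0, true), (3, true), (9, true), (470, true), (1020, true)]),
  (1154, [(0, true), (3, true), (9, true), (486, true), (1020, false)]),
  (1155, [(0, true), (3, true), (9, true), (1020, true), (2297, true)]),
  (1156, [(0, true), (3, true), (5, true), (45, true), (1151, true)]),
  (1157, [(0, true), (3, true), (5, true), (1151, true), (425, true)]),
  (1158, [(0, true), (3, true), (5, true), (1151, true), (1482, true)]),
  (1159, [(0, true), (3, true), (5, true), (1151, true)]),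
  (1160, [(0, true), (3, true), (44, true), (89, false)]),
  (1161, [(0, true), (3, true), (4, true), (1151, true), (1482, true)]),
  (1162, [(0, true), (3, true), (4, true), (1151, true), (425, false)]),
  (1163, [(0, true), (3, true), (4, true), (1151, true)]),
  (1164, [(0, true), (5, true), (1482, true), (49, true), (2297, true)]),
  (1165, [(0, true), (5, true), (4, true), (48, true), (1538, true)]),
  (1166, [(0, true), (5, true), (4, true), (49, true), (2297, true)]),
  (1167, [(0, true), (5, true), (4, true), (611, true), (2297, false)]),
  (1168, [(0, true), (20, true), (1427, true), (611, true), (425, true)]),
  (1169, [(0, true), (20, true), (1778, true), (44, true), (470, true)]),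
  (1170, [(0, true), (20, true), (4, true), (45, true), (611, true)]),
  (1171, [(0, true), (20, true), (4, true), (611, true), (1427, true)]),
  (1172, [(0, true), (4, true), (9, true), (977, true), (2297, false), (1482, true)]),
  (1173, [(0, true), (4, true), (9, true), (977, true), (611, true)]),
  (1174, [(0, true), (4, true), (9, true), (611, true), (1615, false)]),
  (1175, [(0, true), (4, true), (9, true), (977, true), (1615, true)]),
  (1176, [(0, true), (4, true), (9, true), (611, true), (996, true)]),
  (1177, [(0, true), (4, true), (9, true), (977, true), (996, true)]),
  (1178, [(0, true), (4, true), (9, true), (44, true), (996, false)]),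
  (1179, [(0, true), (4, true), (9, true), (996, true), (1615, false)]),
  (1180, [(0, true), (4, true), (8, true), (45, true), (977, true)]),
  (1181, [(0, true), (4, true), (8, true), (49, true), (977, false)]),
  (1182, [(0, true), (4, true), (8, true), (611, true), (977, true)]),
  (1183, [(0, true), (4, true), (8, true), (977, true), (1427, true)]),
  (1184, [(0, true), (4, true), (49, true), (64, false)]),
  (1185, [(0, true), (4, true), (5, true), (48, true), (977, true)]),
  (1186, [(0, true), (4, true), (5, true), (996, true), (977, false)]),
  (1187, [(0, true), (4, true), (5, true), (977, true), (2297, true)]),
  (1188, [(0, true), (5, true), (45, true), (61, true), (1615, true)]),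
  (1189, [(0, true), (5, true), (45, true), (65, true), (2297, false)]),
  (1190, [(0, true), (5, true), (49, true), (2297, true)]),
  (1191, [(0, true), (5, true), (45, true), (51, true), (425, true)]),
  (1192, [(0, true), (5, true), (49, true), (72, true), (1151, false)]),
  (1193, [(0, true), (5, true), (45, true), (1020, true), (1482, false)]),
  (1194, [(0, true), (5, true), (10, true), (1395, false), (1615, false)]),
  (1195, [(0, true), (5, true), (10, true), (1395, false)]),
  (1196, [(0, true), (9, true), (44, true), (69, true), (425, false)]),
  (1197, [(0, true), (9, true), (60, true), (75, true), (425, false)]),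
  (1198, [(0, true), (9, true), (62, true), (1936, true), (425, false)]),
  (1199, [(0, true), (9, true), (44, true), (53, true), (2297, true)]),
  (1200, [(0, true), (11, true), (45, true), (57, true), (425, false)]),
  (1201, [(0, true), (11, true), (45, true), (1538, true), (1615, true)]),
  (1202, [(0, true), (11, true), (45, true), (996, true), (425, true)]),
  (1203, [(0, true), (11, true), (47, true), (1936, true), (1482, false)]),
  (1204, [(0, true), (11, true), (45, true), (54, true), (425, false)]),
  (1205, [(0, true), (11, true), (6, true), (1395, false), (425, true)]),
  (1206, [(0, true), (11, true), (6, true), (1395, false), (1615, true)]),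
  (1207, [(0, true), (11, true), (6, true), (1395, false)]),
  (1208, [(0, true), (6, true), (76, true), (77, false)]),
  (1209, [(0, true), (6, true), (82, true), (83, false)]),
  (1210, [(0, true), (6, true), (1395, false), (9, true), (1482, false)]),
  (1211, [(0, true), (6, true), (1395, false), (1538, true)]),
  (1212, [(0, true), (8, true), (44, true), (2297, true), (425, false)]),
  (1213, [(0, true), (8, true), (45, true), (51, true), (1615, false)])]

def stepsX8 : List (ℕ × List (ℕ × Bool)) := [(1214, [(0, true), (8, true), (45, true), (2297, true)]),
  (1215, [(0, true), (8, true), (44, true), (50, true), (1615, true)]),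
  (1216, [(0, true), (20, true), (71, true), (67, true), (425, true)]),
  (1217, [(0, true), (20, true), (71, true), (44, true), (1482, false)]),
  (1218, [(0, true), (20, true), (44, true), (45, true), (1482, false)]),
  (1219, [(0, true), (20, true), (71, true), (66, true), (2297, true)]),
  (1220, [(0, true), (20, true), (44, true), (977, true), (1615, false)]),
  (1222, [(0, true), (20, true), (7, true), (470, true), (2297, false)]),
  (1223, [(0, true), (20, true), (7, true), (543, true), (2297, false)]),
  (1224, [(0, true), (7, true), (45, true), (47, false)]),
  (1225, [(0, true), (7, true), (8, true), (1221, true), (425, true)]),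
  (1226, [(0, true), (7, true), (8, true), (1221, true), (1482, true)]),
  (1227, [(0, true), (7, true), (8, true), (1221, true)]),
  (1228, [(0, true), (46, true), (62, true), (48, true)]),
  (1229, [(0, true), (18, true), (111, true), (48, true), (1151, true)]),
  (1230, [(0, true), (18, true), (53, true), (44, true), (2297, true)]),
  (1231, [(0, true), (18, true), (70, true), (61, true), (425, false)]),
  (1232, [(0, true), (18, true), (53, true), (69, true), (425, true)]),
  (1233, [(0, true), (18, true), (111, true), (45, true), (425, true)]),
  (1234, [(0, true), (18, true), (12, true), (425, true), (2297, true)]),
  (1235, [(0, true), (18, true), (12, true), (554, true), (1615, true)]),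
  (1236, [(0, true), (18, true), (12, true), (554, true), (1151, false)]),
  (1237, [(0, true), (18, true), (12, true), (485, true), (1151, true)]),
  (1238, [(0, true), (18, true), (12, true), (611, true), (1151, false)]),
  (1239, [(0, true), (18, true), (12, true), (1427, false)]),
  (1240, [(0, true), (18, true), (12, true), (425, true)]),
  (1241, [(0, true), (18, true), (12, true), (611, true)]),
  (1242, [(0, true), (18, true), (12, true), (1615, true)]),
  (1243, [(0, true), (18, true), (12, true)]),
  (1244, [(0, true), (18, true), (45, true), (49, true)]),
  (1245, [(0, true), (18, true), (1936, true), (48, true)]),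
  (1246, [(0, true), (18, true), (7, true), (470, true), (425, true)]),
  (1247, [(0, true), (18, true), (7, true), (425, true), (1482, true)]),
  (1248, [(0, true), (16, true), (1395, false), (425, true), (1482, false)]),
  (1249, [(0, true), (16, true), (7, true), (961, true), (425, true)]),
  (1250, [(0, true), (16, true), (7, true), (425, true), (543, false)]),
  (1251, [(0, true), (16, true), (7, true), (554, false), (543, true)]),
  (1252, [(0, true), (16, true), (7, true), (425, true)]),
  (1253, [(0, true), (16, true), (7, true), (2297, true)]),
  (1254, [(0, true), (16, true), (7, true), (1151, false)]),
  (1255, [(0, true), (16, true), (7, true)]),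
  (1256, [(0, true), (18, true), (7, true), (611, true)]),
  (1257, [(0, true), (18, true), (7, true), (1151, false)]),
  (1258, [(0, true), (18, true), (7, true), (425, true)]),
  (1259, [(0, true), (18, true), (7, true)]),
  (1260, [(0, true), (16, true), (62, true), (70, true)]),
  (1261, [(0, true), (16, true), (60, true), (68, true)]),
  (1262, [(0, true), (16, true), (1151, true), (486, false), (425, false)]),
  (1263, [(0, true), (16, true), (1151, true), (1538, true)]),
  (1264, [(0, true), (12, true), (6, true), (44, true), (425, false)]),
  (1265, [(0, true), (12, true), (6, true), (46, true), (425, true)]),
  (1266, [(0, true), (12, true), (6, true), (1482, true), (1615, false)]),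
  (1267, [(0, true), (12, true), (6, true), (1482, true)]),
  (1268, [(0, true), (12, true), (6, true), (470, true)]),
  (1269, [(0, true), (12, true), (6, true), (543, true)]),
  (1270, [(0, true), (12, true), (6, true), (425, false)]),
  (1271, [(0, true), (12, true), (6, true)]),
  (1272, [(0, true), (16, true), (6, true), (485, false)]),
  (1273, [(0, true), (16, true), (6, true), (2297, false)]),
  (1274, [(0, true), (16, true), (6, true), (425, true)]),
  (1275, [(0, true), (16, true), (6, true)]),
  (1276, [(0, true), (13, true), (44, true), (60, true)]),
  (1277, [(0, true), (13, true), (45, true), (67, false)]),
  (1278, [(0, true), (13, true), (5, true), (554, false), (425, true)]),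
  (1279, [(0, true), (13, true), (5, true), (425, true), (2297, true)]),
  (1280, [(0, true), (13, true), (5, true), (554, false)]),
  (1281, [(0, true), (13, true), (5, true), (1151, false)]),
  (1282, [(0, true), (13, true), (5, true), (425, false)]),
  (1283, [(0, true), (13, true), (5, true)]),
  (1284, [(0, true), (19, true), (49, true), (961, true)]),
  (1285, [(0, true), (19, true), (2297, true), (425, false), (1482, false)]),
  (1286, [(0, true), (19, true), (961, true), (977, true)]),
  (1287, [(0, true), (19, true), (2297, true), (425, false)]),
  (1288, [(0, true), (10, true), (996, true), (77, true)]),
  (1289, [(0, true), (10, true), (977, true), (76, true)]),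
  (1290, [(0, true), (10, true), (1482, true), (1615, false), (425, true)]),
  (1291, [(0, true), (10, true), (1482, true), (1615, false)]),
  (1292, [(0, true), (18, true), (70, true), (961, true)]),
  (1293, [(0, true), (18, true), (2297, true), (425, false), (1615, false)]),
  (1294, [(0, true), (18, true), (2297, true), (1151, true)]),
  (1295, [(0, true), (18, true), (4, true), (1151, true)]),
  (1296, [(0, true), (18, true), (4, true), (486, true)]),
  (1297, [(0, true), (18, true), (2297, true), (425, false)]),
  (1298, [(0, true), (18, true), (2297, true)]),
  (1299, [(0, true), (18, true), (4, true)]),
  (1300, [(0, true), (10, true), (4, true), (425, true)]),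
  (1301, [(0, true), (10, true), (4, true), (554, false)]),
  (1302, [(0, true), (10, true), (4, true), (1151, false)]),
  (1303, [(0, true), (10, true), (4, true)]),
  (1304, [(0, true), (4, true), (5, true), (543, false)]),
  (1305, [(0, true), (4, true), (5, true), (1151, false)]),
  (1306, [(0, true), (4, true), (5, true), (425, true)]),
  (1307, [(0, true), (4, true), (5, true)]),
  (1308, [(0, true), (4, true), (1020, true), (977, true)]),
  (1309, [(0, true), (4, true), (1395, false), (1482, false)]),
  (1310, [(0, true), (4, true), (52, true), (961, true)]),
  (1311, [(0, true), (4, true), (977, true), (1936, false)]),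
  (1312, [(0, true), (16, true), (1395, false), (506, false)]),
  (1313, [(0, true), (16, true), (1395, false), (425, true)]),
  (1314, [(0, true), (16, true), (1395, false), (1482, true)]),
  (1315, [(0, true), (16, true), (1395, false)]),
  (1316, [(0, true), (13, true), (1395, false), (543, false)]),
  (1317, [(0, true), (13, true), (46, true), (1936, false)]),
  (1318, [(0, true), (13, true), (1020, true), (961, true)]),
  (1319, [(0, true), (13, true), (1395, false), (2297, true)]),
  (1320, [(0, true), (13, true), (44, true), (977, false)]),
  (1321, [(0, true), (13, true), (1395, false), (425, false)]),
  (1322, [(0, true), (13, true), (1395, false)]),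
  (1323, [(0, true), (13, true), (1, false)]),
  (1324, [(0, true), (16, true), (46, true), (977, true)]),
  (1325, [(0, true), (16, true), (1020, true), (2297, true)]),
  (1326, [(0, true), (16, true), (1, false), (425, false)]),
  (1327, [(0, true), (16, true), (1, false)]),
  (1328, [(0, true), (4, true), (1395, false), (425, false)]),
  (1329, [(0, true), (4, true), (1395, false)]),
  (1330, [(0, true), (4, true), (1, false), (1615, true)]),
  (1331, [(0, true), (4, true), (1, false)]),
  (1332, [(0, true), (18, true), (45, true), (1151, true)]),
  (1333, [(0, true), (18, true), (1936, true), (1151, true)]),
  (1334, [(0, true), (18, true), (1395, false), (1615, true)]),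
  (1335, [(0, true), (18, true), (71, true), (1151, true)]),
  (1336, [(0, true), (1395, false), (961, true), (1482, false)]),
  (1337, [(0, true), (1395, false), (5, true), (543, true)]),
  (1338, [(0, true), (1395, false), (1936, true), (1151, true)]),
  (1339, [(0, true), (1395, false), (5, true)]),
  (1340, [(0, true), (1395, false), (1151, true), (425, false)]),
  (1341, [(0, true), (1395, false), (543, false), (425, false)]),
  (1342, [(0, true), (1395, false), (6, true), (425, false)]),
  (1343, [(0, true), (1395, false), (1151, true)]),
  (1344, [(0, true), (44, true), (176, true), (1482, false)]),
  (1345, [(0, true), (1395, false), (543, false)]),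
  (1346, [(0, true), (20, true), (50, true), (1151, true)]),
  (1347, [(0, true), (1395, false), (470, true)]),
  (1348, [(0, true), (20, true), (2297, true), (1615, true)]),
  (1349, [(0, true), (1395, false), (1482, true)]),
  (1350, [(0, true), (20, true), (1778, true), (425, true)]),
  (1351, [(0, true), (1395, false), (2297, true)]),
  (1352, [(0, true), (6, true), (2297, true), (425, true)]),
  (1353, [(0, true), (6, true), (2297, true)]),
  (1354, [(0, true), (6, true), (1, false), (1151, true)]),
  (1355, [(0, true), (6, true), (1, false)]),
  (1356, [(0, true), (1, false), (1151, true), (543, true)]),
  (1357, [(0, true), (1, false), (554, false), (1615, false)]),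
  (1358, [(0, true), (1, false), (1151, true)]),
  (1359, [(0, true), (1, false), (3, false)]),
  (1360, [(0, true), (1395, false), (425, true)]),
  (1361, [(0, true), (1, false), (554, false)]),
  (1362, [(0, true), (1395, false)]),
  (1363, [(0, true), (1, false)]),
  (1364, [(0, true), (2, true), (996, true), (425, false)])]

def stepsX9 : List (ℕ × List (ℕ × Bool)) := [(1365, [(0, true), (2, true), (977, true), (425, true)]),
  (1366, [(0, true), (2, true), (554, false), (425, true)]),
  (1367, [(0, true), (2, true), (1427, false)]),
  (1368, [(0, true), (3, true), (961, true), (425, true)]),
  (1369, [(0, true), (3, true), (47, true), (425, false)]),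
  (1370, [(0, true), (3, true), (1615, true), (1482, false)]),
  (1371, [(0, true), (3, true), (1615, true)]),
  (1372, [(0, true), (5, true), (44, true)]),
  (1373, [(0, true), (5, true), (977, true), (425, false)]),
  (1374, [(0, true), (5, true), (1151, true), (1482, false)]),
  (1375, [(0, true), (5, true), (543, false)]),
  (1376, [(0, true), (45, true), (554, false), (425, false)]),
  (1377, [(0, true), (76, true), (1482, true), (425, true)]),
  (1378, [(0, true), (7, true), (554, false), (425, false)]),
  (1379, [(0, true), (7, true), (1221, true)]),
  (1380, [(0, true), (76, true), (1482, true)]),
  (1381, [(0, true), (44, true), (1151, true)]),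
  (1382, [(0, true), (77, true), (485, true)]),
  (1383, [(0, true), (8, true), (1482, true)]),
  (1384, [(0, true), (8, true), (543, false)]),
  (1385, [(0, true), (8, true), (1151, true)]),
  (1386, [(0, true), (8, true), (425, false)]),
  (1387, [(0, true), (8, true)]),
  (1388, [(0, true), (44, true), (1482, false)]),
  (1389, [(0, true), (7, true), (2297, false)]),
  (1390, [(0, true), (7, true), (425, false)]),
  (1391, [(0, true), (7, true)]),
  (1392, [(0, true), (1151, true), (1615, true)]),
  (1393, [(0, true), (5, true), (425, false)]),
  (1394, [(0, true), (5, true)]),
  (1396, [(0, true), (506, false), (425, true)]),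
  (1397, [(0, true), (977, true), (425, true)]),
  (1398, [(0, true), (425, true), (2297, false)]),
  (1399, [(0, true), (1427, false)]),
  (1400, [(0, true), (554, false)]),
  (1401, [(0, true), (1482, false)]),
  (1402, [(0, true), (425, false)]),
  (1403, [(0, true)]),
  (1404, [(1, true), (2, true), (1151, true), (1221, true), (554, true)]),
  (1405, [(1, true), (2, true), (3, true), (554, true), (46, true)]),
  (1406, [(1, true), (2, true), (3, true), (554, true), (543, true)]),
  (1407, [(1, true), (2, true), (3, true), (543, true), (611, true)]),
  (1408, [(1, true), (2, true), (1221, true), (554, true), (425, false)]),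
  (1409, [(1, true), (2, true), (1221, true), (554, true)]),
  (1410, [(1, true), (2, true), (5, true), (554, true), (2297, true)]),
  (1411, [(1, true), (2, true), (5, true), (543, true), (2297, false)]),
  (1412, [(1, true), (2, true), (1936, true), (554, true), (961, false)]),
  (1413, [(1, true), (2, true), (6, true), (554, true), (506, true)]),
  (1414, [(1, true), (2, true), (6, true), (996, true), (977, true)]),
  (1415, [(1, true), (2, true), (1936, true), (554, true), (425, true)]),
  (1416, [(1, true), (2, true), (2297, true), (485, true), (1482, true)]),
  (1417, [(1, true), (2, true), (46, true), (554, true), (2297, false)]),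
  (1418, [(1, true), (2, true), (2297, true), (485, true)]),
  (1419, [(1, true), (2, true), (44, true), (543, true)]),
  (1420, [(1, true), (2, true), (1151, true), (45, true), (425, true)]),
  (1421, [(1, true), (2, true), (1151, true), (1020, true), (2297, true)]),
  (1422, [(1, true), (2, true), (9, true), (1427, true), (1482, true)]),
  (1423, [(1, true), (2, true), (9, true), (1427, true)]),
  (1424, [(1, true), (2, true), (1936, true), (84, true), (425, true)]),
  (1425, [(1, true), (2, true), (6, true), (554, true), (543, true)]),
  (1426, [(1, true), (2, true), (6, true), (543, true), (977, true)]),
  (1428, [(1, true), (2, true), (554, true), (62, true)]),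
  (1429, [(1, true), (2, true), (2297, true), (1427, true), (425, false)]),
  (1430, [(1, true), (2, true), (2297, true), (1427, true)]),
  (1431, [(1, true), (2, true), (5, true), (1427, true)]),
  (1432, [(1, true), (2, true), (554, true), (961, true)]),
  (1433, [(1, true), (2, true), (1936, true), (485, true)]),
  (1434, [(1, true), (2, true), (543, true), (961, false)]),
  (1435, [(1, true), (2, true), (1151, true), (1020, true)]),
  (1436, [(1, true), (3, true), (4, true), (425, true), (554, true), (1151, true)]),
  (1437, [(1, true), (3, true), (4, true), (425, true), (554, true)]),
  (1438, [(1, true), (3, true), (4, true), (425, true), (60, true)]),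
  (1439, [(1, true), (3, true), (4, true), (554, true), (60, true)]),
  (1440, [(1, true), (3, true), (1615, false), (112, true), (554, true)]),
  (1441, [(1, true), (3, true), (1221, true), (44, true), (2297, true)]),
  (1442, [(1, true), (3, true), (1615, false), (2297, true), (425, true)]),
  (1443, [(1, true), (3, true), (1221, true), (44, true)]),
  (1444, [(1, true), (3, true), (50, true), (554, true), (1482, true)]),
  (1445, [(1, true), (3, true), (554, true), (63, true)]),
  (1446, [(1, true), (3, true), (554, true), (65, true)]),
  (1447, [(1, true), (3, true), (47, true), (506, true), (1482, true)]),
  (1448, [(1, true), (3, true), (2297, true), (425, true)]),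
  (1449, [(1, true), (3, true), (2297, true), (45, true)]),
  (1450, [(1, true), (3, true), (11, true), (611, true), (2297, false)]),
  (1451, [(1, true), (3, true), (11, true), (47, true), (2297, false)]),
  (1452, [(1, true), (3, true), (61, true), (543, true)]),
  (1453, [(1, true), (3, true), (2297, true), (1615, false), (1151, true)]),
  (1454, [(1, true), (3, true), (2297, true), (1615, false)]),
  (1455, [(1, true), (3, true), (1615, false), (6, true)]),
  (1456, [(1, true), (3, true), (1615, false), (543, true), (425, true)]),
  (1457, [(1, true), (3, true), (1615, false), (554, true), (425, false)]),
  (1458, [(1, true), (3, true), (1615, false), (486, true), (425, false)]),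
  (1459, [(1, true), (3, true), (1615, false), (1427, true)]),
  (1460, [(1, true), (11, true), (47, true), (52, true), (1482, true)]),
  (1461, [(1, true), (11, true), (4, true), (554, true), (2297, false)]),
  (1462, [(1, true), (11, true), (4, true), (425, true), (554, true)]),
  (1463, [(1, true), (11, true), (4, true), (425, true), (2297, true)]),
  (1464, [(1, true), (18, true), (47, true), (506, true), (470, false)]),
  (1465, [(1, true), (18, true), (47, true), (45, true), (2297, false)]),
  (1466, [(1, true), (18, true), (55, true), (554, true), (611, false)]),
  (1467, [(1, true), (18, true), (4, true), (425, true), (44, true)]),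
  (1468, [(1, true), (4, true), (63, true), (554, true), (1615, false)]),
  (1469, [(1, true), (4, true), (425, true), (45, true), (1615, false)]),
  (1470, [(1, true), (4, true), (425, true), (198, true)]),
  (1471, [(1, true), (4, true), (425, true), (55, true)]),
  (1472, [(1, true), (4, true), (1151, true), (2297, true), (1482, true)]),
  (1473, [(1, true), (4, true), (1151, true), (44, true), (425, false)]),
  (1474, [(1, true), (4, true), (14, true), (1482, true), (425, false)]),
  (1475, [(1, true), (4, true), (14, true), (1482, true)]),
  (1476, [(1, true), (4, true), (174, true), (177, true)]),
  (1477, [(1, true), (4, true), (1936, true), (543, true), (425, false)]),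
  (1478, [(1, true), (4, true), (1221, true), (1482, true)]),
  (1479, [(1, true), (4, true), (425, true), (49, true)]),
  (1480, [(1, true), (4, true), (554, true), (543, true)]),
  (1481, [(1, true), (4, true), (2297, true), (543, true)]),
  (1483, [(1, true), (4, true), (6, true), (977, true), (2297, false)]),
  (1484, [(1, true), (14, true), (47, true), (48, true), (425, true)]),
  (1485, [(1, true), (14, true), (55, true), (554, true)]),
  (1486, [(1, true), (14, true), (554, true), (45, true)]),
  (1487, [(1, true), (14, true), (47, true), (119, true)]),
  (1488, [(1, true), (17, true), (554, true), (45, true), (425, false)]),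
  (1489, [(1, true), (17, true), (45, true), (1151, true), (425, false)]),
  (1490, [(1, true), (17, true), (45, true), (554, true)]),
  (1491, [(1, true), (17, true), (554, true), (1151, false), (1482, false)]),
  (1492, [(1, true), (17, true), (45, true), (47, true)]),
  (1493, [(1, true), (17, true), (48, true), (47, true)]),
  (1494, [(1, true), (17, true), (554, true), (54, true)]),
  (1495, [(1, true), (17, true), (1936, true), (425, true), (2297, true)]),
  (1496, [(1, true), (14, true), (554, true), (48, true)]),
  (1497, [(1, true), (14, true), (55, true), (51, true)]),
  (1498, [(1, true), (14, true), (47, true), (48, true)]),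
  (1499, [(1, true), (14, true), (50, true), (45, true)]),
  (1500, [(1, true), (6, true), (554, true), (44, true), (425, true)]),
  (1501, [(1, true), (6, true), (44, true), (425, true), (2297, true)]),
  (1502, [(1, true), (6, true), (46, true), (554, true)]),
  (1503, [(1, true), (6, true), (554, true), (44, true)]),
  (1504, [(1, true), (6, true), (46, true), (48, true)]),
  (1505, [(1, true), (6, true), (44, true), (1221, true)]),
  (1506, [(1, true), (6, true), (1151, true), (485, true), (1615, false)]),
  (1507, [(1, true), (6, true), (1482, false), (7, true)]),
  (1508, [(1, true), (18, true), (64, true), (996, true), (1482, false)]),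
  (1509, [(1, true), (18, true), (64, true), (108, true)]),
  (1510, [(1, true), (18, true), (72, true), (112, true)]),
  (1511, [(1, true), (18, true), (64, true), (112, true)]),
  (1512, [(1, true), (18, true), (72, true), (1936, true)]),
  (1513, [(1, true), (18, true), (64, true), (52, true)]),
  (1514, [(1, true), (18, true), (1221, true), (44, true)]),
  (1515, [(1, true), (18, true), (61, true), (60, true)]),
  (1516, [(1, true), (11, true), (47, true), (977, true), (554, false)]),
  (1517, [(1, true), (11, true), (58, true), (1221, true)])]

def stepsX10 : List (ℕ × List (ℕ × Bool)) := [(1518, [(1, true), (11, true), (58, true), (543, true)]),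
  (1519, [(1, true), (11, true), (72, true), (74, true)]),
  (1520, [(1, true), (11, true), (58, true), (62, true)]),
  (1521, [(1, true), (11, true), (1936, true), (64, true), (2297, true)]),
  (1522, [(1, true), (11, true), (1936, true), (64, true)]),
  (1523, [(1, true), (11, true), (50, true), (118, true)]),
  (1524, [(1, true), (543, true), (61, true), (105, true)]),
  (1525, [(1, true), (48, true), (554, true), (50, true)]),
  (1526, [(1, true), (13, true), (1221, true), (554, true)]),
  (1527, [(1, true), (13, true), (177, true), (554, true)]),
  (1528, [(1, true), (13, true), (49, true), (210, true)]),
  (1529, [(1, true), (13, true), (177, true), (486, false)]),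
  (1530, [(1, true), (13, true), (1221, true), (1427, false)]),
  (1531, [(1, true), (13, true), (210, true), (206, true)]),
  (1532, [(1, true), (13, true), (10, true), (470, true), (425, false)]),
  (1533, [(1, true), (13, true), (10, true), (611, true)]),
  (1534, [(1, true), (13, true), (10, true), (1615, false), (1482, true)]),
  (1535, [(1, true), (13, true), (10, true), (1615, false)]),
  (1536, [(1, true), (13, true), (10, true), (1151, true)]),
  (1537, [(1, true), (13, true), (10, true), (425, false)]),
  (1539, [(1, true), (13, true), (10, true)]),
  (1540, [(1, true), (20, true), (977, true), (554, true)]),
  (1541, [(1, true), (20, true), (44, true), (47, true)]),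
  (1542, [(1, true), (20, true), (1482, true), (2297, true)]),
  (1543, [(1, true), (20, true), (1482, true), (1427, true)]),
  (1544, [(1, true), (20, true), (9, true), (425, true)]),
  (1545, [(1, true), (20, true), (9, true), (543, true)]),
  (1546, [(1, true), (20, true), (9, true), (2297, false)]),
  (1547, [(1, true), (20, true), (9, true)]),
  (1548, [(1, true), (10, true), (554, true), (1020, true)]),
  (1549, [(1, true), (10, true), (2297, true), (425, false), (543, true)]),
  (1550, [(1, true), (10, true), (2297, true), (425, false)]),
  (1551, [(1, true), (10, true), (1427, false), (1936, true)]),
  (1552, [(1, true), (10, true), (8, true), (425, false)]),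
  (1553, [(1, true), (10, true), (2297, true), (543, false)]),
  (1554, [(1, true), (10, true), (2297, true)]),
  (1555, [(1, true), (10, true), (8, true)]),
  (1556, [(1, true), (13, true), (1221, true), (425, true), (1615, false)]),
  (1557, [(1, true), (13, true), (172, true), (961, true)]),
  (1558, [(1, true), (13, true), (180, true), (554, true)]),
  (1559, [(1, true), (13, true), (1221, true), (961, true)]),
  (1560, [(1, true), (13, true), (1221, true), (425, false)]),
  (1561, [(1, true), (13, true), (6, true), (2297, true)]),
  (1562, [(1, true), (13, true), (6, true), (425, false)]),
  (1563, [(1, true), (13, true), (1221, true)]),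
  (1564, [(1, true), (16, true), (1615, false), (554, true)]),
  (1565, [(1, true), (16, true), (1615, false), (425, true)]),
  (1566, [(1, true), (16, true), (44, true), (506, true)]),
  (1567, [(1, true), (16, true), (543, true), (506, true)]),
  (1568, [(1, true), (13, true), (177, true), (1615, false)]),
  (1569, [(1, true), (13, true), (172, true), (977, true)]),
  (1570, [(1, true), (13, true), (1615, false), (1482, false)]),
  (1571, [(1, true), (13, true), (50, true), (611, false)]),
  (1572, [(1, true), (13, true), (1615, false), (425, false)]),
  (1573, [(1, true), (13, true), (47, true), (1482, true)]),
  (1574, [(1, true), (13, true), (1615, false)]),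
  (1575, [(1, true), (13, true), (3, false)]),
  (1576, [(1, true), (16, true), (1615, false), (1482, true)]),
  (1577, [(1, true), (16, true), (1615, false)]),
  (1578, [(1, true), (16, true), (3, false), (425, true)]),
  (1579, [(1, true), (16, true), (3, false)]),
  (1580, [(1, true), (8, true), (2297, true), (1615, true), (554, true)]),
  (1581, [(1, true), (8, true), (2297, true), (961, false)]),
  (1582, [(1, true), (8, true), (485, true), (961, true)]),
  (1583, [(1, true), (8, true), (543, true), (961, false)]),
  (1584, [(1, true), (7, true), (543, true), (961, false)]),
  (1585, [(1, true), (7, true), (470, true), (961, true)]),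
  (1586, [(1, true), (7, true), (486, true), (961, true)]),
  (1587, [(1, true), (7, true), (1427, true), (425, true)]),
  (1588, [(1, true), (15, true), (1151, true), (1615, false), (2297, true)]),
  (1589, [(1, true), (15, true), (1151, true), (1615, false)]),
  (1590, [(1, true), (15, true), (543, true), (611, true)]),
  (1591, [(1, true), (15, true), (961, true), (486, true)]),
  (1592, [(1, true), (15, true), (486, true), (2297, true)]),
  (1593, [(1, true), (15, true), (543, true), (2297, false)]),
  (1594, [(1, true), (15, true), (1151, true), (2297, false)]),
  (1595, [(1, true), (15, true), (1151, true)]),
  (1596, [(1, true), (7, true), (554, true), (611, true)]),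
  (1597, [(1, true), (7, true), (486, true), (1151, false)]),
  (1598, [(1, true), (7, true), (1427, true), (1615, false)]),
  (1599, [(1, true), (7, true), (1427, true)]),
  (1600, [(1, true), (4, true), (543, true), (425, false)]),
  (1601, [(1, true), (4, true), (1615, false), (425, true)]),
  (1602, [(1, true), (4, true), (2297, true), (1615, true)]),
  (1603, [(1, true), (4, true), (1615, false)]),
  (1604, [(1, true), (4, true), (425, true), (1482, true)]),
  (1605, [(1, true), (4, true), (554, true), (1482, true)]),
  (1606, [(1, true), (4, true), (1482, true), (1151, false)]),
  (1607, [(1, true), (4, true), (1482, true)]),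
  (1608, [(1, true), (16, true), (554, true), (1482, false)]),
  (1609, [(1, true), (16, true), (44, true), (1482, false)]),
  (1610, [(1, true), (16, true), (1482, false), (425, false)]),
  (1611, [(1, true), (16, true), (1482, false)]),
  (1612, [(1, true), (13, true), (425, true), (1482, true)]),
  (1613, [(1, true), (13, true), (1482, true), (2297, false)]),
  (1614, [(1, true), (13, true), (1482, true)]),
  (1616, [(1, true), (13, true), (611, true)]),
  (1617, [(1, true), (13, true), (2297, true)]),
  (1618, [(1, true), (13, true), (425, false)]),
  (1619, [(1, true), (13, true)]),
  (1620, [(1, true), (16, true), (425, true)]),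
  (1621, [(1, true), (16, true), (961, false)]),
  (1622, [(1, true), (16, true), (2297, true)]),
  (1623, [(1, true), (16, true)]),
  (1624, [(1, true), (2, false), (485, true)]),
  (1625, [(1, true), (2, false), (486, true)]),
  (1626, [(1, true), (2, false), (425, false)]),
  (1627, [(1, true), (2, false)]),
  (1628, [(1, true), (554, true), (996, true), (425, true)]),
  (1629, [(1, true), (3, true), (470, true), (425, true)]),
  (1630, [(1, true), (3, true), (1615, false), (425, false)]),
  (1631, [(1, true), (3, true), (1615, false)]),
  (1632, [(1, true), (554, true), (1020, true), (425, true)]),
  (1633, [(1, true), (543, true), (470, true), (425, true)]),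
  (1634, [(1, true), (1221, true), (1615, false), (425, false)]),
  (1635, [(1, true), (1221, true), (1615, false)]),
  (1636, [(1, true), (543, true), (1020, true), (425, false)]),
  (1637, [(1, true), (554, true), (425, true), (1482, false)]),
  (1638, [(1, true), (486, true), (425, true), (1482, false)]),
  (1639, [(1, true), (1427, true), (1482, false)]),
  (1640, [(1, true), (977, true), (1482, false)]),
  (1641, [(1, true), (543, true), (172, true)]),
  (1642, [(1, true), (554, true), (425, true)]),
  (1643, [(1, true), (425, true), (1482, false)]),
  (1644, [(1, true), (2297, true), (1151, true)]),
  (1645, [(1, true), (1151, true), (554, true)]),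
  (1646, [(1, true), (9, true), (425, false)]),
  (1647, [(1, true), (9, true)]),
  (1648, [(1, true), (996, true), (1427, true)]),
  (1649, [(1, true), (486, true), (1427, true)]),
  (1650, [(1, true), (1427, true), (425, false)]),
  (1651, [(1, true), (1427, true)]),
  (1652, [(1, true), (486, true), (1482, true)]),
  (1653, [(1, true), (425, true), (2297, true)]),
  (1654, [(1, true), (2297, true)]),
  (1655, [(1, true), (1615, false)]),
  (1656, [(1, true), (611, true)]),
  (1657, [(1, true), (425, true)]),
  (1658, [(1, true), (1482, false)]),
  (1659, [(1, true)]),
  (1660, [(11, true), (2, true), (3, true), (554, true), (977, true), (1615, false)]),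
  (1661, [(11, true), (2, true), (3, true), (554, true), (45, true)]),
  (1662, [(11, true), (2, true), (3, true), (45, true), (2297, false)]),
  (1663, [(11, true), (2, true), (3, true), (554, true), (2297, true)]),
  (1664, [(2, true), (3, true), (1395, true), (543, true), (425, true)]),
  (1665, [(2, true), (3, true), (1395, true), (53, true), (425, false)]),
  (1666, [(2, true), (3, true), (554, true), (268, false), (1482, false)]),
  (1667, [(2, true), (3, true), (1482, true), (44, true), (1615, false)]),
  (1668, [(2, true), (3, true), (554, true), (44, true), (425, false)]),
  (1669, [(2, true), (3, true), (543, true), (50, true)])]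

def stepsX11 : List (ℕ × List (ℕ × Bool)) := [(1670, [(2, true), (3, true), (1221, true), (44, true), (543, false)]),
  (1671, [(2, true), (3, true), (1221, true), (44, true)]),
  (1672, [(2, true), (3, true), (1221, true), (554, true), (543, false)]),
  (1673, [(2, true), (3, true), (1221, true), (554, true)]),
  (1674, [(2, true), (3, true), (554, true), (44, true)]),
  (1675, [(2, true), (3, true), (9, true), (611, true), (506, true)]),
  (1676, [(2, true), (3, true), (554, true), (62, true)]),
  (1677, [(2, true), (3, true), (44, true), (60, true)]),
  (1678, [(2, true), (3, true), (1395, true), (543, true)]),
  (1679, [(2, true), (3, true), (1395, true), (2297, true)]),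
  (1680, [(2, true), (3, true), (45, true), (1020, true)]),
  (1681, [(2, true), (3, true), (554, true), (611, true)]),
  (1682, [(2, true), (3, true), (506, true), (1482, true)]),
  (1683, [(2, true), (3, true), (611, true), (1020, true)]),
  (1684, [(2, true), (5, true), (1615, true), (554, true), (1427, false)]),
  (1685, [(2, true), (5, true), (1615, true), (554, true), (425, false)]),
  (1686, [(2, true), (5, true), (1482, true), (48, true), (425, true)]),
  (1687, [(2, true), (5, true), (1482, true), (44, true), (425, false)]),
  (1688, [(2, true), (9, true), (1778, false), (1020, true), (1151, true)]),
  (1689, [(2, true), (9, true), (1395, true), (977, true), (425, true)]),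
  (1690, [(2, true), (9, true), (1395, true), (996, true), (425, false)]),
  (1691, [(2, true), (9, true), (1221, true), (554, true)]),
  (1692, [(2, true), (15, true), (1482, true), (554, true), (425, false)]),
  (1693, [(2, true), (15, true), (554, true), (47, true), (1151, false)]),
  (1694, [(2, true), (15, true), (554, true), (1020, false), (425, false)]),
  (1695, [(2, true), (15, true), (1482, true), (961, true), (425, true)]),
  (1696, [(2, true), (15, true), (554, true), (1020, false), (1482, false)]),
  (1697, [(2, true), (15, true), (1482, true), (611, true), (425, false)]),
  (1698, [(2, true), (15, true), (1482, true), (425, false), (543, true)]),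
  (1699, [(2, true), (15, true), (4, true), (543, true), (2297, true)]),
  (1700, [(2, true), (9, true), (1221, true), (56, true), (1151, false)]),
  (1701, [(2, true), (9, true), (1395, true), (977, true)]),
  (1702, [(2, true), (9, true), (1395, true), (996, true)]),
  (1703, [(2, true), (9, true), (4, true), (554, true), (543, false)]),
  (1704, [(2, true), (4, true), (554, true), (60, true)]),
  (1705, [(2, true), (4, true), (44, true), (61, true)]),
  (1706, [(2, true), (4, true), (50, true), (60, false)]),
  (1707, [(2, true), (4, true), (1615, true), (62, true), (1482, true)]),
  (1708, [(2, true), (5, true), (1221, true), (554, true), (425, true)]),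
  (1709, [(2, true), (5, true), (554, true), (47, true)]),
  (1710, [(2, true), (5, true), (1221, true), (554, true)]),
  (1711, [(2, true), (5, true), (45, true), (47, true)]),
  (1712, [(2, true), (5, true), (554, true), (44, true)]),
  (1713, [(2, true), (5, true), (1221, true), (486, true), (425, false)]),
  (1714, [(2, true), (5, true), (543, true), (46, true)]),
  (1715, [(2, true), (5, true), (1221, true), (486, true)]),
  (1716, [(2, true), (1395, true), (59, true), (1427, false)]),
  (1717, [(2, true), (6, true), (554, true), (63, true)]),
  (1718, [(2, true), (6, true), (554, true), (44, true)]),
  (1719, [(2, true), (6, true), (44, true), (2297, true)]),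
  (1720, [(2, true), (6, true), (554, true), (48, true)]),
  (1721, [(2, true), (6, true), (45, true), (1221, true)]),
  (1722, [(2, true), (6, true), (44, true), (64, true)]),
  (1723, [(2, true), (6, true), (46, true), (66, true)]),
  (1724, [(2, true), (7, true), (1151, true), (961, true), (1615, true)]),
  (1725, [(2, true), (7, true), (554, true), (109, true)]),
  (1726, [(2, true), (7, true), (1151, true), (977, true), (1615, false)]),
  (1727, [(2, true), (7, true), (45, true), (60, true)]),
  (1728, [(2, true), (7, true), (554, true), (1538, true)]),
  (1729, [(2, true), (7, true), (1151, true), (961, true)]),
  (1730, [(2, true), (7, true), (60, true), (1615, true)]),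
  (1731, [(2, true), (7, true), (1151, true), (977, true)]),
  (1732, [(2, true), (9, true), (60, true), (75, true)]),
  (1733, [(2, true), (9, true), (60, true), (63, true)]),
  (1734, [(2, true), (9, true), (68, true), (1538, true)]),
  (1735, [(2, true), (9, true), (60, true), (543, true)]),
  (1736, [(2, true), (19, true), (44, true), (46, true), (425, true)]),
  (1737, [(2, true), (19, true), (53, true), (68, true)]),
  (1738, [(2, true), (19, true), (53, true), (60, true)]),
  (1739, [(2, true), (19, true), (45, true), (2297, true)]),
  (1740, [(2, true), (19, true), (53, true), (554, true)]),
  (1741, [(2, true), (19, true), (68, true), (554, true)]),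
  (1742, [(2, true), (19, true), (44, true), (69, true)]),
  (1743, [(2, true), (19, true), (554, true), (69, true)]),
  (1744, [(2, true), (8, true), (68, true), (554, true)]),
  (1745, [(2, true), (8, true), (1151, true), (425, true)]),
  (1746, [(2, true), (8, true), (1151, true), (543, true)]),
  (1747, [(2, true), (8, true), (61, true), (470, true)]),
  (1748, [(2, true), (45, true), (64, true), (425, true)]),
  (1749, [(2, true), (45, true), (52, true), (1427, false)]),
  (1750, [(2, true), (45, true), (60, true), (1615, true)]),
  (1751, [(2, true), (1395, true), (486, true), (1221, true)]),
  (1752, [(2, true), (45, true), (65, true), (506, true)]),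
  (1753, [(2, true), (1395, true), (12, true), (425, true)]),
  (1754, [(2, true), (12, true), (56, true), (48, true)]),
  (1755, [(2, true), (12, true), (48, true), (77, true)]),
  (1756, [(2, true), (1395, true), (12, true), (1615, true), (554, true)]),
  (1757, [(2, true), (1395, true), (12, true), (554, true)]),
  (1758, [(2, true), (12, true), (1778, false), (1615, true)]),
  (1759, [(2, true), (12, true), (1778, false), (1538, true)]),
  (1760, [(2, true), (12, true), (13, true), (425, true)]),
  (1761, [(2, true), (12, true), (13, true), (2297, false)]),
  (1762, [(2, true), (12, true), (1395, true), (1615, false)]),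
  (1763, [(2, true), (12, true), (1395, true)]),
  (1764, [(2, true), (8, true), (1151, true), (1482, true), (1615, true)]),
  (1765, [(2, true), (8, true), (60, true), (9, true)]),
  (1766, [(2, true), (8, true), (9, true), (425, true), (1482, true)]),
  (1767, [(2, true), (8, true), (1151, true), (961, true)]),
  (1768, [(2, true), (12, true), (52, true), (1482, false)]),
  (1769, [(2, true), (12, true), (1221, true), (1482, true), (2297, false)]),
  (1770, [(2, true), (12, true), (1221, true), (1482, true)]),
  (1771, [(2, true), (12, true), (1538, true), (1020, false)]),
  (1772, [(2, true), (12, true), (1538, true), (1482, true)]),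
  (1773, [(2, true), (12, true), (1538, true)]),
  (1774, [(2, true), (12, true), (1221, true)]),
  (1775, [(2, true), (12, true), (3, false)]),
  (1776, [(2, true), (8, true), (1936, true)]),
  (1777, [(2, true), (8, true), (4, false), (425, true)]),
  (1779, [(2, true), (8, true), (2297, true)]),
  (1780, [(2, true), (13, true), (554, true), (543, true)]),
  (1781, [(2, true), (13, true), (1221, true), (425, false)]),
  (1782, [(2, true), (13, true), (1221, true), (1936, true)]),
  (1783, [(2, true), (13, true), (1020, true), (2297, false)]),
  (1784, [(2, true), (13, true), (1221, true), (1615, false)]),
  (1785, [(2, true), (13, true), (1020, true), (1482, false)]),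
  (1786, [(2, true), (13, true), (3, false), (2297, false)]),
  (1787, [(2, true), (13, true), (1221, true)]),
  (1788, [(2, true), (554, true), (58, true)]),
  (1789, [(2, true), (7, true), (486, true), (543, false)]),
  (1790, [(2, true), (7, true), (1615, true), (977, true)]),
  (1791, [(2, true), (7, true), (1395, true), (2297, true)]),
  (1792, [(2, true), (7, true), (977, true), (543, true)]),
  (1793, [(2, true), (7, true), (1615, true), (425, false)]),
  (1794, [(2, true), (7, true), (1395, true)]),
  (1795, [(2, true), (7, true), (1615, true)]),
  (1796, [(2, true), (554, true), (66, true)]),
  (1797, [(2, true), (47, true), (62, true)]),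
  (1798, [(2, true), (10, true), (1395, true), (2297, true)]),
  (1799, [(2, true), (10, true), (543, true), (470, true)]),
  (1800, [(2, true), (10, true), (1395, true), (425, true)]),
  (1801, [(2, true), (10, true), (486, true), (2297, true)]),
  (1802, [(2, true), (10, true), (1151, true), (2297, true)]),
  (1803, [(2, true), (10, true), (1151, true)]),
  (1804, [(2, true), (8, true), (554, true), (425, false)]),
  (1805, [(2, true), (8, true), (44, true), (425, true)]),
  (1806, [(2, true), (8, true), (485, true), (425, false)]),
  (1807, [(2, true), (8, true), (425, false), (1615, true)]),
  (1808, [(2, true), (19, true), (44, true), (425, false)]),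
  (1809, [(2, true), (19, true), (485, true), (425, false)]),
  (1810, [(2, true), (19, true), (1482, true), (425, true)]),
  (1811, [(2, true), (19, true), (1482, true)]),
  (1812, [(2, true), (7, true), (554, true), (425, true)]),
  (1813, [(2, true), (7, true), (47, true), (425, false)]),
  (1814, [(2, true), (7, true), (506, true), (425, false)]),
  (1815, [(2, true), (7, true), (425, false), (1482, true)]),
  (1816, [(2, true), (7, true), (977, true)]),
  (1817, [(2, true), (7, true), (2297, true)]),
  (1818, [(2, true), (7, true), (425, true)]),
  (1819, [(2, true), (7, true)]),
  (1820, [(2, true), (19, true), (554, true)])]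

def stepsX12 : List (ℕ × List (ℕ × Bool)) := [(1821, [(2, true), (19, true), (425, false)]),
  (1822, [(2, true), (19, true), (1151, true)]),
  (1823, [(2, true), (19, true)]),
  (1824, [(2, true), (3, false), (470, true)]),
  (1825, [(2, true), (3, false), (1482, true)]),
  (1826, [(2, true), (3, false), (425, false)]),
  (1827, [(2, true), (3, false)]),
  (1828, [(2, true), (611, true), (1482, true), (425, false)]),
  (1829, [(2, true), (554, true), (543, true), (425, false)]),
  (1830, [(2, true), (1020, true), (4, true), (425, true)]),
  (1831, [(2, true), (4, true), (425, false), (1615, false)]),
  (1832, [(2, true), (1395, true), (425, false), (1482, true)]),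
  (1833, [(2, true), (1395, true), (425, false)]),
  (1834, [(2, true), (1538, true), (425, false), (1482, true)]),
  (1835, [(2, true), (1538, true), (961, true)]),
  (1836, [(2, true), (1221, true), (425, false), (543, false)]),
  (1837, [(2, true), (1221, true), (425, false)]),
  (1838, [(2, true), (611, true), (1615, true)]),
  (1839, [(2, true), (425, false), (554, true)]),
  (1840, [(2, true), (554, true), (1482, false)]),
  (1841, [(2, true), (425, false), (2297, false)]),
  (1842, [(2, true), (1221, true), (543, true)]),
  (1843, [(2, true), (1221, true)]),
  (1844, [(2, true), (425, false), (1615, false)]),
  (1845, [(2, true), (1538, true)]),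
  (1846, [(2, true), (961, false), (1482, false)]),
  (1847, [(2, true), (1395, true)]),
  (1848, [(2, true), (977, true)]),
  (1849, [(2, true), (425, false)]),
  (1850, [(2, true), (2297, false)]),
  (1851, [(2, true)]),
  (1852, [(13, true), (3, true), (961, true), (977, true), (1020, false)]),
  (1853, [(13, true), (3, true), (961, true), (1221, true), (425, true)]),
  (1854, [(13, true), (3, true), (1936, false), (554, true), (2297, false)]),
  (1855, [(13, true), (3, true), (1936, false), (543, true), (2297, true)]),
  (1856, [(4, true), (3, true), (543, true), (961, true), (1482, true)]),
  (1857, [(4, true), (3, true), (961, true), (44, true)]),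
  (1858, [(4, true), (3, true), (961, true), (543, true)]),
  (1859, [(4, true), (3, true), (554, true), (543, true)]),
  (1860, [(4, true), (3, true), (961, true), (2297, false)]),
  (1861, [(4, true), (3, true), (1395, true), (425, true), (1615, true)]),
  (1862, [(4, true), (3, true), (1395, true), (425, true)]),
  (1863, [(4, true), (3, true), (554, true), (2297, false)]),
  (1864, [(4, true), (3, true), (554, true), (425, true)]),
  (1865, [(4, true), (3, true), (543, true), (425, true)]),
  (1866, [(4, true), (3, true), (44, true), (1778, true)]),
  (1867, [(4, true), (3, true), (425, true), (1778, true)]),
  (1868, [(3, true), (5, true), (2297, true), (44, true), (425, false)]),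
  (1869, [(3, true), (5, true), (554, true), (44, true), (1151, true)]),
  (1870, [(3, true), (5, true), (554, true), (176, false), (425, true)]),
  (1871, [(3, true), (5, true), (2297, true), (44, true)]),
  (1872, [(3, true), (5, true), (1427, true), (543, true), (1615, true)]),
  (1873, [(3, true), (5, true), (1427, true), (425, true), (1615, true)]),
  (1874, [(3, true), (5, true), (53, true), (470, true)]),
  (1875, [(3, true), (5, true), (470, true), (1538, true)]),
  (1876, [(3, true), (5, true), (1538, true), (425, true), (1151, false)]),
  (1877, [(3, true), (5, true), (1538, true), (425, true)]),
  (1878, [(3, true), (5, true), (470, true), (425, false)]),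
  (1879, [(3, true), (5, true), (1427, true), (425, true)]),
  (1880, [(3, true), (5, true), (554, true), (543, true)]),
  (1881, [(3, true), (5, true), (44, true), (977, true)]),
  (1882, [(3, true), (5, true), (50, true), (543, true)]),
  (1883, [(3, true), (5, true), (425, true), (543, true)]),
  (1884, [(3, true), (1395, true), (996, true), (151, true)]),
  (1885, [(3, true), (6, true), (44, true), (48, true), (1615, false)]),
  (1886, [(3, true), (6, true), (48, true), (195, false), (425, false)]),
  (1887, [(3, true), (1395, true), (8, true), (554, true), (1482, true)]),
  (1888, [(3, true), (6, true), (554, true), (961, true), (1482, false)]),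
  (1889, [(3, true), (1395, true), (2297, true), (611, true), (425, true)]),
  (1890, [(3, true), (1395, true), (2297, true), (611, true)]),
  (1891, [(3, true), (6, true), (961, true), (1221, true)]),
  (1892, [(3, true), (1395, true), (554, true), (485, false)]),
  (1893, [(3, true), (6, true), (1221, true), (425, true)]),
  (1894, [(3, true), (6, true), (2297, true), (1538, true)]),
  (1895, [(3, true), (6, true), (44, true), (48, true)]),
  (1896, [(3, true), (6, true), (48, true), (425, true)]),
  (1897, [(3, true), (6, true), (44, true), (425, true)]),
  (1898, [(3, true), (6, true), (961, true), (425, false)]),
  (1899, [(3, true), (6, true), (425, true), (554, true)]),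
  (1900, [(3, true), (9, true), (425, true), (1538, true), (1482, true)]),
  (1901, [(3, true), (9, true), (425, true), (1538, true)]),
  (1902, [(3, true), (9, true), (172, true), (44, true)]),
  (1903, [(3, true), (9, true), (425, true), (2297, true)]),
  (1904, [(3, true), (13, true), (961, true), (1221, true)]),
  (1905, [(3, true), (13, true), (1427, true), (425, false), (2297, false)]),
  (1906, [(3, true), (13, true), (45, true), (49, true)]),
  (1907, [(3, true), (13, true), (554, true), (53, true)]),
  (1908, [(3, true), (13, true), (45, true), (425, true)]),
  (1909, [(3, true), (13, true), (47, true), (1538, true)]),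
  (1910, [(3, true), (13, true), (554, true), (425, true)]),
  (1911, [(3, true), (13, true), (1427, true), (2297, false)]),
  (1912, [(3, true), (9, true), (172, true), (554, true)]),
  (1913, [(3, true), (9, true), (425, true), (554, true)]),
  (1914, [(3, true), (9, true), (2297, true), (1936, false)]),
  (1915, [(3, true), (9, true), (554, true), (46, true)]),
  (1916, [(3, true), (554, true), (170, true), (1482, false)]),
  (1917, [(3, true), (554, true), (204, true), (1427, true)]),
  (1918, [(3, true), (554, true), (425, true), (470, false)]),
  (1919, [(3, true), (45, true), (266, true), (1020, false)]),
  (1920, [(3, true), (554, true), (170, true)]),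
  (1921, [(3, true), (14, true), (977, true), (44, true)]),
  (1922, [(3, true), (14, true), (543, true), (1427, true)]),
  (1923, [(3, true), (14, true), (1482, true), (425, false), (1151, true)]),
  (1924, [(3, true), (14, true), (554, true), (425, false)]),
  (1925, [(3, true), (14, true), (1482, true), (977, true)]),
  (1926, [(3, true), (14, true), (1482, true), (425, false)]),
  (1927, [(3, true), (14, true), (2297, true), (425, false)]),
  (1928, [(3, true), (14, true), (1482, true), (1615, true)]),
  (1929, [(3, true), (14, true), (2297, true)]),
  (1930, [(3, true), (14, true), (1778, true), (425, false)]),
  (1931, [(3, true), (14, true), (1482, true)]),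
  (1932, [(3, true), (9, true), (2297, true), (1615, false), (1151, true)]),
  (1933, [(3, true), (9, true), (425, true), (961, false)]),
  (1934, [(3, true), (9, true), (2297, true), (1151, true)]),
  (1935, [(3, true), (9, true), (1538, true), (1615, true)]),
  (1937, [(3, true), (425, true), (48, true)]),
  (1938, [(3, true), (10, true), (554, true), (961, true)]),
  (1939, [(3, true), (10, true), (977, true), (425, false)]),
  (1940, [(3, true), (10, true), (961, true), (425, false)]),
  (1941, [(3, true), (10, true), (554, true), (1778, true)]),
  (1942, [(3, true), (10, true), (6, false), (425, true)]),
  (1943, [(3, true), (10, true), (6, false)]),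
  (1944, [(3, true), (7, true), (1482, true), (425, false)]),
  (1945, [(3, true), (7, true), (1778, true)]),
  (1946, [(3, true), (7, true), (1482, true)]),
  (1947, [(3, true), (7, true), (5, false)]),
  (1948, [(3, true), (9, true), (611, true), (1482, false)]),
  (1949, [(3, true), (9, true), (44, true), (1482, false)]),
  (1950, [(3, true), (9, true), (425, true), (1482, false)]),
  (1951, [(3, true), (9, true), (1482, false)]),
  (1952, [(3, true), (10, true), (554, true), (1482, true)]),
  (1953, [(3, true), (10, true), (44, true), (1482, true)]),
  (1954, [(3, true), (10, true), (425, true), (1482, false)]),
  (1955, [(3, true), (10, true), (1427, false)]),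
  (1956, [(3, true), (10, true), (611, true)]),
  (1957, [(3, true), (10, true), (425, true)]),
  (1958, [(3, true), (10, true), (2297, true)]),
  (1959, [(3, true), (10, true)]),
  (1960, [(3, true), (6, true), (554, true)]),
  (1961, [(3, true), (6, true), (425, true)]),
  (1962, [(3, true), (6, true), (1615, false)]),
  (1963, [(3, true), (6, true)]),
  (1964, [(3, true), (554, true), (1395, true), (425, false)]),
  (1965, [(3, true), (7, true), (543, true), (1615, true)]),
  (1966, [(3, true), (7, true), (977, true), (1615, true)]),
  (1967, [(3, true), (7, true), (1936, false)]),
  (1968, [(3, true), (1427, true), (1615, true), (1151, false)]),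
  (1969, [(3, true), (1427, true), (1615, true)]),
  (1970, [(3, true), (12, true), (425, true), (1615, false)]),
  (1971, [(3, true), (12, true), (1936, true)])]

def stepsX13 : List (ℕ × List (ℕ × Bool)) := [(1972, [(3, true), (12, true), (543, true)]),
  (1973, [(3, true), (12, true), (425, true)]),
  (1974, [(3, true), (1427, true), (1151, false)]),
  (1975, [(3, true), (1427, true)]),
  (1976, [(3, true), (4, false), (425, true)]),
  (1977, [(3, true), (4, false), (977, true)]),
  (1978, [(3, true), (4, false), (1615, false)]),
  (1979, [(3, true), (4, false)]),
  (1980, [(3, true), (554, true), (1482, true), (1615, true)]),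
  (1981, [(3, true), (1778, true), (1482, true)]),
  (1982, [(3, true), (425, true), (1482, true), (1615, false)]),
  (1983, [(3, true), (48, true), (1482, true), (1615, false)]),
  (1984, [(3, true), (425, true), (1482, true)]),
  (1985, [(3, true), (44, true), (470, false)]),
  (1986, [(3, true), (543, true), (977, true)]),
  (1987, [(3, true), (1482, true), (2297, true)]),
  (1988, [(3, true), (554, true), (1615, true)]),
  (1989, [(3, true), (1482, true), (1615, true)]),
  (1990, [(3, true), (1482, true)]),
  (1991, [(3, true), (8, false)]),
  (1992, [(3, true), (977, true)]),
  (1993, [(3, true), (425, true)]),
  (1994, [(3, true), (2297, false)]),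
  (1995, [(3, true)]),
  (1996, [(15, true), (4, true), (554, true), (961, true), (611, true)]),
  (1997, [(15, true), (4, true), (486, true), (2297, false)]),
  (1998, [(15, true), (4, true), (45, true), (425, true)]),
  (1999, [(15, true), (4, true), (425, true), (2297, true)]),
  (2000, [(4, true), (20, true), (425, true), (1151, false), (1615, false)]),
  (2001, [(4, true), (20, true), (425, true), (1151, false)]),
  (2002, [(4, true), (20, true), (425, true), (1615, true)]),
  (2003, [(4, true), (20, true), (611, true), (1615, false)]),
  (2004, [(4, true), (20, true), (425, true), (543, true)]),
  (2005, [(4, true), (20, true), (611, true), (543, true)]),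
  (2006, [(4, true), (20, true), (543, true), (1615, true)]),
  (2007, [(4, true), (20, true), (486, true), (1615, false)]),
  (2008, [(4, true), (15, true), (45, true), (543, false)]),
  (2009, [(4, true), (15, true), (486, true), (543, true)]),
  (2010, [(4, true), (15, true), (554, true), (543, true)]),
  (2011, [(4, true), (15, true), (425, true), (543, true)]),
  (2012, [(4, true), (1395, true), (554, true), (1615, true)]),
  (2013, [(4, true), (18, true), (554, true), (961, true)]),
  (2014, [(4, true), (18, true), (554, true), (1615, true)]),
  (2015, [(4, true), (18, true), (961, true), (1615, false)]),
  (2016, [(4, true), (18, true), (554, true), (425, true)]),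
  (2017, [(4, true), (18, true), (1482, false), (961, true)]),
  (2018, [(4, true), (18, true), (1482, false), (425, false)]),
  (2019, [(4, true), (18, true), (1482, false)]),
  (2020, [(4, true), (8, true), (554, true), (1151, false), (2297, false)]),
  (2021, [(4, true), (8, true), (611, true), (2297, false)]),
  (2022, [(4, true), (8, true), (611, true), (1151, false)]),
  (2023, [(4, true), (8, true), (554, true), (2297, true)]),
  (2024, [(4, true), (8, true), (611, true), (425, true)]),
  (2025, [(4, true), (8, true), (1020, true), (425, true)]),
  (2026, [(4, true), (8, true), (554, true), (425, false)]),
  (2027, [(4, true), (8, true), (425, true), (1151, false)]),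
  (2028, [(4, true), (21, true), (425, true), (486, true), (1151, false)]),
  (2029, [(4, true), (21, true), (50, true), (56, true)]),
  (2030, [(4, true), (21, true), (50, true), (1615, false)]),
  (2031, [(4, true), (21, true), (977, true), (2297, false)]),
  (2032, [(4, true), (21, true), (50, true), (425, true)]),
  (2033, [(4, true), (21, true), (56, true), (425, true)]),
  (2034, [(4, true), (21, true), (425, true), (1615, false)]),
  (2035, [(4, true), (21, true), (977, true), (425, false)]),
  (2036, [(4, true), (19, true), (554, true), (543, true), (425, false)]),
  (2037, [(4, true), (19, true), (554, true), (1221, false)]),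
  (2038, [(4, true), (19, true), (554, true), (45, true)]),
  (2039, [(4, true), (19, true), (45, true), (1221, true)]),
  (2040, [(4, true), (19, true), (554, true), (1615, true)]),
  (2041, [(4, true), (19, true), (49, true), (1615, true)]),
  (2042, [(4, true), (19, true), (47, true), (1615, false)]),
  (2043, [(4, true), (19, true), (961, true), (2297, true)]),
  (2044, [(4, true), (19, true), (554, true), (425, true)]),
  (2045, [(4, true), (19, true), (961, true), (425, true)]),
  (2046, [(4, true), (19, true), (1482, true), (425, false)]),
  (2047, [(4, true), (19, true), (1482, true)]),
  (2048, [(4, true), (19, true), (543, true)]),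
  (2049, [(4, true), (19, true), (425, true)]),
  (2050, [(4, true), (19, true), (2297, false)]),
  (2051, [(4, true), (19, true)]),
  (2052, [(4, true), (14, true), (44, true), (1482, false)]),
  (2053, [(4, true), (14, true), (506, true), (1482, true)]),
  (2054, [(4, true), (14, true), (486, true), (425, false)]),
  (2055, [(4, true), (14, true), (425, true), (1482, false)]),
  (2056, [(4, true), (14, true), (425, true)]),
  (2057, [(4, true), (14, true), (1151, true)]),
  (2058, [(4, true), (14, true), (1482, false)]),
  (2059, [(4, true), (14, true)]),
  (2060, [(4, true), (8, true), (611, true), (1482, false)]),
  (2061, [(4, true), (8, true), (1020, true), (1482, false)]),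
  (2062, [(4, true), (8, true), (425, true), (1482, false)]),
  (2063, [(4, true), (8, true), (1482, false)]),
  (2064, [(4, true), (8, true), (543, true)]),
  (2065, [(4, true), (8, true), (425, true)]),
  (2066, [(4, true), (8, true), (1151, false)]),
  (2067, [(4, true), (8, true)]),
  (2068, [(4, true), (554, true), (543, true)]),
  (2069, [(4, true), (485, true), (57, true)]),
  (2070, [(4, true), (425, true), (54, true)]),
  (2071, [(4, true), (5, false), (1427, false)]),
  (2072, [(4, true), (5, false), (611, false)]),
  (2073, [(4, true), (5, false), (425, true)]),
  (2074, [(4, true), (5, false), (1615, true)]),
  (2075, [(4, true), (5, false)]),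
  (2076, [(4, true), (543, true), (1482, false), (2297, true)]),
  (2077, [(4, true), (1427, true), (1482, false)]),
  (2078, [(4, true), (554, true), (425, false), (1482, false)]),
  (2079, [(4, true), (425, true), (1482, false), (1151, false)]),
  (2080, [(4, true), (425, true), (961, false)]),
  (2081, [(4, true), (1151, true), (1482, true)]),
  (2082, [(4, true), (1615, true), (470, false)]),
  (2083, [(4, true), (1482, false), (1151, false)]),
  (2084, [(4, true), (543, true), (2297, false)]),
  (2085, [(4, true), (1615, true), (1482, true)]),
  (2086, [(4, true), (1615, true)]),
  (2087, [(4, true), (1482, false)]),
  (2088, [(4, true), (425, true)]),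
  (2089, [(4, true), (2297, false)]),
  (2090, [(4, true), (543, false)]),
  (2091, [(4, true)]),
  (2092, [(7, true), (5, true), (554, true), (977, true), (961, false)]),
  (2093, [(7, true), (5, true), (554, true), (1538, true)]),
  (2094, [(7, true), (5, true), (554, true), (425, true)]),
  (2095, [(7, true), (5, true), (425, true), (1538, false)]),
  (2096, [(1427, true), (172, true), (5, true), (611, false)]),
  (2097, [(1615, true), (1151, true), (112, true), (56, true)]),
  (2098, [(1427, true), (1151, true), (5, true), (425, true), (1482, true)]),
  (2099, [(78, true), (1482, true), (44, true), (8, false)]),
  (2100, [(1427, true), (5, true), (181, true), (554, true)]),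
  (2101, [(1615, true), (1151, true), (63, true), (11, true)]),
  (2102, [(1427, true), (1151, true), (5, true), (1482, true)]),
  (2103, [(1395, true), (11, true), (6, true)]),
  (2104, [(7, true), (5, true), (554, true), (977, true)]),
  (2105, [(7, true), (5, true), (1395, true), (1482, true)]),
  (2106, [(7, true), (5, true), (1395, true), (425, false)]),
  (2107, [(7, true), (5, true), (1395, true)]),
  (2108, [(5, true), (15, true), (543, true), (2297, true), (1482, false)]),
  (2109, [(5, true), (15, true), (611, true), (1538, false)]),
  (2110, [(5, true), (15, true), (611, true), (2297, true)]),
  (2111, [(5, true), (15, true), (543, true), (1221, false)]),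
  (2112, [(5, true), (15, true), (611, true), (1151, false)]),
  (2113, [(5, true), (15, true), (44, true), (1151, true)]),
  (2114, [(5, true), (15, true), (543, true), (1151, false)]),
  (2115, [(5, true), (15, true), (554, true), (2297, true)]),
  (2116, [(13, true), (2297, false), (44, true), (1482, false), (1615, true)]),
  (2117, [(13, true), (2297, false), (425, true), (1615, false), (554, true)]),
  (2118, [(13, true), (5, true), (485, true), (425, true)]),
  (2119, [(13, true), (5, true), (425, true), (543, true)]),
  (2120, [(13, true), (5, true), (485, true), (1615, false)]),
  (2121, [(13, true), (5, true), (543, true), (1615, true)])]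

def stepsX14 : List (ℕ × List (ℕ × Bool)) := [(2122, [(13, true), (5, true), (44, true), (425, false)]),
  (2123, [(13, true), (5, true), (425, true), (1615, true)]),
  (2124, [(5, true), (71, true), (103, true), (1482, true)]),
  (2125, [(5, true), (71, true), (204, true)]),
  (2126, [(5, true), (71, true), (75, true)]),
  (2127, [(5, true), (75, true), (208, true)]),
  (2128, [(5, true), (71, true), (203, true)]),
  (2129, [(5, true), (12, true), (47, true), (1482, false)]),
  (2130, [(5, true), (12, true), (485, true), (1482, false)]),
  (2131, [(5, true), (12, true), (554, true), (1482, true)]),
  (2132, [(5, true), (12, true), (977, true), (425, false)]),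
  (2133, [(5, true), (12, true), (47, true), (425, true)]),
  (2134, [(5, true), (12, true), (485, true), (425, true)]),
  (2135, [(5, true), (12, true), (1778, true)]),
  (2136, [(5, true), (12, true), (554, true)]),
  (2137, [(5, true), (12, true), (611, true)]),
  (2138, [(5, true), (12, true), (425, false)]),
  (2139, [(5, true), (12, true)]),
  (2140, [(5, true), (1615, true), (1151, true), (2297, false)]),
  (2141, [(5, true), (13, true), (543, true), (1151, true)]),
  (2142, [(5, true), (13, true), (1151, true), (425, false)]),
  (2143, [(5, true), (13, true), (1151, true)]),
  (2144, [(5, true), (13, true), (425, true)]),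
  (2145, [(5, true), (13, true), (2297, true)]),
  (2146, [(5, true), (13, true), (1615, false)]),
  (2147, [(5, true), (13, true)]),
  (2148, [(5, true), (486, true), (485, true)]),
  (2149, [(5, true), (1395, true), (485, true)]),
  (2150, [(5, true), (554, true), (425, true)]),
  (2151, [(5, true), (1395, true), (2297, true)]),
  (2152, [(5, true), (6, false), (977, true)]),
  (2153, [(5, true), (1395, true), (425, false)]),
  (2154, [(5, true), (6, false), (425, false)]),
  (2155, [(5, true), (1395, true)]),
  (2156, [(5, true), (554, true), (1482, false), (1151, false)]),
  (2157, [(5, true), (1936, true), (425, false), (1482, false)]),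
  (2158, [(5, true), (486, true), (1482, true), (1615, false)]),
  (2159, [(5, true), (1936, true), (961, true)]),
  (2160, [(5, true), (425, true), (1482, true)]),
  (2161, [(5, true), (977, true), (1482, true)]),
  (2162, [(5, true), (1615, true), (543, true)]),
  (2163, [(5, true), (1151, true), (611, true)]),
  (2164, [(5, true), (1151, true), (425, false)]),
  (2165, [(5, true), (1615, true), (1482, true)]),
  (2166, [(5, true), (1615, true)]),
  (2167, [(5, true), (2297, true)]),
  (2168, [(5, true), (425, true)]),
  (2169, [(5, true), (1482, false)]),
  (2170, [(5, true), (554, false)]),
  (2171, [(5, true)]),
  (2172, [(506, true), (47, true), (83, true), (2297, true)]),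
  (2173, [(1395, true), (12, true), (977, true), (425, false)]),
  (2174, [(21, true), (1151, true), (59, true), (1482, true)]),
  (2175, [(1395, true), (12, true), (47, true), (425, true)]),
  (2176, [(21, true), (7, true), (1020, true), (425, false)]),
  (2177, [(1395, true), (12, true), (961, true), (425, true)]),
  (2178, [(21, true), (7, true), (47, true), (425, true)]),
  (2179, [(1395, true), (12, true), (1221, false)]),
  (2180, [(13, true), (2297, false), (977, true), (1615, true)]),
  (2181, [(13, true), (1427, true), (506, true), (425, true)]),
  (2182, [(13, true), (2297, false), (506, true), (1615, false)]),
  (2183, [(13, true), (977, true), (506, true), (425, false)]),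
  (2184, [(13, true), (1427, true), (1482, true), (2297, true)]),
  (2185, [(13, true), (1427, true), (1482, true)]),
  (2186, [(13, true), (59, true), (54, false)]),
  (2187, [(13, true), (2297, false), (1482, true)]),
  (2188, [(1395, true), (15, true), (977, true), (1482, false)]),
  (2189, [(1395, true), (15, true), (554, true), (1482, true)]),
  (2190, [(6, true), (202, true), (75, true)]),
  (2191, [(6, true), (554, true), (154, true)]),
  (2192, [(6, true), (202, true), (2297, true)]),
  (2193, [(6, true), (203, true), (58, true)]),
  (2194, [(6, true), (58, true), (74, true)]),
  (2195, [(6, true), (554, true), (2297, true)]),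
  (2196, [(6, true), (187, true), (506, true)]),
  (2197, [(6, true), (186, true), (506, true)]),
  (2198, [(6, true), (506, true), (1615, true)]),
  (2199, [(6, true), (15, true), (554, true), (1482, true)]),
  (2200, [(6, true), (15, true), (554, true)]),
  (2201, [(6, true), (15, true), (1615, false)]),
  (2202, [(6, true), (15, true), (425, false)]),
  (2203, [(6, true), (15, true)]),
  (2204, [(6, true), (1615, true), (425, true), (2297, false)]),
  (2205, [(6, true), (1615, true), (425, true)]),
  (2206, [(6, true), (77, true), (47, true)]),
  (2207, [(6, true), (425, true), (2297, true)]),
  (2208, [(6, true), (506, true), (1778, true)]),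
  (2209, [(6, true), (425, true), (543, true)]),
  (2210, [(6, true), (1615, true), (2297, true)]),
  (2211, [(6, true), (1615, true)]),
  (2212, [(6, true), (425, true), (1482, true)]),
  (2213, [(6, true), (506, true), (1482, false)]),
  (2214, [(6, true), (554, true), (1482, false)]),
  (2215, [(6, true), (1427, true)]),
  (2216, [(6, true), (543, true)]),
  (2217, [(6, true), (554, true)]),
  (2218, [(6, true), (425, false)]),
  (2219, [(6, true)]),
  (2220, [(1427, true), (554, true), (8, true), (1615, false)]),
  (2221, [(611, true), (59, true), (1538, false)]),
  (2222, [(59, true), (50, true), (425, true), (1615, false)]),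
  (2223, [(1427, true), (554, true), (8, true)]),
  (2224, [(1427, true), (1482, true), (425, false), (1615, true)]),
  (2225, [(1482, true), (611, true), (1151, false), (425, true)]),
  (2226, [(1482, true), (554, true), (1151, false), (425, false)]),
  (2227, [(1482, true), (1427, true), (425, false)]),
  (2228, [(1427, true), (1615, true), (1020, true)]),
  (2229, [(1427, true), (1936, false), (52, true)]),
  (2230, [(1395, true), (486, true), (1482, false), (1615, false)]),
  (2231, [(1395, true), (486, true), (1482, false)]),
  (2232, [(1395, true), (425, true), (1482, false), (1615, true)]),
  (2233, [(1395, true), (425, true), (1482, false)]),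
  (2234, [(1427, true), (554, true), (486, true)]),
  (2235, [(1427, true), (1615, true), (996, false)]),
  (2236, [(1395, true), (554, true), (1615, true), (1151, true)]),
  (2237, [(1395, true), (554, true), (1427, true)]),
  (2238, [(7, true), (1020, true), (554, false)]),
  (2239, [(7, true), (1151, true), (1615, true)]),
  (2240, [(7, true), (1538, true), (611, false)]),
  (2241, [(7, true), (1151, true), (425, true)]),
  (2242, [(1395, true), (1427, true), (1615, false)]),
  (2243, [(1395, true), (1427, true)]),
  (2244, [(7, true), (44, true), (425, true)]),
  (2245, [(7, true), (611, true), (425, false)]),
  (2246, [(7, true), (1482, true), (1615, false)]),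
  (2247, [(7, true), (1482, true)]),
  (2248, [(7, true), (996, true)]),
  (2249, [(7, true), (554, true)]),
  (2250, [(7, true), (425, true)]),
  (2251, [(7, true)]),
  (2252, [(2297, false), (425, true), (486, true)]),
  (2253, [(1395, true), (554, true), (1615, false)]),
  (2254, [(2297, false), (1615, true), (485, true)]),
  (2255, [(1395, true), (554, true)]),
  (2256, [(1395, true), (1482, false), (1615, false)]),
  (2257, [(8, true), (1482, false), (1615, false)]),
  (2258, [(1395, true), (1482, false)]),
  (2259, [(8, true), (1482, false)]),
  (2260, [(1395, true), (425, true), (1615, true)]),
  (2261, [(8, true), (55, true), (425, true)]),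
  (2262, [(1395, true), (425, true)]),
  (2263, [(8, true), (2297, true)]),
  (2264, [(8, true), (425, true)]),
  (2265, [(1395, true), (1615, true)]),
  (2266, [(8, true), (1151, false)]),
  (2267, [(1395, true)]),
  (2268, [(1427, true), (486, true), (425, true)]),
  (2269, [(1427, true), (611, true), (425, false)]),
  (2270, [(1427, true), (977, true), (425, false)]),
  (2271, [(1427, true), (1778, true)])]

def stepsX15 : List (ℕ × List (ℕ × Bool)) := [(2272, [(83, true), (163, false)]),
  (2273, [(2297, false), (486, true), (1151, true)]),
  (2274, [(2297, false), (486, true)]),
  (2275, [(1778, true), (1615, false)]),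
  (2276, [(66, true), (506, false)]),
  (2277, [(2297, false), (425, false), (1151, true)]),
  (2278, [(2297, false), (425, false)]),
  (2279, [(9, true), (1427, false)]),
  (2280, [(1427, true), (425, false)]),
  (2281, [(2297, false), (1151, true)]),
  (2282, [(2297, false)]),
  (2283, [(1427, true)]),
  (2284, [(506, true), (84, true)]),
  (2285, [(554, true), (1020, true)]),
  (2286, [(554, true), (506, true)]),
  (2287, [(506, true), (961, false)]),
  (2288, [(554, true), (425, false)]),
  (2289, [(1615, false), (486, true)]),
  (2290, [(1615, false), (1482, true)]),
  (2291, [(1615, false)]),
  (2292, [(425, true), (1482, false)]),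
  (2293, [(961, false), (1482, true)]),
  (2294, [(470, true)]),
  (2295, [(961, false)]),
  (2296, [(543, true)]),
  (2298, [(425, false)]),
  (2299, [])]

/-- every point in turn -/
def stepsX : List (ℕ × List (ℕ × Bool)) :=
  [stepsX0, stepsX1, stepsX2, stepsX3, stepsX4, stepsX5, stepsX6, stepsX7, stepsX8, stepsX9, stepsX10, stepsX11, stepsX12, stepsX13, stepsX14, stepsX15].flatten

def stepsY0 : List (ℕ × List (ℕ × Bool)) := [(0, [(30, true), (1399, true), (1216, true), (1104, true), (472, true), (1354, true), (1870, false), (2043, false), (741, false)]),
  (3, [(0, true), (561, true), (719, true), (741, true), (472, true), (30, true), (1104, false)]),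
  (4, [(3, true), (1104, true), (561, true), (0, true), (30, true), (2043, true), (719, false), (472, false), (1870, false)]),
  (5, [(3, true), (1577, true), (472, true), (719, true), (561, true), (4, true), (2043, false), (0, true)]),
  (6, [(3, true), (1354, true), (5, true), (4, true), (719, true), (1870, false), (561, true), (1104, false), (472, false)]),
  (7, [(3, true), (1577, true), (719, true), (0, true), (741, true), (1216, true), (30, true)]),
  (8, [(3, true), (1354, true), (5, true), (741, true), (4, true), (719, false), (30, true), (1104, false), (561, true)]),
  (9, [(3, true), (5, true), (30, true), (719, false), (561, false), (1577, false), (7, true), (472, true), (741, false), (1870, false)]),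
  (12, [(3, true), (5, true), (1399, true), (0, true), (561, true), (719, true), (1104, false), (4, true)]),
  (13, [(3, true), (1104, true), (5, true), (741, true), (4, true), (561, false), (30, true), (472, false), (1577, false)]),
  (14, [(3, true), (1577, true), (2043, true), (30, true), (13, true), (472, true), (741, true)]),
  (15, [(3, true), (1354, true), (5, true), (1399, true), (1216, true), (719, false), (30, true)]),
  (16, [(3, true), (1577, true), (2043, true), (15, true), (561, false), (741, true), (0, true)]),
  (17, [(3, true), (1354, true), (5, true), (4, true), (472, true), (7, true), (1104, false), (1577, false), (561, true)]),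
  (18, [(3, true), (5, true), (741, true), (30, true), (13, true), (1870, true), (561, true), (1104, false)]),
  (19, [(3, true), (2043, true), (30, true), (13, true), (0, true), (1216, true), (719, false)]),
  (20, [(3, true), (1216, true), (30, true), (13, true), (5, true), (719, false), (1870, false)]),
  (21, [(3, true), (1577, true), (15, true), (472, true), (741, true), (4, true), (8, true)]),
  (22, [(3, true), (1577, true), (15, true), (719, true), (4, true), (19, true), (561, false)]),
  (23, [(3, true), (1216, true), (30, true), (13, true), (5, true), (472, false), (741, false)]),
  (24, [(3, true), (1216, true), (30, true), (13, true), (5, true), (472, false), (1104, false)]),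
  (25, [(3, true), (5, true), (30, true), (13, true), (1870, true), (0, true), (472, true), (1216, false)]),
  (26, [(3, true), (1354, true), (5, true), (741, true), (4, true), (561, false), (1870, true), (472, false)]),
  (27, [(3, true), (1216, true), (1104, true), (5, true), (7, true), (23, true), (472, true)]),
  (28, [(27, true), (1870, true), (1399, true), (741, true), (9, true), (13, true)]),
  (29, [(27, true), (30, true), (13, true), (0, true), (1104, false), (1577, true), (1870, false)]),
  (31, [(27, true), (741, true), (1399, true), (9, true), (16, true), (30, true), (1104, false)]),
  (34, [(27, true), (741, true), (30, true), (13, true), (561, true), (2043, false), (472, false), (1104, false)]),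
  (35, [(27, true), (1354, true), (30, true), (13, true), (3, true), (1104, false), (472, false)]),
  (36, [(27, true), (1870, true), (30, true), (13, true), (0, true), (472, true)]),
  (37, [(27, true), (741, true), (1354, true), (30, true), (9, true), (12, true), (1104, false)]),
  (38, [(27, true), (741, true), (1870, true), (4, true), (16, true), (30, true)]),
  (39, [(27, true), (741, true), (30, true), (1104, true), (3, true), (2043, true), (1870, false), (472, true)]),
  (40, [(27, true), (1870, true), (1399, true), (9, true), (16, true)]),
  (41, [(27, true), (741, true), (1354, true), (30, true), (9, true), (12, true), (472, true)]),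
  (42, [(27, true), (1399, true), (5, true), (16, true), (30, true), (472, true)]),
  (43, [(27, true), (741, true), (1354, true), (30, true), (9, true), (472, false)]),
  (44, [(3, true), (1577, true), (15, true), (30, true), (1216, true), (12, false), (472, false), (561, true)]),
  (45, [(3, true), (1104, true), (5, true), (1399, true), (18, true), (472, true), (1577, false)]),
  (46, [(3, true), (1104, true), (5, true), (2043, true), (7, true), (30, false), (12, false), (1577, false)]),
  (47, [(3, true), (1577, true), (0, true), (561, true), (719, true), (1216, true), (472, false)]),
  (48, [(3, true), (1354, true), (5, true), (4, true), (45, false), (19, false), (1216, false), (1870, true)]),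
  (49, [(3, true), (1577, true), (1354, true), (25, true), (46, true), (719, false), (1870, true)]),
  (50, [(3, true), (1577, true), (0, true), (561, true), (8, false), (741, true), (30, false)]),
  (51, [(3, true), (5, true), (6, true), (719, false), (13, false), (42, false), (472, false)]),
  (52, [(3, true), (1104, true), (5, true), (7, true), (47, false), (51, true), (472, true)]),
  (53, [(3, true), (1216, true), (30, true), (45, true), (52, true), (16, true)]),
  (54, [(3, true), (1216, true), (30, true), (46, true), (14, true), (2043, true), (741, false)]),
  (55, [(3, true), (1104, true), (5, true), (741, true), (2043, true), (0, true), (14, true)]),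
  (56, [(3, true), (1104, true), (5, true), (12, true), (719, false), (16, false), (41, false)]),
  (57, [(3, true), (2043, true), (5, true), (741, true), (0, true), (35, false), (1216, false)]),
  (58, [(3, true), (1354, true), (5, true), (741, true), (4, true), (561, false), (30, true)]),
  (59, [(3, true), (1104, true), (5, true), (2043, true), (13, true), (41, false), (0, true)]),
  (60, [(3, true), (1104, true), (6, true), (53, true), (9, true), (2043, true), (30, false)]),
  (61, [(3, true), (1354, true), (4, true), (719, true), (16, true), (30, true), (5, false)]),
  (62, [(3, true), (2043, true), (0, true), (1399, true), (30, true), (1577, false), (561, true)]),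
  (63, [(3, true), (1104, true), (1216, true), (38, true), (561, true), (52, true)]),
  (64, [(3, true), (1104, true), (6, true), (57, true), (9, true), (30, false), (7, false)]),
  (65, [(3, true), (2043, true), (1577, true), (15, true), (54, true), (57, true)]),
  (66, [(3, true), (1577, true), (0, true), (19, true), (472, false), (45, false), (1104, false)]),
  (67, [(3, true), (1104, true), (1216, true), (38, true), (48, true), (45, true)]),
  (68, [(3, true), (0, true), (741, true), (4, true), (9, true), (46, false), (15, false)]),
  (69, [(3, true), (1104, true), (7, true), (57, true), (38, true), (30, false), (6, false)]),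
  (70, [(3, true), (1104, true), (1216, true), (38, true), (45, true), (6, false), (2043, false)]),
  (71, [(3, true), (1216, true), (4, true), (741, true), (58, true), (34, true), (1577, false)]),
  (72, [(3, true), (1216, true), (4, true), (472, true), (29, true), (64, true), (2043, false)]),
  (73, [(3, true), (1104, true), (8, true), (58, true), (71, true), (30, false), (1577, true)]),
  (74, [(3, true), (1104, true), (1216, true), (38, true), (57, true), (741, false)]),
  (75, [(3, true), (0, true), (561, true), (16, true), (5, false), (50, true), (30, true)]),
  (76, [(3, true), (1354, true), (5, true), (64, true), (23, true), (59, false), (30, false)]),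
  (77, [(3, true), (2043, true), (1354, true), (44, true), (34, true), (71, false)]),
  (78, [(3, true), (1216, true), (30, true), (46, true), (14, true), (719, false), (1870, true)]),
  (79, [(3, true), (1216, true), (35, true), (61, true), (12, true), (52, true)]),
  (80, [(3, true), (1216, true), (6, true), (58, true), (53, true), (48, true), (1870, false)]),
  (81, [(3, true), (0, true), (561, true), (719, true), (31, true), (22, false), (2043, false)]),
  (82, [(3, true), (1216, true), (35, true), (45, true), (48, true), (18, true)]),
  (83, [(3, true), (2043, true), (0, true), (719, true), (41, false), (22, true)]),
  (84, [(3, true), (0, true), (719, true), (31, true), (80, true), (7, true), (741, false)]),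
  (85, [(3, true), (1577, true), (0, true), (719, true), (741, true), (16, true), (1399, false)]),
  (86, [(3, true), (1216, true), (35, true), (45, true), (741, true), (0, true), (1870, false)]),
  (87, [(3, true), (1216, true), (35, true), (45, true), (39, true), (34, true), (30, true)]),
  (88, [(3, true), (0, true), (1399, true), (5, true), (12, true), (41, false)]),
  (89, [(3, true), (1216, true), (5, true), (64, true), (75, true), (561, true)]),
  (90, [(3, true), (0, true), (2043, true), (1870, true), (13, true), (41, false)]),
  (91, [(3, true), (1216, true), (35, true), (81, true), (73, true), (1399, false)]),
  (92, [(3, true), (0, true), (1399, true), (30, true), (12, true), (41, false), (561, false)]),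
  (93, [(3, true), (1216, true), (6, true), (59, true), (68, true), (13, true)]),
  (94, [(3, true), (1216, true), (35, true), (64, true), (12, true), (77, true)]),
  (95, [(3, true), (0, true), (1577, true), (719, true), (741, true), (18, true), (1104, false)]),
  (96, [(3, true), (0, true), (561, true), (1577, true), (31, true), (1354, true), (1870, false)]),
  (97, [(3, true), (0, true), (561, true), (13, true), (82, true), (59, false), (30, false)]),
  (98, [(3, true), (0, true), (6, true), (52, true), (75, true), (7, false), (19, false), (30, false)]),
  (99, [(3, true), (0, true), (1399, true), (30, true), (12, true), (41, false)]),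
  (100, [(3, true), (0, true), (1399, true), (2043, true), (12, true), (1354, false)]),
  (101, [(3, true), (0, true), (561, true), (31, true), (42, false), (41, false), (30, true)]),
  (102, [(3, true), (0, true), (719, true), (21, true), (73, true), (561, false), (15, false)]),
  (103, [(3, true), (0, true), (741, true), (35, true), (1216, true), (91, true)]),
  (104, [(3, true), (0, true), (561, true), (1577, true), (31, true), (21, false), (1870, false)]),
  (105, [(3, true), (0, true), (561, true), (1577, true), (71, true), (5, false), (1104, false)]),
  (106, [(3, true), (0, true), (1577, true), (2043, true), (9, true), (67, true), (1104, false)]),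
  (107, [(3, true), (0, true), (1399, true), (12, true), (472, true), (18, true)]),
  (108, [(0, true), (15, true), (47, true), (76, true), (46, true), (97, false), (30, true)]),
  (109, [(0, true), (561, true), (26, true), (48, true), (74, true), (42, false), (1354, false)]),
  (110, [(0, true), (27, true), (44, true), (90, true), (1399, true), (50, true), (1577, false)]),
  (111, [(0, true), (719, true), (16, true), (55, true), (87, true), (69, true), (1104, false)]),
  (112, [(0, true), (561, true), (741, true), (83, true), (9, true), (1354, true), (719, false)]),
  (113, [(0, true), (561, true), (28, true), (1216, true), (6, true), (1104, true)]),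
  (114, [(0, true), (561, true), (741, true), (70, true), (82, true), (30, false)]),
  (115, [(0, true), (561, true), (741, true), (83, true), (15, true), (18, false)]),
  (116, [(0, true), (561, true), (719, true), (86, true), (8, true), (1577, false)]),
  (117, [(0, true), (561, true), (1577, true), (37, true), (108, true), (13, false)]),
  (118, [(0, true), (1577, true), (2043, true), (72, true), (111, true), (1870, true)]),
  (119, [(0, true), (719, true), (741, true), (52, true), (29, true), (81, false)]),
  (120, [(0, true), (1577, true), (2043, true), (68, true), (25, true), (30, false)]),
  (121, [(0, true), (2043, true), (56, true), (91, true), (1399, true), (34, true), (30, true)]),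
  (122, [(0, true), (561, true), (719, true), (86, true), (50, true), (1870, true)]),
  (123, [(0, true), (1870, true), (14, true), (56, true), (35, true), (20, true)]),
  (124, [(0, true), (1577, true), (4, true), (76, true), (1354, true), (94, true), (1870, false)]),
  (125, [(0, true), (561, true), (719, true), (93, true), (20, true), (1354, true)]),
  (126, [(0, true), (741, true), (2043, true), (48, true), (110, true), (1577, false)]),
  (127, [(0, true), (1577, true), (2043, true), (31, true), (111, true), (17, true)]),
  (128, [(0, true), (741, true), (1577, true), (98, true), (40, true), (1870, true)]),
  (129, [(0, true), (561, true), (1870, true), (71, true), (80, true), (472, true)]),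
  (130, [(0, true), (1870, true), (4, true), (81, true), (66, true), (30, true)]),
  (131, [(0, true), (561, true), (1870, true), (69, true), (97, true), (472, true)]),
  (132, [(0, true), (4, true), (80, true), (102, true), (1216, true), (28, true), (472, false)]),
  (133, [(0, true), (741, true), (2043, true), (52, true), (110, true), (8, true)]),
  (134, [(0, true), (1870, true), (2043, true), (70, true), (110, true), (1577, false)]),
  (135, [(0, true), (1870, true), (4, true), (83, true), (125, true), (58, true)]),
  (136, [(0, true), (1870, true), (4, true), (92, true), (74, true), (719, true), (30, true)]),
  (137, [(0, true), (561, true), (719, true), (93, true), (75, true), (1870, true)]),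
  (138, [(0, true), (719, true), (1577, true), (52, true), (20, true), (5, false)]),
  (139, [(0, true), (1577, true), (4, true), (79, true), (28, true), (99, true), (1104, false)]),
  (140, [(0, true), (1870, true), (2043, true), (110, true), (8, true), (18, false)]),
  (141, [(0, true), (561, true), (719, true), (120, true), (78, true), (1870, true)]),
  (142, [(0, true), (719, true), (741, true), (63, true), (40, true), (1870, false), (1104, false)]),
  (143, [(0, true), (561, true), (1577, true), (83, true), (62, true), (3, false)]),
  (144, [(0, true), (1870, true), (2043, true), (109, true), (23, true), (7, false)]),
  (145, [(0, true), (561, true), (1870, true), (14, true), (80, true)]),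
  (146, [(0, true), (1577, true), (719, true), (19, true), (48, true), (44, false)]),
  (147, [(0, true), (741, true), (6, true), (100, true), (82, true), (29, false)]),
  (148, [(0, true), (741, true), (5, true), (130, true), (78, true), (19, false), (30, true)]),
  (149, [(0, true), (741, true), (2043, true), (70, true), (5, true), (4, false)]),
  (150, [(0, true), (561, true), (13, true), (44, true), (54, true), (42, false)]),
  (151, [(0, true), (719, true), (15, true), (105, true), (82, true), (22, false)]),
  (152, [(0, true), (561, true), (741, true), (91, true), (15, true), (3, false)]),
  (153, [(0, true), (5, true), (127, true), (104, true), (72, true), (13, true), (30, false)]),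
  (154, [(0, true), (5, true), (62, true), (104, true), (138, true), (16, true), (30, false)]),
  (155, [(0, true), (561, true), (28, true), (81, true), (123, true), (23, false), (3, false)]),
  (156, [(0, true), (561, true), (1870, true), (86, true), (132, true), (6, true)])]

def stepsY1 : List (ℕ × List (ℕ × Bool)) := [(157, [(0, true), (1870, true), (741, true), (45, true), (69, true), (1104, false)]),
  (158, [(0, true), (561, true), (719, true), (86, true), (124, true), (472, true)]),
  (159, [(0, true), (719, true), (19, true), (101, true), (81, true), (1354, false), (1104, false)]),
  (160, [(0, true), (1577, true), (52, true), (28, true), (151, true), (7, false)]),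
  (161, [(0, true), (1577, true), (2043, true), (25, true), (97, true), (1104, false)]),
  (162, [(0, true), (719, true), (1577, true), (19, true), (97, true), (2043, true)]),
  (163, [(0, true), (561, true), (1870, true), (14, true), (97, true)]),
  (164, [(0, true), (719, true), (741, true), (88, true), (143, true), (6, false)]),
  (165, [(0, true), (1577, true), (2043, true), (25, true), (156, true), (472, true)]),
  (166, [(0, true), (1577, true), (110, true), (87, true), (23, true), (5, false)]),
  (167, [(0, true), (561, true), (741, true), (91, true), (140, true), (19, false)]),
  (168, [(0, true), (719, true), (741, true), (80, true), (130, true), (5, false)]),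
  (169, [(0, true), (1577, true), (719, true), (133, true), (78, true), (1399, false)]),
  (170, [(0, true), (1577, true), (2043, true), (25, true), (156, true), (1870, true)]),
  (171, [(0, true), (1870, true), (2043, true), (70, true), (34, true), (3, false)]),
  (172, [(0, true), (561, true), (719, true), (741, true), (80, true), (28, false)]),
  (173, [(0, true), (561, true), (1870, true), (71, true), (80, true), (30, false)]),
  (174, [(0, true), (1870, true), (6, true), (117, true), (16, true), (82, true)]),
  (175, [(0, true), (561, true), (1870, true), (69, true), (125, true), (30, true)]),
  (176, [(0, true), (1577, true), (719, true), (110, true), (1399, false), (58, true)]),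
  (177, [(0, true), (561, true), (741, true), (83, true), (129, true), (81, false)]),
  (178, [(0, true), (2043, true), (13, true), (44, true), (42, false), (3, true)]),
  (179, [(0, true), (561, true), (719, true), (1577, true), (108, true), (16, false)]),
  (180, [(0, true), (741, true), (5, true), (100, true), (14, true), (152, false)]),
  (181, [(0, true), (561, true), (741, true), (70, true), (98, true), (79, false)]),
  (182, [(0, true), (1870, true), (4, true), (82, true), (146, true), (1104, true), (472, true)]),
  (183, [(0, true), (561, true), (719, true), (86, true), (139, true), (9, false)]),
  (184, [(0, true), (1870, true), (4, true), (83, true), (150, true), (8, true)]),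
  (185, [(0, true), (561, true), (719, true), (74, true), (8, true), (1870, true)]),
  (186, [(0, true), (561, true), (58, true), (20, true), (81, true), (42, false)]),
  (187, [(0, true), (561, true), (58, true), (49, true), (1216, true), (4, true)]),
  (188, [(0, true), (741, true), (4, true), (80, true), (61, true), (51, false)]),
  (189, [(0, true), (561, true), (719, true), (741, true), (130, true), (104, false)]),
  (190, [(0, true), (719, true), (2043, true), (110, true), (38, true), (17, false)]),
  (191, [(0, true), (719, true), (4, true), (88, true), (66, true), (64, false)]),
  (192, [(0, true), (3, true), (108, true), (1577, true), (23, true), (5, false), (472, false)]),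
  (193, [(0, true), (561, true), (1577, true), (25, true), (177, true), (5, false)]),
  (194, [(0, true), (561, true), (1577, true), (35, true), (97, true), (5, false)]),
  (195, [(0, true), (3, true), (111, true), (1577, true), (20, true), (5, false), (472, false)]),
  (196, [(0, true), (3, true), (108, true), (1577, true), (41, true), (174, false)]),
  (197, [(0, true), (3, true), (109, true), (2043, true), (28, true), (30, false)]),
  (198, [(0, true), (3, true), (110, true), (136, true), (1216, true), (23, true)]),
  (199, [(0, true), (3, true), (111, true), (1577, true), (41, true), (173, false)]),
  (200, [(0, true), (561, true), (1870, true), (192, true), (105, true)]),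
  (201, [(0, true), (3, true), (113, true), (135, true), (146, true), (180, true), (30, false)]),
  (202, [(0, true), (3, true), (118, true), (165, true), (741, true), (2043, true), (1104, true)]),
  (203, [(0, true), (3, true), (121, true), (143, true), (472, true), (164, true)]),
  (204, [(0, true), (3, true), (110, true), (115, true), (1870, true), (82, true)]),
  (205, [(0, true), (3, true), (121, true), (141, true), (1870, true), (741, true)]),
  (206, [(0, true), (3, true), (108, true), (2043, true), (122, true), (77, true)]),
  (207, [(0, true), (3, true), (110, true), (157, true), (139, true), (174, true), (30, false)]),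
  (208, [(0, true), (561, true), (3, true), (139, true), (31, true), (472, true)]),
  (209, [(0, true), (561, true), (719, true), (53, true), (201, true), (6, true), (1104, false)]),
  (210, [(0, true), (3, true), (112, true), (109, true), (719, true), (472, true), (1870, true)]),
  (211, [(0, true), (561, true), (719, true), (3, true), (141, true), (30, false)]),
  (212, [(0, true), (561, true), (1870, true), (206, true), (72, true), (472, true)]),
  (213, [(0, true), (3, true), (113, true), (719, true), (66, true), (1870, true), (472, true)]),
  (214, [(0, true), (3, true), (114, true), (150, true), (719, true), (168, false)]),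
  (215, [(0, true), (3, true), (140, true), (131, true), (719, true), (472, true), (1104, false)]),
  (216, [(0, true), (3, true), (108, true), (152, true), (131, true), (42, false), (30, true)]),
  (217, [(0, true), (3, true), (118, true), (719, true), (49, true), (2043, true)]),
  (218, [(0, true), (3, true), (110, true), (1577, true), (42, false), (18, true)]),
  (219, [(0, true), (3, true), (121, true), (127, true), (719, true), (472, true), (1354, true)]),
  (220, [(0, true), (3, true), (140, true), (131, true), (172, true), (1577, false)]),
  (221, [(0, true), (3, true), (121, true), (561, true), (199, true), (30, false), (1577, true)]),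
  (222, [(0, true), (3, true), (140, true), (561, true), (191, true), (1354, false), (30, false)]),
  (223, [(0, true), (3, true), (118, true), (719, true), (193, true), (42, false), (30, true)]),
  (224, [(0, true), (3, true), (140, true), (127, true), (719, true), (137, false)]),
  (225, [(0, true), (3, true), (42, false), (28, true), (6, true)]),
  (226, [(0, true), (3, true), (42, false), (12, true), (1870, true)]),
  (227, [(0, true), (3, true), (42, false), (15, true), (1870, true)]),
  (228, [(0, true), (3, true), (42, false), (15, true), (46, true)]),
  (229, [(0, true), (3, true), (42, false), (15, true), (472, false)]),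
  (230, [(0, true), (3, true), (42, false), (22, true), (472, false)]),
  (231, [(0, true), (3, true), (42, false), (12, true), (472, false)]),
  (232, [(0, true), (3, true), (42, false), (12, true), (30, false)]),
  (233, [(0, true), (3, true), (42, false), (28, true)]),
  (234, [(0, true), (3, true), (42, false), (12, true)]),
  (235, [(0, true), (3, true), (42, false), (15, true)]),
  (236, [(0, true), (561, true), (6, true), (214, true), (144, true), (2043, true)]),
  (237, [(0, true), (2043, true), (52, true), (143, true), (42, false), (4, true)]),
  (238, [(0, true), (1870, true), (6, true), (202, true), (143, true), (15, false)]),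
  (239, [(0, true), (719, true), (78, true), (100, true), (146, true), (42, false)]),
  (240, [(0, true), (561, true), (6, true), (100, true), (25, true), (472, true)]),
  (241, [(0, true), (719, true), (78, true), (28, true), (188, true), (741, false)]),
  (242, [(0, true), (1870, true), (2043, true), (98, true), (154, true)]),
  (243, [(0, true), (561, true), (719, true), (741, true), (121, true), (1399, false)]),
  (244, [(0, true), (4, true), (80, true), (215, true), (95, true), (1354, true), (30, false)]),
  (245, [(0, true), (719, true), (2043, true), (53, true), (1354, true), (30, true)]),
  (246, [(0, true), (719, true), (2043, true), (88, true), (87, true)]),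
  (247, [(0, true), (741, true), (83, true), (4, true), (1577, true), (42, false)]),
  (248, [(0, true), (719, true), (741, true), (52, true), (130, true), (34, false)]),
  (249, [(0, true), (561, true), (1577, true), (37, true), (77, true), (7, false)]),
  (250, [(0, true), (741, true), (5, true), (106, true), (198, true), (6, false)]),
  (251, [(0, true), (4, true), (207, true), (84, true), (154, true), (46, false)]),
  (252, [(0, true), (561, true), (741, true), (140, true), (134, true), (3, false)]),
  (253, [(0, true), (719, true), (1577, true), (19, true), (141, true), (741, false)]),
  (254, [(0, true), (4, true), (205, true), (90, true), (142, true), (1354, true), (1870, true)]),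
  (255, [(0, true), (741, true), (4, true), (144, true), (7, true), (472, true)]),
  (256, [(0, true), (561, true), (719, true), (130, true), (1399, false), (2043, false)]),
  (257, [(0, true), (561, true), (1870, true), (41, true), (62, true)]),
  (258, [(0, true), (719, true), (741, true), (62, true), (120, true), (34, false)]),
  (259, [(0, true), (4, true), (42, false), (13, true), (1399, true)]),
  (260, [(0, true), (4, true), (42, false), (30, true), (1354, false)]),
  (261, [(0, true), (4, true), (42, false), (13, true), (472, true)]),
  (262, [(0, true), (561, true), (4, true), (213, true), (254, true), (1399, false)]),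
  (263, [(0, true), (561, true), (4, true), (215, true), (40, true), (167, false)]),
  (264, [(0, true), (4, true), (42, false), (30, true), (472, true)]),
  (265, [(0, true), (4, true), (42, false), (13, true), (2043, false)]),
  (266, [(0, true), (4, true), (42, false), (13, true)]),
  (267, [(0, true), (4, true), (42, false), (30, true)]),
  (268, [(0, true), (719, true), (19, true), (71, true), (111, true), (14, false)]),
  (269, [(0, true), (719, true), (741, true), (121, true), (97, true), (37, false)]),
  (270, [(0, true), (719, true), (1577, true), (20, true), (58, true), (3, false)]),
  (271, [(0, true), (719, true), (15, true), (103, true), (175, true), (1577, false)]),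
  (272, [(0, true), (1577, true), (15, true), (42, false), (8, true), (1870, false)]),
  (273, [(0, true), (561, true), (6, true), (197, true), (108, true), (167, false)]),
  (274, [(0, true), (5, true), (42, false), (6, true), (30, true)]),
  (275, [(0, true), (719, true), (1577, true), (110, true), (1399, false), (472, false)]),
  (276, [(0, true), (719, true), (561, true), (54, true), (1216, false), (1399, false)]),
  (277, [(0, true), (741, true), (1870, true), (253, true), (146, false), (472, true)]),
  (278, [(0, true), (5, true), (42, false), (18, true), (50, true)]),
  (279, [(0, true), (5, true), (42, false), (18, true), (1870, false)]),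
  (280, [(0, true), (5, true), (42, false), (18, true), (30, true)]),
  (281, [(0, true), (561, true), (1870, true), (41, true), (82, true)]),
  (282, [(0, true), (561, true), (719, true), (74, true), (39, true), (3, false)]),
  (283, [(0, true), (719, true), (5, true), (103, true), (273, true), (1399, false)]),
  (284, [(0, true), (15, true), (42, false), (22, true), (1870, false)]),
  (285, [(0, true), (719, true), (15, true), (113, true), (225, true), (1399, false)]),
  (286, [(0, true), (741, true), (17, true), (1104, true), (7, true), (26, false)]),
  (287, [(0, true), (719, true), (2043, true), (96, true), (95, true)]),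
  (288, [(0, true), (741, true), (1870, true), (253, true), (24, true), (30, true)]),
  (289, [(0, true), (741, true), (1870, true), (253, true), (81, true), (472, true)]),
  (290, [(0, true), (6, true), (42, false), (23, true), (30, false)]),
  (291, [(0, true), (719, true), (561, true), (121, true), (1399, false), (30, true)]),
  (292, [(0, true), (561, true), (1870, true), (41, true), (14, true)]),
  (293, [(0, true), (741, true), (1870, true), (191, true), (39, true)]),
  (294, [(0, true), (561, true), (741, true), (140, true), (14, true), (8, false)]),
  (295, [(0, true), (719, true), (561, true), (277, true), (1399, false), (2043, false)]),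
  (296, [(0, true), (28, true), (42, false), (12, true)]),
  (297, [(0, true), (741, true), (30, true), (104, true), (113, true), (472, true)]),
  (298, [(0, true), (30, true), (42, false), (13, false)]),
  (299, [(0, true), (15, true), (42, false), (22, true)]),
  (300, [(0, true), (561, true), (1870, true), (6, true), (133, true), (30, true)]),
  (301, [(0, true), (561, true), (1870, true), (6, true), (132, true), (30, false)]),
  (302, [(0, true), (741, true), (1870, true), (45, true), (72, true), (1104, false)]),
  (303, [(0, true), (561, true), (1870, true), (6, true), (12, true), (1577, true)]),
  (304, [(0, true), (561, true), (741, true), (176, true), (19, true), (17, false)]),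
  (305, [(0, true), (3, true), (294, true), (111, true), (44, true), (68, false)]),
  (306, [(0, true), (3, true), (248, true), (111, true), (152, true), (1399, false)])]

def stepsY2 : List (ℕ × List (ℕ × Bool)) := [(307, [(0, true), (561, true), (3, true), (239, true), (30, true), (9, false)]),
  (308, [(0, true), (3, true), (1577, true), (110, true), (99, true), (1104, false)]),
  (309, [(0, true), (3, true), (108, true), (286, true), (48, true), (40, false)]),
  (310, [(0, true), (3, true), (108, true), (287, true), (182, true), (100, false)]),
  (311, [(0, true), (3, true), (110, true), (1577, true), (53, true), (2043, true)]),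
  (312, [(0, true), (3, true), (1577, true), (561, true), (52, true), (7, false)]),
  (313, [(0, true), (3, true), (121, true), (561, true), (100, true), (16, false)]),
  (314, [(0, true), (3, true), (561, true), (289, true), (214, true), (472, true)]),
  (315, [(0, true), (3, true), (1577, true), (113, true), (73, true), (472, true)]),
  (316, [(0, true), (3, true), (1577, true), (114, true), (741, false), (5, false)]),
  (317, [(0, true), (3, true), (561, true), (248, true), (62, true), (14, false)]),
  (318, [(0, true), (3, true), (248, true), (111, true), (172, true), (64, false)]),
  (319, [(0, true), (3, true), (1577, true), (113, true), (2043, true), (21, true)]),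
  (320, [(0, true), (3, true), (110, true), (2043, true), (138, true), (1870, false), (1104, false)]),
  (321, [(0, true), (3, true), (1577, true), (113, true), (73, true), (1104, false)]),
  (322, [(0, true), (3, true), (1577, true), (114, true), (74, true), (472, true)]),
  (323, [(0, true), (3, true), (561, true), (719, true), (114, true), (23, false)]),
  (324, [(0, true), (3, true), (561, true), (719, true), (15, true), (22, false)]),
  (325, [(0, true), (3, true), (4, true), (741, true), (1216, true), (719, true)]),
  (326, [(0, true), (3, true), (4, true), (29, false), (41, false), (30, false)]),
  (327, [(0, true), (3, true), (4, true), (29, false), (41, false)]),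
  (328, [(0, true), (3, true), (4, true), (1399, true), (6, false), (1216, true)]),
  (329, [(0, true), (3, true), (4, true), (6, false), (41, false), (1870, false)]),
  (330, [(0, true), (3, true), (4, true), (719, true), (6, false), (1870, true)]),
  (331, [(0, true), (3, true), (4, true), (6, false), (41, false)]),
  (332, [(0, true), (3, true), (110, true), (2043, true), (180, true), (1104, false)]),
  (333, [(0, true), (3, true), (561, true), (1577, true), (55, true), (13, false)]),
  (334, [(0, true), (3, true), (561, true), (1577, true), (71, true), (1870, true)]),
  (335, [(0, true), (3, true), (110, true), (50, true), (262, true), (1870, true)]),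
  (336, [(0, true), (3, true), (719, true), (263, true), (50, true), (30, false)]),
  (337, [(0, true), (3, true), (561, true), (1577, true), (31, true), (1354, true)]),
  (338, [(0, true), (3, true), (561, true), (1577, true), (98, true), (2043, true)]),
  (339, [(0, true), (3, true), (561, true), (260, true), (88, true), (1104, false)]),
  (340, [(0, true), (3, true), (1577, true), (17, true), (280, true), (1870, true)]),
  (341, [(0, true), (3, true), (561, true), (1577, true), (52, true), (1399, false)]),
  (342, [(0, true), (3, true), (1577, true), (17, true), (288, true), (30, false)]),
  (343, [(0, true), (3, true), (1577, true), (17, true), (1104, true), (1870, true)]),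
  (344, [(0, true), (3, true), (111, true), (5, true), (35, false), (4, false)]),
  (345, [(0, true), (3, true), (5, true), (35, false), (41, false)]),
  (346, [(0, true), (3, true), (5, true), (16, false), (41, false)]),
  (347, [(0, true), (3, true), (5, true), (8, false), (41, false)]),
  (348, [(0, true), (3, true), (140, true), (62, true), (107, false), (2043, true)]),
  (349, [(0, true), (3, true), (140, true), (76, true), (1354, true), (1870, true)]),
  (350, [(0, true), (3, true), (121, true), (78, true), (23, true), (30, false)]),
  (351, [(0, true), (3, true), (143, true), (2043, true), (99, true), (1104, true)]),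
  (352, [(0, true), (3, true), (112, true), (44, true), (211, true), (561, false)]),
  (353, [(0, true), (3, true), (561, true), (1870, true), (6, true), (472, false)]),
  (354, [(0, true), (3, true), (140, true), (80, true), (190, true), (472, true)]),
  (355, [(0, true), (3, true), (110, true), (719, true), (40, false), (1870, false)]),
  (356, [(0, true), (3, true), (115, true), (51, true), (13, true), (30, false)]),
  (357, [(0, true), (3, true), (140, true), (242, true), (472, true), (30, true)]),
  (358, [(0, true), (3, true), (1577, true), (113, true), (59, true), (1399, false)]),
  (359, [(0, true), (3, true), (561, true), (274, true), (70, true), (1104, false)]),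
  (360, [(0, true), (3, true), (1577, true), (17, true), (173, false)]),
  (361, [(0, true), (3, true), (121, true), (53, true), (218, true), (2043, true)]),
  (362, [(0, true), (3, true), (148, true), (88, true), (40, false), (1104, true)]),
  (363, [(0, true), (3, true), (1577, true), (17, true), (7, false)]),
  (364, [(0, true), (28, true), (107, true), (52, true), (472, true), (30, true)]),
  (365, [(0, true), (28, true), (53, true), (280, true), (23, true), (719, false)]),
  (366, [(0, true), (17, true), (1577, true), (719, true), (79, true), (1216, true)]),
  (367, [(0, true), (17, true), (45, true), (741, true), (77, true), (26, false)]),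
  (368, [(0, true), (4, true), (1870, true), (561, true), (12, true)]),
  (369, [(0, true), (4, true), (1870, true), (561, true), (8, true)]),
  (370, [(0, true), (4, true), (1577, true), (741, true), (28, true), (30, false)]),
  (371, [(0, true), (4, true), (81, true), (741, true), (719, true), (2043, true)]),
  (372, [(0, true), (4, true), (1577, true), (76, true), (18, true), (30, false)]),
  (373, [(0, true), (4, true), (1577, true), (79, true), (23, true), (2043, true)]),
  (374, [(0, true), (4, true), (1577, true), (741, true), (20, true), (472, true)]),
  (375, [(0, true), (4, true), (1577, true), (79, true), (12, true), (30, false)]),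
  (376, [(0, true), (4, true), (79, true), (80, true), (39, false)]),
  (377, [(0, true), (4, true), (561, true), (100, true), (104, false), (30, true)]),
  (378, [(0, true), (4, true), (77, true), (741, true), (74, true), (1104, false)]),
  (379, [(0, true), (4, true), (5, true), (21, false), (41, false)]),
  (380, [(0, true), (4, true), (76, true), (719, true), (70, true), (1104, false)]),
  (381, [(0, true), (4, true), (80, true), (1870, true), (27, true)]),
  (382, [(0, true), (4, true), (78, true), (146, true), (39, false)]),
  (383, [(0, true), (4, true), (82, true), (79, true), (289, true), (64, false)]),
  (384, [(0, true), (4, true), (80, true), (719, true), (13, true), (30, false)]),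
  (385, [(0, true), (4, true), (76, true), (81, true), (741, true), (39, false)]),
  (386, [(0, true), (4, true), (561, true), (1870, true), (30, true)]),
  (387, [(0, true), (4, true), (78, true), (741, true), (39, false), (472, true)]),
  (388, [(0, true), (4, true), (83, true), (741, true), (117, true), (1577, false)]),
  (389, [(0, true), (4, true), (82, true), (719, true), (59, true), (1104, false)]),
  (390, [(0, true), (4, true), (1577, true), (97, true), (9, true), (30, false)]),
  (391, [(0, true), (4, true), (80, true), (39, false), (41, false)]),
  (392, [(0, true), (4, true), (1577, true), (79, true), (8, true), (472, true)]),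
  (393, [(0, true), (4, true), (1870, true), (142, true), (8, true)]),
  (394, [(0, true), (4, true), (1870, true), (561, true), (13, true)]),
  (395, [(0, true), (4, true), (1870, true), (97, true), (30, true)]),
  (396, [(0, true), (43, false), (41, false), (173, true), (44, true)]),
  (397, [(0, true), (43, false), (41, false), (194, true), (1216, true)]),
  (398, [(0, true), (43, false), (41, false), (197, true), (73, true)]),
  (399, [(0, true), (43, false), (41, false), (719, true), (79, true)]),
  (400, [(0, true), (43, false), (41, false), (719, true), (15, false)]),
  (401, [(0, true), (43, false), (41, false), (190, true), (1354, true)]),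
  (402, [(0, true), (43, false), (41, false), (192, true), (9, true)]),
  (403, [(0, true), (43, false), (41, false), (741, true), (49, true)]),
  (404, [(0, true), (43, false), (41, false), (719, true), (1870, false)]),
  (405, [(0, true), (43, false), (41, false), (202, true), (1399, false)]),
  (406, [(0, true), (43, false), (41, false), (189, true), (14, true)]),
  (407, [(0, true), (43, false), (41, false), (188, true), (472, true)]),
  (408, [(0, true), (43, false), (41, false), (191, true), (30, true)]),
  (409, [(0, true), (43, false), (41, false), (5, true), (1870, false)]),
  (410, [(0, true), (43, false), (41, false), (5, true), (30, false)]),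
  (411, [(0, true), (43, false), (41, false), (5, true)]),
  (412, [(0, true), (43, false), (41, false), (189, true), (472, false)]),
  (413, [(0, true), (43, false), (41, false), (188, true), (2043, false)]),
  (414, [(0, true), (43, false), (41, false), (191, true), (1870, false)]),
  (415, [(0, true), (43, false), (41, false), (190, true), (1870, false)]),
  (416, [(0, true), (43, false), (41, false), (48, true), (30, true)]),
  (417, [(0, true), (43, false), (41, false), (1577, true), (1399, false)]),
  (418, [(0, true), (43, false), (41, false), (1577, true)]),
  (419, [(0, true), (43, false), (41, false), (6, true)]),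
  (420, [(0, true), (43, false), (41, false), (51, true)]),
  (421, [(0, true), (43, false), (41, false), (50, true)]),
  (422, [(0, true), (43, false), (41, false), (49, true)]),
  (423, [(0, true), (43, false), (41, false), (1354, true)]),
  (424, [(0, true), (43, false), (41, false), (47, true)]),
  (425, [(0, true), (43, false), (41, false), (1870, true)]),
  (426, [(0, true), (43, false), (41, false), (30, true)]),
  (427, [(0, true), (43, false), (41, false)]),
  (428, [(0, true), (43, false), (45, true), (48, true), (47, true), (472, false)]),
  (429, [(0, true), (43, false), (1104, true), (1577, true), (719, true), (472, true)]),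
  (430, [(0, true), (43, false), (1104, true), (1577, true), (1216, true), (472, false)]),
  (431, [(0, true), (43, false), (45, true), (62, true), (57, true)]),
  (432, [(0, true), (43, false), (62, true), (57, true), (76, true)]),
  (433, [(0, true), (43, false), (1104, true), (561, true), (48, true), (472, true)]),
  (434, [(0, true), (43, false), (1104, true), (1216, true), (48, true), (472, true)]),
  (435, [(0, true), (43, false), (48, true), (719, true), (741, true)]),
  (436, [(0, true), (43, false), (1104, true), (77, true), (472, true), (1870, true)]),
  (437, [(0, true), (43, false), (48, true), (61, true), (76, true)]),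
  (438, [(0, true), (43, false), (48, true), (47, true), (79, true)]),
  (439, [(0, true), (43, false), (1104, true), (1216, true), (3, true), (1870, true)]),
  (440, [(0, true), (43, false), (1104, true), (77, true), (472, true)]),
  (441, [(0, true), (43, false), (48, true), (47, true), (1399, false)]),
  (442, [(0, true), (43, false), (54, true), (44, true), (1216, false)]),
  (443, [(0, true), (43, false), (1104, true), (1216, true), (3, true)]),
  (444, [(0, true), (43, false), (1104, true), (44, true), (3, true), (1870, false)]),
  (445, [(0, true), (43, false), (45, true), (62, true), (51, true)]),
  (446, [(0, true), (43, false), (45, true), (62, true), (78, true)]),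
  (447, [(0, true), (43, false), (1104, true), (44, true), (3, true)]),
  (448, [(0, true), (43, false), (1104, true), (1577, true), (3, true), (1870, false)]),
  (449, [(0, true), (43, false), (47, true), (48, true), (1577, false)]),
  (450, [(0, true), (43, false), (44, true), (51, true), (1870, true)]),
  (451, [(0, true), (43, false), (1104, true), (1577, true), (3, true)]),
  (452, [(0, true), (43, false), (44, true), (54, true), (1577, false)]),
  (453, [(0, true), (43, false), (1104, true), (3, true), (472, false)]),
  (454, [(0, true), (43, false), (1104, true), (3, true), (7, true)]),
  (455, [(0, true), (43, false), (47, true), (53, true), (1577, false)]),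
  (456, [(0, true), (43, false), (48, true), (58, true), (1399, false)])]

def stepsY3 : List (ℕ × List (ℕ × Bool)) := [(457, [(0, true), (43, false), (1104, true), (3, true), (2043, true)]),
  (458, [(0, true), (43, false), (1104, true), (3, true)]),
  (459, [(0, true), (43, false), (56, true), (72, true), (1870, false)]),
  (460, [(0, true), (43, false), (48, true), (50, true), (1577, true)]),
  (461, [(0, true), (43, false), (52, true), (53, true), (1399, false)]),
  (462, [(0, true), (43, false), (48, true), (50, true), (1399, false)]),
  (463, [(0, true), (43, false), (49, true), (51, true), (1577, true)]),
  (464, [(0, true), (43, false), (48, true), (64, true), (1577, true)]),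
  (465, [(0, true), (43, false), (49, true), (65, true), (719, true)]),
  (466, [(0, true), (43, false), (44, true), (46, true), (719, true)]),
  (467, [(0, true), (43, false), (45, true), (47, true), (472, false)]),
  (468, [(0, true), (43, false), (45, true), (81, true), (1577, true)]),
  (469, [(0, true), (43, false), (45, true), (3, true), (1577, true)]),
  (470, [(0, true), (43, false), (3, true), (56, true), (1577, true)]),
  (471, [(0, true), (43, false), (3, true), (5, true), (1577, true)]),
  (473, [(0, true), (43, false), (3, true), (5, true), (1870, true)]),
  (474, [(0, true), (43, false), (3, true), (5, true), (30, false)]),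
  (475, [(0, true), (43, false), (3, true), (5, true)]),
  (476, [(0, true), (43, false), (3, true), (44, true), (1577, false)]),
  (477, [(0, true), (43, false), (3, true), (45, true), (472, false)]),
  (478, [(0, true), (43, false), (3, true), (46, true), (1870, false)]),
  (479, [(0, true), (43, false), (3, true), (47, true), (1870, false)]),
  (480, [(0, true), (43, false), (3, true), (48, true), (2043, true)]),
  (481, [(0, true), (43, false), (3, true), (49, true), (472, true)]),
  (482, [(0, true), (43, false), (3, true), (472, false), (1577, false)]),
  (483, [(0, true), (43, false), (3, true), (6, true)]),
  (484, [(0, true), (43, false), (3, true), (50, true)]),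
  (485, [(0, true), (43, false), (3, true), (1354, false)]),
  (486, [(0, true), (43, false), (3, true), (48, true)]),
  (487, [(0, true), (43, false), (3, true), (472, false)]),
  (488, [(0, true), (43, false), (3, true), (46, true)]),
  (489, [(0, true), (43, false), (3, true), (1870, true)]),
  (490, [(0, true), (43, false), (3, true), (30, true)]),
  (491, [(0, true), (43, false), (3, true)]),
  (492, [(0, true), (43, false), (44, true), (54, true), (472, true)]),
  (493, [(0, true), (43, false), (1104, true), (741, true), (50, false)]),
  (494, [(0, true), (43, false), (1104, true), (741, true), (719, true)]),
  (495, [(0, true), (43, false), (44, true), (51, true), (472, false)]),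
  (496, [(0, true), (43, false), (741, true), (48, true), (30, true)]),
  (497, [(0, true), (43, false), (1104, true), (741, true), (472, false)]),
  (498, [(0, true), (43, false), (1104, true), (741, true)]),
  (499, [(0, true), (43, false), (47, true), (48, true)]),
  (500, [(0, true), (43, false), (1104, true), (95, true), (1577, true)]),
  (501, [(0, true), (43, false), (106, true), (107, true)]),
  (502, [(0, true), (43, false), (741, true), (53, true), (30, true)]),
  (503, [(0, true), (43, false), (1104, true), (92, true), (472, false)]),
  (504, [(0, true), (43, false), (1104, true), (95, true)]),
  (505, [(0, true), (43, false), (1399, false), (46, true), (2043, false)]),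
  (506, [(0, true), (43, false), (45, true), (77, true), (30, true)]),
  (507, [(0, true), (43, false), (1104, true), (5, true)]),
  (508, [(0, true), (43, false), (1104, true), (472, true), (1577, false)]),
  (509, [(0, true), (43, false), (1399, false), (1354, false), (1577, false)]),
  (510, [(0, true), (43, false), (56, true), (59, true)]),
  (511, [(0, true), (43, false), (1104, true), (57, true)]),
  (512, [(0, true), (43, false), (1104, true), (174, true)]),
  (513, [(0, true), (43, false), (57, true), (61, true)]),
  (514, [(0, true), (43, false), (4, true), (741, true), (1577, false)]),
  (515, [(0, true), (43, false), (1104, true), (6, true)]),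
  (516, [(0, true), (43, false), (4, true), (741, true)]),
  (517, [(0, true), (43, false), (1104, true), (45, true)]),
  (518, [(0, true), (43, false), (1104, true), (1577, false)]),
  (519, [(0, true), (43, false), (4, true), (7, true)]),
  (520, [(0, true), (43, false), (4, true), (48, true)]),
  (521, [(0, true), (43, false), (1104, true), (1870, false)]),
  (522, [(0, true), (43, false), (1104, true)]),
  (523, [(0, true), (43, false), (4, true)]),
  (524, [(0, true), (43, false), (1399, false), (1577, true), (30, false)]),
  (525, [(0, true), (43, false), (66, true), (67, true)]),
  (526, [(0, true), (43, false), (69, true), (71, true)]),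
  (527, [(0, true), (43, false), (64, true), (65, true)]),
  (528, [(0, true), (43, false), (66, true), (9, true)]),
  (529, [(0, true), (43, false), (62, true), (63, true)]),
  (530, [(0, true), (43, false), (64, true), (9, true)]),
  (531, [(0, true), (43, false), (60, true), (61, true)]),
  (532, [(0, true), (43, false), (61, true), (1399, false)]),
  (533, [(0, true), (43, false), (74, true), (14, true)]),
  (534, [(0, true), (43, false), (61, true), (472, false)]),
  (535, [(0, true), (43, false), (60, true), (2043, true)]),
  (536, [(0, true), (43, false), (63, true), (30, true)]),
  (537, [(0, true), (43, false), (5, true), (2043, true)]),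
  (538, [(0, true), (43, false), (5, true), (30, false)]),
  (539, [(0, true), (43, false), (5, true)]),
  (540, [(0, true), (43, false), (61, true), (1870, false)]),
  (541, [(0, true), (43, false), (60, true), (1870, false)]),
  (542, [(0, true), (43, false), (63, true), (1577, true)]),
  (543, [(0, true), (43, false), (62, true), (2043, true)]),
  (544, [(0, true), (43, false), (1577, true), (1870, true)]),
  (545, [(0, true), (43, false), (719, true), (1870, true)]),
  (546, [(0, true), (43, false), (6, true), (30, false)]),
  (547, [(0, true), (43, false), (1577, true)]),
  (548, [(0, true), (43, false), (719, true)]),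
  (549, [(0, true), (43, false), (1354, false)]),
  (550, [(0, true), (43, false), (65, true)]),
  (551, [(0, true), (43, false), (1870, false)]),
  (552, [(0, true), (43, false), (1399, false)]),
  (553, [(0, true), (43, false), (8, true)]),
  (554, [(0, true), (43, false), (30, true)]),
  (555, [(0, true), (43, false)]),
  (556, [(28, true), (172, true), (227, true), (2043, true), (177, true), (1104, false)]),
  (557, [(28, true), (226, true), (59, true), (141, true), (23, true), (1870, true)]),
  (558, [(3, true), (239, true), (122, true), (153, true), (7, true), (61, false)]),
  (559, [(3, true), (125, true), (276, true), (87, true), (31, true), (30, false)]),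
  (560, [(3, true), (267, true), (128, true), (174, true), (22, true), (30, false)]),
  (562, [(3, true), (239, true), (265, true), (58, true), (21, true), (1870, true)]),
  (563, [(3, true), (5, true), (1354, true), (289, true), (103, true), (472, true)]),
  (564, [(3, true), (265, true), (119, true), (48, true), (2043, true), (30, true)]),
  (565, [(3, true), (5, true), (1354, true), (288, true), (101, true), (1577, true)]),
  (566, [(3, true), (5, true), (1216, true), (253, true), (4, true), (1870, true)]),
  (567, [(3, true), (5, true), (61, true), (116, true), (179, true), (1870, true)]),
  (568, [(3, true), (5, true), (116, true), (65, true), (136, true), (1104, false)]),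
  (569, [(3, true), (5, true), (64, true), (264, true), (241, true), (1104, false)]),
  (570, [(3, true), (5, true), (1216, true), (253, true), (4, true), (30, false)]),
  (571, [(3, true), (5, true), (1216, true), (253, true), (4, true)]),
  (572, [(3, true), (4, true), (1354, true), (147, true), (156, true), (1104, false)]),
  (573, [(3, true), (4, true), (1354, true), (146, true), (157, true), (30, false)]),
  (574, [(3, true), (4, true), (1354, true), (147, true), (210, true)]),
  (575, [(3, true), (4, true), (1354, true), (146, true), (211, true)]),
  (576, [(3, true), (4, true), (1354, true), (146, true), (65, true), (1104, false)]),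
  (577, [(3, true), (4, true), (1354, true), (147, true), (64, true), (30, false)]),
  (578, [(3, true), (4, true), (80, true), (472, true), (70, true), (6, true)]),
  (579, [(3, true), (4, true), (1216, true), (291, true), (81, true), (1870, true)]),
  (580, [(3, true), (4, true), (76, true), (472, true), (57, true), (2043, true)]),
  (581, [(3, true), (4, true), (76, true), (260, true), (68, true), (741, false)]),
  (582, [(3, true), (4, true), (84, true), (170, true), (138, true), (1104, false)]),
  (583, [(3, true), (4, true), (85, true), (171, true), (139, true), (30, false)]),
  (584, [(3, true), (4, true), (1354, true), (159, true), (38, true), (30, false)]),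
  (585, [(3, true), (4, true), (1354, true), (158, true), (38, true), (1104, false)]),
  (586, [(3, true), (4, true), (1216, true), (289, true), (107, true)]),
  (587, [(3, true), (4, true), (79, true), (1577, true), (150, true), (30, false)]),
  (588, [(3, true), (7, true), (1354, true), (289, true), (126, true), (1399, true)]),
  (589, [(3, true), (7, true), (1354, true), (288, true), (127, true), (1399, true)]),
  (590, [(3, true), (7, true), (1354, true), (162, true), (95, true), (30, false)]),
  (591, [(3, true), (7, true), (1354, true), (163, true), (94, true), (1870, true)]),
  (592, [(3, true), (5, true), (1354, true), (288, true), (285, true)]),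
  (593, [(3, true), (5, true), (1354, true), (288, true), (104, true)]),
  (594, [(3, true), (5, true), (1216, true), (260, true), (13, true)]),
  (595, [(3, true), (5, true), (122, true), (67, true), (262, true), (1577, false)]),
  (596, [(3, true), (5, true), (61, true), (116, true), (53, true), (6, false)]),
  (597, [(3, true), (5, true), (61, true), (60, true), (38, false), (1354, false)]),
  (598, [(3, true), (5, true), (92, true), (246, true), (25, true), (15, false)]),
  (599, [(3, true), (5, true), (95, true), (2043, true), (1870, true), (30, false)]),
  (600, [(3, true), (5, true), (1354, true), (253, true), (72, true)]),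
  (601, [(3, true), (5, true), (1354, true), (29, true), (252, true), (1870, true)]),
  (602, [(3, true), (5, true), (122, true), (67, true), (59, true), (6, false)]),
  (603, [(3, true), (5, true), (102, true), (1216, true), (77, true), (30, false)]),
  (604, [(3, true), (28, true), (64, true), (169, true), (15, false), (1870, false)]),
  (605, [(3, true), (28, true), (65, true), (168, true), (1104, true), (472, true)]),
  (606, [(3, true), (7, true), (58, true), (1216, true), (95, true), (30, true)]),
  (607, [(3, true), (7, true), (64, true), (472, true), (85, true), (30, false)]),
  (608, [(3, true), (6, true), (52, true), (261, true), (194, true), (30, false)])]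

def stepsY4 : List (ℕ × List (ℕ × Bool)) := [(609, [(3, true), (6, true), (72, true), (1577, true), (164, true), (719, false)]),
  (610, [(3, true), (6, true), (102, true), (1216, true), (12, true), (1577, true)]),
  (611, [(3, true), (6, true), (1216, true), (58, true), (49, true), (472, false)]),
  (612, [(3, true), (28, true), (89, true), (241, true), (45, true), (472, true)]),
  (613, [(3, true), (28, true), (79, true), (92, true), (15, false), (1577, true)]),
  (614, [(3, true), (7, true), (64, true), (243, true), (138, true), (36, false)]),
  (615, [(3, true), (7, true), (89, true), (255, true), (162, true), (1577, false)]),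
  (616, [(3, true), (12, true), (64, true), (239, true), (154, true), (1870, true)]),
  (617, [(3, true), (15, true), (1577, true), (48, true), (8, true), (30, false)]),
  (618, [(3, true), (28, true), (119, true), (168, true), (59, true), (30, false)]),
  (619, [(3, true), (28, true), (168, true), (99, true), (278, true), (1577, false)]),
  (620, [(28, true), (64, true), (199, true), (241, true), (173, true), (30, false)]),
  (621, [(28, true), (87, true), (198, true), (124, true), (34, true), (1104, false)]),
  (622, [(7, true), (1399, true), (5, true), (232, true), (23, true), (472, true)]),
  (623, [(7, true), (5, true), (61, true), (200, true), (98, true), (36, false)]),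
  (624, [(5, true), (64, true), (199, true), (90, true), (1870, false), (1399, false)]),
  (625, [(5, true), (1399, true), (27, true), (94, true), (48, true), (1216, true)]),
  (626, [(5, true), (6, true), (64, true), (1216, true), (118, true), (30, true)]),
  (627, [(5, true), (6, true), (67, true), (196, true), (247, true), (30, false)]),
  (628, [(5, true), (4, true), (1354, true), (98, true), (472, true), (1870, true)]),
  (629, [(5, true), (4, true), (1354, true), (741, true), (91, true), (1870, true)]),
  (630, [(5, true), (4, true), (1399, true), (158, true), (249, false)]),
  (631, [(5, true), (4, true), (77, true), (101, true), (54, true), (9, false)]),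
  (632, [(5, true), (4, true), (79, true), (103, true), (52, true), (1870, true)]),
  (633, [(5, true), (4, true), (1399, true), (161, true), (246, false)]),
  (634, [(5, true), (4, true), (77, true), (101, true), (54, true), (30, false)]),
  (635, [(5, true), (4, true), (1216, true), (292, true), (35, true)]),
  (636, [(4, true), (27, true), (1354, true), (78, true), (90, true), (12, false)]),
  (637, [(4, true), (16, true), (45, true), (1354, true), (91, true), (30, false)]),
  (638, [(4, true), (16, true), (46, true), (1354, true), (13, true), (30, false)]),
  (639, [(4, true), (29, true), (472, true), (1216, true), (97, true), (2043, true)]),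
  (640, [(4, true), (6, true), (82, true), (1870, true), (9, true), (1104, false)]),
  (641, [(4, true), (6, true), (472, true), (97, true), (128, true), (30, false)]),
  (642, [(4, true), (6, true), (1399, true), (101, true), (24, true), (1870, true)]),
  (643, [(4, true), (6, true), (1870, true), (66, true), (59, true)]),
  (644, [(4, true), (16, true), (13, true), (41, false), (44, true)]),
  (645, [(4, true), (14, true), (1399, true), (83, true), (2043, true), (30, true)]),
  (646, [(4, true), (14, true), (1216, true), (106, true), (46, true), (30, true)]),
  (647, [(4, true), (14, true), (90, true), (263, true), (213, true), (30, false)]),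
  (648, [(4, true), (16, true), (13, true), (41, false), (1870, false)]),
  (649, [(4, true), (27, true), (30, true), (41, false), (1870, false)]),
  (650, [(4, true), (27, true), (30, true), (41, false)]),
  (651, [(4, true), (16, true), (13, true), (41, false)]),
  (652, [(7, true), (1399, true), (5, true), (122, true), (6, true), (1577, false)]),
  (653, [(7, true), (5, true), (1354, true), (162, true), (719, false), (30, false)]),
  (654, [(7, true), (5, true), (1354, true), (163, true), (84, false)]),
  (655, [(7, true), (5, true), (1354, true), (162, true), (85, false)]),
  (656, [(28, true), (5, true), (61, true), (76, true), (26, true), (1216, true)]),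
  (657, [(28, true), (5, true), (60, true), (77, true), (26, true), (1216, true)]),
  (658, [(5, true), (6, true), (61, true), (186, true), (110, true), (25, false)]),
  (659, [(5, true), (6, true), (1399, true), (122, true), (34, true), (1870, true)]),
  (660, [(5, true), (7, true), (1399, true), (102, true), (20, true), (30, false)]),
  (661, [(5, true), (7, true), (50, true), (1216, true), (15, true), (30, true)]),
  (662, [(5, true), (7, true), (49, true), (266, true), (146, true), (14, false)]),
  (663, [(5, true), (7, true), (91, true), (2043, true), (135, true)]),
  (664, [(5, true), (22, true), (1354, true), (223, true), (89, true)]),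
  (665, [(5, true), (28, true), (122, true), (203, true), (40, true), (3, false)]),
  (666, [(5, true), (30, true), (45, true), (60, true), (58, true), (472, true)]),
  (667, [(5, true), (22, true), (99, true), (290, true), (119, true), (719, false)]),
  (668, [(28, true), (7, true), (78, true), (187, true), (70, true), (16, false)]),
  (669, [(28, true), (7, true), (79, true), (74, true), (1104, true), (15, false)]),
  (670, [(7, true), (26, true), (64, true), (472, true), (213, true), (30, true)]),
  (671, [(7, true), (26, true), (1399, true), (137, true), (46, false)]),
  (672, [(27, true), (22, true), (1870, true), (121, true), (100, true)]),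
  (673, [(6, true), (8, true), (46, true), (246, true), (113, true), (719, false)]),
  (674, [(6, true), (30, true), (45, true), (52, true), (141, true), (0, false)]),
  (675, [(6, true), (28, true), (79, true), (182, true), (222, true), (30, false)]),
  (676, [(28, true), (7, true), (67, true), (164, true), (83, false), (30, true)]),
  (677, [(28, true), (7, true), (157, true), (156, true), (15, false), (1870, false)]),
  (678, [(7, true), (27, true), (86, true), (195, true), (128, true), (1577, false)]),
  (679, [(7, true), (16, true), (1399, true), (163, true), (244, false)]),
  (680, [(16, true), (14, true), (1399, true), (105, true), (144, true), (1870, true)]),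
  (681, [(15, true), (26, true), (47, true), (174, true), (71, true), (30, false)]),
  (682, [(27, true), (24, true), (164, true), (1870, true), (56, true)]),
  (683, [(28, true), (26, true), (107, true), (214, true), (65, true), (2043, true)]),
  (684, [(28, true), (3, true), (58, true), (198, true), (110, true), (1870, true)]),
  (685, [(28, true), (3, true), (125, true), (172, true), (15, false), (472, false)]),
  (686, [(7, true), (3, true), (48, true), (289, true), (279, true), (1870, true)]),
  (687, [(7, true), (3, true), (239, true), (57, true), (55, true), (1870, true)]),
  (688, [(3, true), (5, true), (60, true), (1216, true), (81, true), (30, false)]),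
  (689, [(3, true), (5, true), (61, true), (175, true), (15, true), (741, false)]),
  (690, [(3, true), (5, true), (65, true), (179, true), (28, true), (7, false)]),
  (691, [(3, true), (5, true), (64, true), (1216, true), (166, true)]),
  (692, [(3, true), (5, true), (61, true), (46, true), (472, true), (741, true)]),
  (693, [(3, true), (5, true), (60, true), (47, true), (180, true), (38, false)]),
  (694, [(3, true), (5, true), (1354, true), (288, true), (29, true)]),
  (695, [(3, true), (5, true), (1354, true), (289, true), (29, true)]),
  (696, [(3, true), (5, true), (141, true), (100, true), (212, true), (2043, true)]),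
  (697, [(3, true), (5, true), (64, true), (1216, true), (55, true), (30, false)]),
  (698, [(3, true), (5, true), (102, true), (1216, true), (159, true)]),
  (699, [(3, true), (5, true), (4, true), (42, false)]),
  (700, [(3, true), (4, true), (236, true), (213, true), (1216, true), (6, true)]),
  (701, [(3, true), (4, true), (92, true), (133, true), (285, true), (30, false)]),
  (702, [(3, true), (4, true), (92, true), (1216, true), (9, true), (1870, false)]),
  (703, [(3, true), (4, true), (93, true), (44, true), (2043, true), (1104, false)]),
  (704, [(3, true), (4, true), (1354, true), (146, true), (194, true)]),
  (705, [(3, true), (4, true), (1354, true), (18, true), (172, true)]),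
  (706, [(3, true), (4, true), (238, true), (1577, true), (59, true), (741, false)]),
  (707, [(3, true), (4, true), (239, true), (97, true), (145, true), (1104, false)]),
  (708, [(3, true), (4, true), (236, true), (100, true), (164, true), (30, false)]),
  (709, [(3, true), (4, true), (1216, true), (146, true), (136, true), (30, true)]),
  (710, [(3, true), (4, true), (212, true), (197, true), (1399, true), (26, false)]),
  (711, [(3, true), (4, true), (1216, true), (146, true), (88, true), (1870, true)]),
  (712, [(3, true), (4, true), (1216, true), (289, true), (38, true)]),
  (713, [(3, true), (4, true), (1216, true), (155, true), (34, true)]),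
  (714, [(3, true), (4, true), (1577, true), (1354, true), (22, true)]),
  (715, [(3, true), (4, true), (1577, true), (1354, true), (27, true)]),
  (716, [(3, true), (40, false), (42, false), (64, true), (14, false)]),
  (717, [(3, true), (40, false), (42, false), (45, true), (44, true)]),
  (718, [(3, true), (40, false), (42, false), (44, true), (46, true)]),
  (720, [(3, true), (40, false), (42, false), (741, false), (1870, true)]),
  (721, [(3, true), (40, false), (42, false), (1399, false), (30, false), (1870, true)]),
  (722, [(3, true), (40, false), (42, false), (719, false), (19, false)]),
  (723, [(3, true), (40, false), (42, false), (741, false), (2043, true)]),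
  (724, [(3, true), (40, false), (42, false), (719, false), (1216, true)]),
  (725, [(3, true), (40, false), (42, false), (48, true), (561, true)]),
  (726, [(3, true), (40, false), (42, false), (1399, false), (51, true)]),
  (727, [(3, true), (40, false), (42, false), (50, true), (5, true)]),
  (728, [(3, true), (40, false), (42, false), (5, true), (45, true)]),
  (729, [(3, true), (40, false), (42, false), (5, true), (1399, false)]),
  (730, [(3, true), (40, false), (42, false), (5, true), (30, true)]),
  (731, [(3, true), (40, false), (42, false), (5, true)]),
  (732, [(3, true), (40, false), (42, false), (76, true), (1354, true)]),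
  (733, [(3, true), (40, false), (42, false), (1870, true), (472, true)]),
  (734, [(3, true), (40, false), (42, false), (741, false), (472, false)]),
  (735, [(3, true), (40, false), (42, false), (61, true), (30, false)]),
  (736, [(3, true), (40, false), (42, false), (50, true)]),
  (737, [(3, true), (40, false), (42, false), (1870, true)]),
  (738, [(3, true), (40, false), (42, false), (64, true)]),
  (739, [(3, true), (40, false), (42, false), (6, true)]),
  (740, [(3, true), (40, false), (42, false), (51, true)]),
  (742, [(3, true), (40, false), (42, false), (49, true)]),
  (743, [(3, true), (40, false), (42, false), (1354, true)]),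
  (744, [(3, true), (40, false), (42, false), (741, false)]),
  (745, [(3, true), (40, false), (42, false), (2043, false)]),
  (746, [(3, true), (40, false), (42, false), (30, false)]),
  (747, [(3, true), (40, false), (42, false)]),
  (748, [(27, true), (16, false), (42, false), (1354, true), (45, true), (472, false)]),
  (749, [(28, true), (15, false), (42, false), (1870, true), (1354, true)]),
  (750, [(7, true), (36, false), (42, false), (107, true), (1577, true)]),
  (751, [(7, true), (36, false), (42, false), (561, true), (68, true)]),
  (752, [(4, true), (39, false), (42, false), (85, true), (71, true)]),
  (753, [(4, true), (39, false), (42, false), (84, true), (70, true)]),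
  (754, [(4, true), (39, false), (42, false), (87, true), (69, true)]),
  (755, [(4, true), (39, false), (42, false), (86, true), (719, true)]),
  (756, [(4, true), (39, false), (42, false), (84, true), (5, true)]),
  (757, [(4, true), (39, false), (42, false), (85, true), (1577, false)]),
  (758, [(4, true), (39, false), (42, false), (86, true), (1577, false)]),
  (759, [(4, true), (39, false), (42, false), (1354, true), (5, true)]),
  (760, [(4, true), (39, false), (42, false), (5, true), (1399, true)])]

def stepsY5 : List (ℕ × List (ℕ × Bool)) := [(761, [(4, true), (39, false), (42, false), (5, true), (472, true)]),
  (762, [(4, true), (39, false), (42, false), (5, true), (30, false)]),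
  (763, [(4, true), (39, false), (42, false), (5, true)]),
  (764, [(4, true), (39, false), (42, false), (1399, true), (1577, false)]),
  (765, [(4, true), (39, false), (42, false), (90, true), (561, true)]),
  (766, [(4, true), (39, false), (42, false), (91, true), (30, false)]),
  (767, [(4, true), (39, false), (42, false), (719, true), (30, true)]),
  (768, [(4, true), (39, false), (42, false), (61, true), (472, true)]),
  (769, [(4, true), (39, false), (42, false), (60, true), (2043, true)]),
  (770, [(4, true), (39, false), (42, false), (6, true), (30, false)]),
  (771, [(4, true), (39, false), (42, false), (6, true)]),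
  (772, [(4, true), (39, false), (42, false), (60, true)]),
  (773, [(4, true), (39, false), (42, false), (61, true)]),
  (774, [(4, true), (39, false), (42, false), (62, true)]),
  (775, [(4, true), (39, false), (42, false), (1870, false)]),
  (776, [(4, true), (39, false), (42, false), (51, true)]),
  (777, [(4, true), (39, false), (42, false), (561, true)]),
  (778, [(4, true), (39, false), (42, false), (30, true)]),
  (779, [(4, true), (39, false), (42, false)]),
  (780, [(15, true), (28, false), (42, false), (472, true), (2043, true)]),
  (781, [(15, true), (28, false), (42, false), (472, true), (1870, false)]),
  (782, [(7, true), (36, false), (42, false), (75, true), (30, false)]),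
  (783, [(7, true), (36, false), (42, false), (72, true), (1577, false)]),
  (784, [(5, true), (38, false), (42, false), (53, true), (472, true)]),
  (785, [(5, true), (38, false), (42, false), (52, true), (1577, false)]),
  (786, [(5, true), (38, false), (42, false), (6, true), (30, false)]),
  (787, [(5, true), (38, false), (42, false), (6, true)]),
  (788, [(5, true), (38, false), (42, false), (52, true)]),
  (789, [(5, true), (38, false), (42, false), (561, true)]),
  (790, [(5, true), (38, false), (42, false), (54, true)]),
  (791, [(5, true), (38, false), (42, false), (7, true)]),
  (792, [(5, true), (38, false), (42, false), (45, true)]),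
  (793, [(5, true), (38, false), (42, false), (1870, false)]),
  (794, [(5, true), (38, false), (42, false), (30, true)]),
  (795, [(5, true), (38, false), (42, false)]),
  (796, [(16, true), (27, false), (42, false), (1354, true), (1870, false)]),
  (797, [(28, true), (15, false), (42, false), (1354, true)]),
  (798, [(7, true), (36, false), (42, false), (1577, true)]),
  (799, [(7, true), (36, false), (42, false), (6, true)]),
  (800, [(15, true), (28, false), (42, false), (69, true)]),
  (801, [(15, true), (28, false), (42, false), (741, false)]),
  (802, [(6, true), (37, false), (42, false), (30, true)]),
  (803, [(6, true), (37, false), (42, false)]),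
  (804, [(27, true), (16, false), (42, false), (51, true)]),
  (805, [(28, true), (15, false), (42, false), (1577, false)]),
  (806, [(7, true), (36, false), (42, false), (30, false)]),
  (807, [(7, true), (36, false), (42, false)]),
  (808, [(15, true), (28, false), (42, false), (30, true)]),
  (809, [(15, true), (28, false), (42, false)]),
  (810, [(16, true), (27, false), (42, false)]),
  (811, [(27, true), (16, false), (42, false)]),
  (812, [(15, true), (28, false), (1399, true), (1870, true), (1354, true), (30, false)]),
  (813, [(15, true), (28, false), (1354, true), (120, true), (51, true)]),
  (814, [(7, true), (36, false), (561, true), (165, true), (4, true)]),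
  (815, [(7, true), (36, false), (1216, true), (49, true), (168, true)]),
  (816, [(3, true), (40, false), (49, true), (175, true), (45, true)]),
  (817, [(3, true), (40, false), (44, true), (82, true), (68, true)]),
  (818, [(3, true), (40, false), (44, true), (173, true), (47, true)]),
  (819, [(3, true), (40, false), (1399, true), (46, true), (741, true), (30, false)]),
  (820, [(3, true), (40, false), (1399, true), (47, true), (44, true), (30, true)]),
  (821, [(3, true), (40, false), (44, true), (173, true), (46, true)]),
  (822, [(3, true), (40, false), (45, true), (46, true), (1104, false)]),
  (823, [(3, true), (40, false), (44, true), (47, true), (4, true)]),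
  (824, [(3, true), (40, false), (57, true), (184, true), (53, true)]),
  (825, [(3, true), (40, false), (48, true), (177, true), (50, true)]),
  (826, [(3, true), (40, false), (49, true), (50, true), (1104, false)]),
  (827, [(3, true), (40, false), (1399, true), (48, true), (51, true), (30, true)]),
  (828, [(3, true), (40, false), (44, true), (57, true), (1354, true)]),
  (829, [(3, true), (40, false), (45, true), (56, true), (1354, true)]),
  (830, [(3, true), (40, false), (44, true), (57, true), (52, true)]),
  (831, [(3, true), (40, false), (1399, true), (47, true), (472, true), (30, true)]),
  (832, [(3, true), (40, false), (1399, true), (48, true), (561, true), (30, true)]),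
  (833, [(3, true), (40, false), (45, true), (67, true), (561, true)]),
  (834, [(3, true), (40, false), (46, true), (64, true), (6, true)]),
  (835, [(3, true), (40, false), (47, true), (65, true), (6, true)]),
  (836, [(3, true), (40, false), (46, true), (54, true), (5, false)]),
  (837, [(3, true), (40, false), (60, true), (50, true), (472, false)]),
  (838, [(3, true), (40, false), (61, true), (51, true), (30, true)]),
  (839, [(3, true), (40, false), (1399, true), (48, true), (561, true)]),
  (840, [(3, true), (40, false), (1399, true), (47, true), (4, true)]),
  (841, [(3, true), (40, false), (51, true), (59, true), (5, false)]),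
  (842, [(3, true), (40, false), (45, true), (56, true), (4, true)]),
  (843, [(3, true), (40, false), (44, true), (57, true), (2043, true)]),
  (844, [(3, true), (40, false), (44, true), (46, true), (1870, true)]),
  (845, [(3, true), (40, false), (46, true), (61, true), (1577, true)]),
  (846, [(3, true), (40, false), (1399, true), (472, true), (1577, true), (30, false)]),
  (847, [(3, true), (40, false), (44, true), (63, true), (45, true)]),
  (848, [(3, true), (40, false), (44, true), (47, true), (52, true)]),
  (849, [(3, true), (40, false), (1399, true), (46, true), (30, false)]),
  (850, [(3, true), (40, false), (45, true), (46, true), (30, false)]),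
  (851, [(3, true), (40, false), (44, true), (47, true), (30, true)]),
  (852, [(3, true), (40, false), (48, true), (41, false), (1870, true)]),
  (853, [(3, true), (40, false), (49, true), (41, false), (1870, true)]),
  (854, [(3, true), (40, false), (50, true), (41, false), (2043, true)]),
  (855, [(3, true), (40, false), (41, false), (51, true), (1577, true)]),
  (856, [(3, true), (40, false), (41, false), (44, true), (472, true)]),
  (857, [(3, true), (40, false), (41, false), (5, true), (2043, true)]),
  (858, [(3, true), (40, false), (41, false), (5, true), (30, true)]),
  (859, [(3, true), (40, false), (41, false), (5, true)]),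
  (860, [(3, true), (40, false), (41, false), (44, true), (1577, true)]),
  (861, [(3, true), (40, false), (41, false), (45, true), (472, false)]),
  (862, [(3, true), (40, false), (41, false), (46, true), (1870, true)]),
  (863, [(3, true), (40, false), (41, false), (47, true), (1870, true)]),
  (864, [(3, true), (40, false), (41, false), (48, true), (2043, false)]),
  (865, [(3, true), (40, false), (41, false), (1577, true), (1870, false)]),
  (866, [(3, true), (40, false), (41, false), (1577, true)]),
  (867, [(3, true), (40, false), (41, false), (1870, true)]),
  (868, [(3, true), (40, false), (41, false), (50, true)]),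
  (869, [(3, true), (40, false), (41, false), (51, true)]),
  (870, [(3, true), (40, false), (41, false), (2043, true)]),
  (871, [(3, true), (40, false), (41, false), (719, true)]),
  (872, [(3, true), (40, false), (41, false), (46, true)]),
  (873, [(3, true), (40, false), (41, false), (1216, true)]),
  (874, [(3, true), (40, false), (41, false), (30, false)]),
  (875, [(3, true), (40, false), (41, false)]),
  (876, [(15, true), (28, false), (1354, true), (44, true), (61, false)]),
  (877, [(15, true), (28, false), (1354, true), (44, true), (4, true)]),
  (878, [(7, true), (36, false), (265, true), (216, true), (741, true)]),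
  (879, [(7, true), (36, false), (1399, true), (116, true), (1870, true)]),
  (880, [(4, true), (39, false), (1399, true), (48, true), (46, true)]),
  (881, [(4, true), (39, false), (1104, true), (101, true), (1870, false)]),
  (882, [(4, true), (39, false), (1104, true), (101, true)]),
  (883, [(4, true), (39, false), (45, true), (55, true), (1870, true)]),
  (884, [(4, true), (39, false), (1104, true), (49, true), (1870, false)]),
  (885, [(4, true), (39, false), (48, true), (286, true), (1870, false)]),
  (886, [(4, true), (39, false), (41, false), (101, true), (1216, false)]),
  (887, [(4, true), (39, false), (1104, true), (741, true), (1399, true)]),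
  (888, [(4, true), (39, false), (1104, true), (5, true), (472, true)]),
  (889, [(4, true), (39, false), (41, false), (5, true), (1354, true)]),
  (890, [(4, true), (39, false), (41, false), (5, true), (30, false)]),
  (891, [(4, true), (39, false), (1104, true), (741, true)]),
  (892, [(4, true), (39, false), (1104, true), (1577, true), (1870, false)]),
  (893, [(4, true), (39, false), (41, false), (92, true), (1870, false)]),
  (894, [(4, true), (39, false), (41, false), (95, true), (472, true)]),
  (895, [(4, true), (39, false), (1104, true), (1577, true)]),
  (896, [(4, true), (39, false), (1104, true), (561, true)]),
  (897, [(4, true), (39, false), (41, false), (1577, true), (1870, true)]),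
  (898, [(4, true), (39, false), (41, false), (1577, true)]),
  (899, [(4, true), (39, false), (1104, true), (1399, true)]),
  (900, [(4, true), (39, false), (41, false), (741, true)]),
  (901, [(4, true), (39, false), (1104, true), (1354, true)]),
  (902, [(4, true), (39, false), (1104, true), (1870, false)]),
  (903, [(4, true), (39, false), (41, false), (1870, false)]),
  (904, [(4, true), (39, false), (41, false), (561, true)]),
  (905, [(4, true), (39, false), (1104, true), (472, false)]),
  (906, [(4, true), (39, false), (1104, true)]),
  (907, [(4, true), (39, false), (41, false)]),
  (908, [(27, true), (16, false), (1104, true), (45, true), (472, false)]),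
  (909, [(28, true), (15, false), (41, false), (69, true), (2043, true)]),
  (910, [(7, true), (36, false), (41, false), (73, true), (30, false)])]

def stepsY6 : List (ℕ × List (ℕ × Bool)) := [(911, [(7, true), (36, false), (41, false), (72, true), (30, true)]),
  (912, [(5, true), (38, false), (41, false), (49, true), (472, true)]),
  (913, [(5, true), (38, false), (41, false), (48, true), (2043, false)]),
  (914, [(5, true), (38, false), (41, false), (6, true), (30, false)]),
  (915, [(5, true), (38, false), (41, false), (6, true)]),
  (916, [(5, true), (38, false), (41, false), (51, true)]),
  (917, [(5, true), (38, false), (41, false), (1354, true)]),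
  (918, [(5, true), (38, false), (41, false), (49, true)]),
  (919, [(5, true), (38, false), (41, false), (1577, true)]),
  (920, [(5, true), (38, false), (41, false), (741, true)]),
  (921, [(5, true), (38, false), (41, false), (1870, true)]),
  (922, [(5, true), (38, false), (41, false), (30, true)]),
  (923, [(5, true), (38, false), (41, false)]),
  (924, [(15, true), (28, false), (41, false), (1870, false), (30, false)]),
  (925, [(15, true), (28, false), (41, false), (1870, false)]),
  (926, [(7, true), (36, false), (41, false), (2043, true)]),
  (927, [(7, true), (36, false), (41, false), (1354, true)]),
  (928, [(16, true), (27, false), (41, false), (172, false)]),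
  (929, [(28, true), (15, false), (41, false), (1870, true)]),
  (930, [(6, true), (37, false), (41, false), (30, true)]),
  (931, [(6, true), (37, false), (41, false)]),
  (932, [(15, true), (28, false), (41, false), (46, false)]),
  (933, [(15, true), (28, false), (41, false), (472, true)]),
  (934, [(7, true), (36, false), (41, false), (30, false)]),
  (935, [(7, true), (36, false), (41, false)]),
  (936, [(27, true), (16, false), (1104, true), (1870, false)]),
  (937, [(28, true), (15, false), (41, false)]),
  (938, [(16, true), (27, false), (41, false)]),
  (939, [(15, true), (28, false), (41, false)]),
  (940, [(15, true), (28, false), (44, true), (64, true), (30, false)]),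
  (941, [(15, true), (28, false), (1399, true), (44, true), (69, true)]),
  (942, [(7, true), (36, false), (176, true), (240, true), (1870, true)]),
  (943, [(7, true), (36, false), (177, true), (241, true), (1870, true)]),
  (944, [(3, true), (40, false), (1354, true), (56, true), (472, true)]),
  (945, [(3, true), (40, false), (1354, true), (57, true), (2043, true)]),
  (946, [(3, true), (40, false), (293, true), (51, true), (30, true)]),
  (947, [(3, true), (40, false), (292, true), (294, true)]),
  (948, [(3, true), (40, false), (44, true), (52, true)]),
  (949, [(3, true), (40, false), (294, true), (289, true)]),
  (950, [(3, true), (40, false), (293, true), (290, true)]),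
  (951, [(3, true), (40, false), (292, true), (291, true)]),
  (952, [(3, true), (40, false), (93, true), (150, true)]),
  (953, [(3, true), (40, false), (92, true), (151, true)]),
  (954, [(3, true), (40, false), (1399, true), (61, true), (4, true)]),
  (955, [(3, true), (40, false), (1354, true), (51, true), (472, true)]),
  (956, [(3, true), (40, false), (1354, true), (57, true)]),
  (957, [(3, true), (40, false), (1354, true), (56, true)]),
  (958, [(3, true), (40, false), (237, true), (178, true)]),
  (959, [(3, true), (40, false), (100, true), (90, true)]),
  (960, [(3, true), (40, false), (103, true), (85, true)]),
  (961, [(3, true), (40, false), (102, true), (84, true)]),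
  (962, [(3, true), (40, false), (4, true), (6, true), (30, false)]),
  (963, [(3, true), (40, false), (4, true), (6, true)]),
  (964, [(3, true), (40, false), (4, true), (56, true)]),
  (965, [(3, true), (40, false), (4, true), (57, true)]),
  (966, [(3, true), (40, false), (4, true), (2043, true)]),
  (967, [(3, true), (40, false), (4, true), (1354, true)]),
  (968, [(3, true), (40, false), (4, true), (719, true)]),
  (969, [(3, true), (40, false), (4, true), (1399, true)]),
  (970, [(3, true), (40, false), (4, true), (30, true)]),
  (971, [(3, true), (40, false), (4, true)]),
  (972, [(3, true), (40, false), (1354, true), (741, false), (472, true)]),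
  (973, [(3, true), (40, false), (1354, true), (174, true)]),
  (974, [(3, true), (40, false), (174, true), (46, true)]),
  (975, [(3, true), (40, false), (172, true), (1577, true)]),
  (976, [(3, true), (40, false), (172, true), (58, true)]),
  (977, [(3, true), (40, false), (173, true), (59, true)]),
  (978, [(3, true), (40, false), (173, true), (30, false)]),
  (979, [(3, true), (40, false), (172, true), (30, true)]),
  (980, [(3, true), (40, false), (176, true), (561, true)]),
  (981, [(3, true), (40, false), (177, true), (1577, true)]),
  (982, [(3, true), (40, false), (178, true), (1577, true)]),
  (983, [(3, true), (40, false), (179, true), (1354, true)]),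
  (984, [(3, true), (40, false), (172, true), (472, true)]),
  (985, [(3, true), (40, false), (561, true), (1577, true)]),
  (986, [(3, true), (40, false), (5, true), (30, true)]),
  (987, [(3, true), (40, false), (5, true)]),
  (988, [(3, true), (40, false), (172, true), (1870, false)]),
  (989, [(3, true), (40, false), (173, true), (1870, false)]),
  (990, [(3, true), (40, false), (174, true), (472, false)]),
  (991, [(3, true), (40, false), (175, true), (472, false)]),
  (992, [(3, true), (40, false), (1577, true), (472, true)]),
  (993, [(3, true), (40, false), (561, true), (1870, false)]),
  (994, [(3, true), (40, false), (6, true), (30, true)]),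
  (995, [(3, true), (40, false), (1577, true)]),
  (996, [(3, true), (40, false), (68, true)]),
  (997, [(3, true), (40, false), (69, true)]),
  (998, [(3, true), (40, false), (70, true)]),
  (999, [(3, true), (40, false), (561, true)]),
  (1000, [(3, true), (40, false), (45, true)]),
  (1001, [(3, true), (40, false), (1870, false)]),
  (1002, [(3, true), (40, false), (30, false)]),
  (1003, [(3, true), (40, false)]),
  (1004, [(15, true), (28, false), (1216, true), (44, true), (472, false)]),
  (1005, [(15, true), (28, false), (106, true), (107, true)]),
  (1006, [(7, true), (36, false), (233, true), (44, true)]),
  (1007, [(7, true), (36, false), (232, true), (472, true)]),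
  (1008, [(4, true), (39, false), (232, true), (9, true)]),
  (1009, [(4, true), (39, false), (228, true), (561, true)]),
  (1010, [(4, true), (39, false), (229, true), (30, true)]),
  (1011, [(4, true), (39, false), (228, true), (30, false)]),
  (1012, [(4, true), (39, false), (231, true), (1870, false)]),
  (1013, [(4, true), (39, false), (230, true), (1870, false)]),
  (1014, [(4, true), (39, false), (229, true), (472, true)]),
  (1015, [(4, true), (39, false), (228, true), (2043, true)]),
  (1016, [(4, true), (39, false), (235, true), (2043, false)]),
  (1017, [(4, true), (39, false), (5, true), (1870, false)]),
  (1018, [(4, true), (39, false), (5, true), (30, false)]),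
  (1019, [(4, true), (39, false), (5, true)]),
  (1020, [(4, true), (39, false), (221, true), (472, false)]),
  (1021, [(4, true), (39, false), (220, true), (1577, true)]),
  (1022, [(4, true), (39, false), (223, true), (1870, false)]),
  (1023, [(4, true), (39, false), (222, true), (1870, false)]),
  (1024, [(4, true), (39, false), (1577, true), (2043, true)]),
  (1025, [(4, true), (39, false), (54, true), (30, false)]),
  (1026, [(4, true), (39, false), (6, true), (30, false)]),
  (1027, [(4, true), (39, false), (1577, true)]),
  (1028, [(4, true), (39, false), (59, true)]),
  (1029, [(4, true), (39, false), (58, true)]),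
  (1030, [(4, true), (39, false), (57, true)]),
  (1031, [(4, true), (39, false), (1354, true)]),
  (1032, [(4, true), (39, false), (719, true)]),
  (1033, [(4, true), (39, false), (1870, true)]),
  (1034, [(4, true), (39, false), (30, true)]),
  (1035, [(4, true), (39, false)]),
  (1036, [(16, true), (27, false), (1399, true), (1354, true)]),
  (1037, [(28, true), (15, false), (77, true), (1870, true)]),
  (1038, [(7, true), (36, false), (201, true), (30, false)]),
  (1039, [(7, true), (36, false), (200, true), (30, true)]),
  (1040, [(5, true), (38, false), (1870, true), (30, true)]),
  (1041, [(5, true), (38, false), (1870, true)]),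
  (1042, [(5, true), (38, false), (6, true), (30, false)]),
  (1043, [(5, true), (38, false), (6, true)]),
  (1044, [(5, true), (38, false), (79, true)]),
  (1045, [(5, true), (38, false), (78, true)]),
  (1046, [(5, true), (38, false), (561, true)]),
  (1047, [(5, true), (38, false), (472, false)]),
  (1048, [(5, true), (38, false), (45, false)]),
  (1049, [(5, true), (38, false), (8, true)]),
  (1050, [(5, true), (38, false), (30, true)]),
  (1051, [(5, true), (38, false)]),
  (1052, [(15, true), (28, false), (64, true), (30, false)]),
  (1053, [(15, true), (28, false), (134, true)]),
  (1054, [(7, true), (36, false), (63, true)]),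
  (1055, [(7, true), (36, false), (6, true)]),
  (1056, [(27, true), (16, false), (1399, true)]),
  (1057, [(28, true), (15, false), (1354, true)]),
  (1058, [(6, true), (37, false), (30, true)]),
  (1059, [(6, true), (37, false)]),
  (1060, [(15, true), (28, false), (1216, true)])]

def stepsY7 : List (ℕ × List (ℕ × Bool)) := [(1061, [(15, true), (28, false), (1870, false)]),
  (1062, [(7, true), (36, false), (30, false)]),
  (1063, [(7, true), (36, false)]),
  (1064, [(16, true), (27, false), (472, true)]),
  (1065, [(28, true), (15, false)]),
  (1066, [(27, true), (16, false)]),
  (1067, [(15, true), (28, false)]),
  (1068, [(0, true), (16, true), (30, true), (472, true), (1216, true), (1577, false)]),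
  (1069, [(0, true), (16, true), (30, true), (1577, true), (2043, true), (1399, false)]),
  (1070, [(0, true), (16, true), (30, true), (1577, true), (1399, false), (472, false)]),
  (1071, [(0, true), (16, true), (30, true), (1216, true), (77, true), (1577, false)]),
  (1072, [(0, true), (42, true), (3, true), (1216, true), (561, true), (1870, false)]),
  (1073, [(0, true), (42, true), (3, true), (172, true), (1870, true), (472, false)]),
  (1074, [(0, true), (42, true), (3, true), (172, true), (57, true), (30, false)]),
  (1075, [(0, true), (42, true), (3, true), (1870, true), (44, true), (472, true)]),
  (1076, [(0, true), (42, true), (5, true), (1216, true), (561, true), (1104, true)]),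
  (1077, [(0, true), (42, true), (5, true), (1870, true), (44, true), (472, false)]),
  (1078, [(0, true), (42, true), (5, true), (174, true), (1354, true), (1104, true)]),
  (1079, [(0, true), (42, true), (5, true), (1870, true), (54, true), (472, true)]),
  (1080, [(0, true), (42, true), (1870, true), (45, true), (1577, false)]),
  (1081, [(0, true), (42, true), (7, true), (1216, true), (472, true), (1870, false)]),
  (1082, [(0, true), (42, true), (7, true), (1216, true), (1104, true), (1870, false)]),
  (1083, [(0, true), (42, true), (1870, true), (44, true), (53, true)]),
  (1084, [(0, true), (42, true), (52, true), (63, false), (472, true)]),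
  (1085, [(0, true), (42, true), (45, true), (70, false), (2043, true), (472, false)]),
  (1086, [(0, true), (42, true), (45, true), (70, false), (741, true)]),
  (1087, [(0, true), (42, true), (45, true), (70, false), (472, false)]),
  (1088, [(0, true), (42, true), (8, true), (1104, true), (47, false)]),
  (1089, [(0, true), (42, true), (8, true), (1104, true), (51, false)]),
  (1090, [(0, true), (42, true), (8, true), (1104, true), (1216, true)]),
  (1091, [(0, true), (42, true), (8, true), (1104, true), (30, false)]),
  (1092, [(0, true), (42, true), (1399, false), (1870, true), (47, true)]),
  (1093, [(0, true), (42, true), (1399, false), (719, true), (561, true)]),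
  (1094, [(0, true), (42, true), (1399, false), (472, true), (741, true)]),
  (1095, [(0, true), (42, true), (1399, false), (1870, true), (5, false)]),
  (1096, [(0, true), (42, true), (1399, false), (1870, true), (472, true)]),
  (1097, [(0, true), (42, true), (1399, false), (30, false), (1354, false)]),
  (1098, [(0, true), (42, true), (1399, false), (1870, true)]),
  (1099, [(0, true), (42, true), (1399, false), (30, false)]),
  (1100, [(0, true), (42, true), (1870, true), (45, true)]),
  (1101, [(0, true), (42, true), (55, true), (116, false)]),
  (1102, [(0, true), (42, true), (1870, true), (1104, true)]),
  (1103, [(0, true), (42, true), (1104, true), (30, false)]),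
  (1105, [(0, true), (42, true), (1399, false), (1216, true), (2043, false)]),
  (1106, [(0, true), (42, true), (1399, false), (1216, true)]),
  (1107, [(0, true), (42, true), (1399, false), (1577, true)]),
  (1108, [(0, true), (3, true), (18, true), (1216, true), (561, true), (1104, false)]),
  (1109, [(0, true), (3, true), (18, true), (1870, true), (45, true), (472, false)]),
  (1110, [(0, true), (3, true), (18, true), (45, true), (2043, false), (30, false)]),
  (1111, [(0, true), (3, true), (18, true), (1870, true), (741, true), (472, true)]),
  (1112, [(0, true), (41, true), (1870, true), (741, true), (52, true)]),
  (1113, [(0, true), (41, true), (1870, true), (1354, false), (719, false)]),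
  (1114, [(0, true), (41, true), (5, true), (472, true), (741, true), (1104, false)]),
  (1115, [(0, true), (41, true), (5, true), (741, true), (77, true), (30, false)]),
  (1116, [(0, true), (41, true), (6, true), (1216, true), (561, true)]),
  (1117, [(0, true), (41, true), (6, true), (48, true), (75, false), (1870, false)]),
  (1118, [(0, true), (41, true), (1870, true), (741, true), (472, true)]),
  (1119, [(0, true), (41, true), (1870, true), (741, true), (719, false)]),
  (1120, [(0, true), (41, true), (48, true), (2043, true), (44, false)]),
  (1121, [(0, true), (41, true), (1577, true), (741, true), (2043, true)]),
  (1122, [(0, true), (41, true), (49, true), (59, false), (719, false)]),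
  (1123, [(0, true), (41, true), (1577, true), (741, true), (719, false)]),
  (1124, [(0, true), (41, true), (1577, true), (1104, false), (53, true)]),
  (1125, [(0, true), (41, true), (14, true), (1104, false), (2043, false)]),
  (1126, [(0, true), (41, true), (1577, true), (1104, false), (1870, false)]),
  (1127, [(0, true), (41, true), (14, true), (1104, false), (30, false)]),
  (1128, [(0, true), (41, true), (1104, false), (1354, true), (44, true)]),
  (1129, [(0, true), (41, true), (1104, false), (1354, true), (1870, true)]),
  (1130, [(0, true), (41, true), (1104, false), (1354, true), (1399, false)]),
  (1131, [(0, true), (41, true), (1104, false), (1354, true)]),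
  (1132, [(0, true), (41, true), (1104, false), (1216, true), (561, true)]),
  (1133, [(0, true), (41, true), (1104, false), (1216, true), (472, true)]),
  (1134, [(0, true), (41, true), (1104, false), (1577, true), (1399, false)]),
  (1135, [(0, true), (41, true), (1104, false), (1577, true)]),
  (1136, [(0, true), (41, true), (1104, false), (1870, true), (472, true)]),
  (1137, [(0, true), (41, true), (1104, false), (2043, false), (1216, true)]),
  (1138, [(0, true), (41, true), (1104, false), (1870, true)]),
  (1139, [(0, true), (41, true), (1104, false), (30, false)]),
  (1140, [(0, true), (3, true), (4, true), (1870, true), (48, true), (1577, false)]),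
  (1141, [(0, true), (3, true), (4, true), (172, true), (64, true), (30, false)]),
  (1142, [(0, true), (3, true), (1577, true), (52, true), (1870, true), (1104, true)]),
  (1143, [(0, true), (3, true), (1577, true), (52, true), (81, false)]),
  (1144, [(0, true), (3, true), (1577, true), (52, true), (1870, true)]),
  (1145, [(0, true), (3, true), (2043, true), (48, true), (1870, true)]),
  (1146, [(0, true), (3, true), (5, true), (1870, true), (472, true), (1104, true)]),
  (1147, [(0, true), (3, true), (1577, true), (53, true), (1399, false)]),
  (1148, [(0, true), (3, true), (50, true), (472, true), (55, true)]),
  (1149, [(0, true), (3, true), (50, true), (87, false), (561, true)]),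
  (1150, [(0, true), (3, true), (50, true), (87, false), (741, true)]),
  (1151, [(0, true), (3, true), (58, true), (79, false), (1216, true)]),
  (1152, [(0, true), (3, true), (50, true), (87, false), (30, true)]),
  (1153, [(0, true), (3, true), (30, true), (1216, true), (1399, false), (1870, false)]),
  (1154, [(0, true), (3, true), (30, true), (1870, true), (1399, false)]),
  (1155, [(0, true), (3, true), (30, true), (1399, false), (4, false)]),
  (1156, [(0, true), (3, true), (45, true), (62, false), (30, false)]),
  (1157, [(0, true), (3, true), (53, true), (70, false), (30, false)]),
  (1158, [(0, true), (3, true), (1399, false), (1216, true), (5, true)]),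
  (1159, [(0, true), (3, true), (1399, false), (1577, true), (1104, true)]),
  (1160, [(0, true), (3, true), (1399, false), (1577, true), (1870, true)]),
  (1161, [(0, true), (3, true), (1399, false), (1577, true)]),
  (1162, [(0, true), (3, true), (1399, false), (18, false), (1870, true)]),
  (1163, [(0, true), (3, true), (1399, false), (18, false)]),
  (1164, [(0, true), (17, true), (1577, true), (719, true), (1870, true), (1104, true)]),
  (1165, [(0, true), (17, true), (48, true), (161, false), (1399, false)]),
  (1166, [(0, true), (17, true), (49, true), (178, true), (12, false)]),
  (1167, [(0, true), (17, true), (4, true), (1104, true), (60, false), (1870, false)]),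
  (1168, [(0, true), (8, true), (2043, true), (48, true), (1104, true)]),
  (1169, [(0, true), (8, true), (2043, true), (44, true), (1104, true)]),
  (1170, [(0, true), (8, true), (60, true), (201, true), (30, false)]),
  (1171, [(0, true), (8, true), (4, true), (1104, true), (472, true), (2043, false)]),
  (1172, [(0, true), (4, true), (1870, true), (56, true), (1399, false)]),
  (1173, [(0, true), (4, true), (1870, true), (56, true), (472, true)]),
  (1174, [(0, true), (4, true), (172, true), (120, true), (1577, false)]),
  (1175, [(0, true), (4, true), (176, true), (116, true), (1577, false)]),
  (1176, [(0, true), (4, true), (172, true), (189, false), (719, false)]),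
  (1177, [(0, true), (4, true), (176, true), (193, false), (472, false)]),
  (1178, [(0, true), (4, true), (1870, true), (57, true), (1216, true)]),
  (1179, [(0, true), (4, true), (1870, true), (57, true), (1354, false)]),
  (1180, [(0, true), (4, true), (177, true), (119, true), (472, true)]),
  (1181, [(0, true), (4, true), (173, true), (123, true), (1577, false)]),
  (1182, [(0, true), (4, true), (172, true), (122, true), (1577, false)]),
  (1183, [(0, true), (4, true), (8, true), (1104, true), (30, false)]),
  (1184, [(0, true), (4, true), (172, true), (189, false), (30, false)]),
  (1185, [(0, true), (4, true), (173, true), (188, false), (30, false)]),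
  (1186, [(0, true), (4, true), (1870, true), (56, true), (2043, false)]),
  (1187, [(0, true), (4, true), (1870, true), (57, true), (472, true)]),
  (1188, [(0, true), (5, true), (45, true), (189, true), (1577, false)]),
  (1189, [(0, true), (5, true), (45, true), (184, true), (2043, true)]),
  (1190, [(0, true), (5, true), (49, true), (73, true), (472, true)]),
  (1191, [(0, true), (5, true), (45, true), (69, true), (1216, true)]),
  (1192, [(0, true), (5, true), (49, true), (81, false), (1104, true)]),
  (1193, [(0, true), (5, true), (45, true), (77, false), (1104, true)]),
  (1194, [(0, true), (5, true), (50, true), (82, false), (1354, true)]),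
  (1195, [(0, true), (5, true), (30, true), (1870, true), (1399, true)]),
  (1196, [(0, true), (9, true), (1577, true), (60, true), (741, false)]),
  (1197, [(0, true), (9, true), (1577, true), (60, true), (2043, true)]),
  (1198, [(0, true), (9, true), (62, true), (176, true), (1104, false)]),
  (1199, [(0, true), (9, true), (44, true), (194, true), (472, true)]),
  (1200, [(0, true), (6, true), (60, true), (178, true), (2043, true)]),
  (1201, [(0, true), (6, true), (48, true), (190, true), (1399, false)]),
  (1202, [(0, true), (6, true), (226, true), (76, true), (48, false)]),
  (1203, [(0, true), (6, true), (178, true), (96, true), (719, false)]),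
  (1204, [(0, true), (6, true), (226, true), (60, true), (472, true)]),
  (1205, [(0, true), (6, true), (48, true), (206, true), (1104, false)]),
  (1206, [(0, true), (6, true), (60, true), (178, true), (1577, false)]),
  (1207, [(0, true), (6, true), (30, true), (1399, true), (561, false), (472, false)]),
  (1208, [(0, true), (6, true), (76, true), (77, false), (30, false)]),
  (1209, [(0, true), (6, true), (60, true), (61, false), (30, false)]),
  (1210, [(0, true), (6, true), (48, true), (49, false), (30, false)]),
  (1211, [(0, true), (6, true), (1577, true), (1399, false), (719, true)])]

def stepsY8 : List (ℕ × List (ℕ × Bool)) := [(1212, [(0, true), (8, true), (1577, true), (45, true), (1216, true)]),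
  (1213, [(0, true), (8, true), (1870, true), (69, true), (1577, false)]),
  (1214, [(0, true), (8, true), (45, true), (81, false), (1216, true)]),
  (1215, [(0, true), (8, true), (1870, true), (68, true), (1577, true)]),
  (1217, [(0, true), (15, true), (1577, true), (45, true), (54, false)]),
  (1218, [(0, true), (15, true), (53, true), (63, true), (30, false)]),
  (1219, [(0, true), (15, true), (45, true), (65, false), (46, true)]),
  (1220, [(0, true), (15, true), (1577, true), (53, true), (46, false)]),
  (1221, [(0, true), (15, true), (1577, true), (62, true), (56, false)]),
  (1222, [(0, true), (15, true), (247, true), (49, true), (1870, true)]),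
  (1223, [(0, true), (15, true), (45, true), (69, true), (30, false)]),
  (1224, [(0, true), (8, true), (45, true), (48, true), (1216, true)]),
  (1225, [(0, true), (8, true), (1870, true), (52, true), (1104, true)]),
  (1226, [(0, true), (8, true), (1577, true), (55, true), (1354, true)]),
  (1227, [(0, true), (8, true), (1870, true), (741, true), (1577, false)]),
  (1228, [(0, true), (46, true), (62, true), (54, true), (30, false)]),
  (1229, [(0, true), (47, true), (63, true), (136, false), (472, false)]),
  (1230, [(0, true), (44, true), (60, true), (1870, true), (1104, true)]),
  (1231, [(0, true), (45, true), (61, true), (1870, true), (1104, true)]),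
  (1232, [(0, true), (12, true), (1870, true), (58, true), (472, false)]),
  (1233, [(0, true), (12, true), (1870, true), (58, true)]),
  (1234, [(0, true), (12, true), (50, true), (58, false), (30, false)]),
  (1235, [(0, true), (12, true), (45, true), (53, false), (30, false)]),
  (1236, [(0, true), (12, true), (1870, true), (51, true), (472, true)]),
  (1237, [(0, true), (12, true), (1870, true), (51, true)]),
  (1238, [(0, true), (12, true), (1577, true), (50, true), (472, true)]),
  (1239, [(0, true), (12, true), (1577, true), (49, true), (472, true)]),
  (1240, [(0, true), (12, true), (1577, true), (62, true), (30, false)]),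
  (1241, [(0, true), (12, true), (1577, true), (14, true), (30, false)]),
  (1242, [(0, true), (12, true), (14, true), (30, false), (472, true)]),
  (1243, [(0, true), (12, true), (14, true), (30, false)]),
  (1244, [(0, true), (18, true), (1577, true), (741, false), (30, true)]),
  (1245, [(0, true), (18, true), (52, true), (58, false)]),
  (1246, [(0, true), (18, true), (30, true), (1870, true), (472, true)]),
  (1247, [(0, true), (18, true), (1577, true), (1399, false), (472, true)]),
  (1248, [(0, true), (16, true), (1870, true), (44, true), (1104, false)]),
  (1249, [(0, true), (16, true), (1870, true), (48, true), (1104, false)]),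
  (1250, [(0, true), (16, true), (1870, true), (472, true), (1104, true)]),
  (1251, [(0, true), (16, true), (1870, true), (1399, false)]),
  (1252, [(0, true), (16, true), (7, true), (67, false), (30, false)]),
  (1253, [(0, true), (16, true), (7, true), (30, false), (1104, false)]),
  (1254, [(0, true), (16, true), (7, true), (30, false), (2043, false)]),
  (1255, [(0, true), (16, true), (7, true), (30, false)]),
  (1256, [(0, true), (7, true), (30, true), (1870, true), (1104, true)]),
  (1257, [(0, true), (7, true), (30, true), (1104, true), (3, false)]),
  (1258, [(0, true), (7, true), (30, true), (1870, true)]),
  (1259, [(0, true), (7, true), (30, true), (3, false)]),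
  (1260, [(0, true), (16, true), (1399, false), (1216, true), (2043, false)]),
  (1261, [(0, true), (16, true), (190, true), (149, false), (1870, false)]),
  (1262, [(0, true), (16, true), (174, true), (165, false), (472, true)]),
  (1263, [(0, true), (16, true), (1399, false), (1577, true), (472, true)]),
  (1264, [(0, true), (12, true), (45, true), (53, false), (1104, true)]),
  (1265, [(0, true), (12, true), (65, true), (73, false), (1216, true)]),
  (1266, [(0, true), (12, true), (2043, true), (1104, true), (472, true)]),
  (1267, [(0, true), (12, true), (30, true), (472, true), (561, true)]),
  (1268, [(0, true), (12, true), (30, true), (1216, true), (1104, true)]),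
  (1269, [(0, true), (12, true), (30, true), (3, false), (1399, false)]),
  (1270, [(0, true), (12, true), (30, true), (3, false), (1104, true)]),
  (1271, [(0, true), (12, true), (30, true), (1216, true)]),
  (1272, [(0, true), (16, true), (172, true), (53, true), (30, false)]),
  (1273, [(0, true), (16, true), (1399, false), (1577, true)]),
  (1274, [(0, true), (16, true), (1399, false), (30, false)]),
  (1275, [(0, true), (16, true), (6, true), (30, false)]),
  (1276, [(0, true), (30, true), (1577, true), (1216, false), (45, false)]),
  (1277, [(0, true), (30, true), (1870, true), (472, true), (2043, true)]),
  (1278, [(0, true), (30, true), (1870, true), (1577, true), (1104, false)]),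
  (1279, [(0, true), (30, true), (175, true), (80, false), (1870, false)]),
  (1280, [(0, true), (30, true), (1870, true), (1577, true)]),
  (1281, [(0, true), (30, true), (174, true), (81, false)]),
  (1282, [(0, true), (30, true), (1577, true), (1104, false)]),
  (1283, [(0, true), (30, true), (1870, true), (1399, false)]),
  (1284, [(0, true), (21, true), (1870, true), (2043, true), (472, true)]),
  (1285, [(0, true), (21, true), (1870, true), (78, true)]),
  (1286, [(0, true), (21, true), (62, true), (472, true), (1104, false)]),
  (1287, [(0, true), (21, true), (45, true), (99, false)]),
  (1288, [(0, true), (12, true), (45, true), (79, false), (30, false)]),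
  (1289, [(0, true), (12, true), (50, true), (159, false)]),
  (1290, [(0, true), (12, true), (2043, true), (1216, true), (1399, false)]),
  (1291, [(0, true), (12, true), (2043, true), (1399, true), (1216, false)]),
  (1292, [(0, true), (1399, false), (267, true), (472, true)]),
  (1293, [(0, true), (15, true), (2043, true), (1399, true), (1870, false)]),
  (1294, [(0, true), (15, true), (49, true), (151, false)]),
  (1295, [(0, true), (15, true), (140, true), (58, false), (2043, false)]),
  (1296, [(0, true), (15, true), (2043, true), (1216, true)]),
  (1297, [(0, true), (15, true), (2043, true), (30, false)]),
  (1298, [(0, true), (15, true), (1216, true), (4, true)]),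
  (1299, [(0, true), (15, true), (4, true), (30, false)]),
  (1300, [(0, true), (1399, false), (41, false), (561, false)]),
  (1301, [(0, true), (12, true), (65, true), (140, false)]),
  (1302, [(0, true), (1399, false), (41, false), (1577, false)]),
  (1303, [(0, true), (12, true), (2043, true), (30, false)]),
  (1304, [(0, true), (21, true), (45, true), (14, false), (472, true)]),
  (1305, [(0, true), (1399, false), (41, false), (1870, false)]),
  (1306, [(0, true), (1399, false), (41, false)]),
  (1307, [(0, true), (21, true), (1870, true), (3, false)]),
  (1308, [(0, true), (4, true), (172, true), (144, false)]),
  (1309, [(0, true), (4, true), (1870, true), (48, true)]),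
  (1310, [(0, true), (4, true), (30, false), (1104, true), (1870, false)]),
  (1311, [(0, true), (4, true), (1870, true), (1104, true)]),
  (1312, [(0, true), (16, true), (172, true), (167, false)]),
  (1313, [(0, true), (16, true), (30, false), (44, true), (1870, false)]),
  (1314, [(0, true), (16, true), (30, false), (1870, false), (1104, false)]),
  (1315, [(0, true), (16, true), (30, false), (1870, false)]),
  (1316, [(0, true), (30, true), (174, true), (146, false)]),
  (1317, [(0, true), (30, true), (1870, true), (719, true)]),
  (1318, [(0, true), (30, true), (4, false), (472, true), (1870, false)]),
  (1319, [(0, true), (30, true), (1870, true), (741, true)]),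
  (1320, [(0, true), (30, true), (4, false), (719, true)]),
  (1321, [(0, true), (30, true), (1870, true), (1104, true)]),
  (1322, [(0, true), (30, true), (4, false), (1870, false)]),
  (1323, [(0, true), (30, true), (1870, true)]),
  (1324, [(0, true), (16, true), (30, false), (46, true)]),
  (1325, [(0, true), (16, true), (30, false), (2043, true)]),
  (1326, [(0, true), (16, true), (30, false), (1104, true)]),
  (1327, [(0, true), (16, true), (30, false)]),
  (1328, [(0, true), (4, true), (30, false), (56, true)]),
  (1329, [(0, true), (4, true), (1870, true), (472, false)]),
  (1330, [(0, true), (4, true), (30, false), (1870, false)]),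
  (1331, [(0, true), (4, true), (30, false)]),
  (1332, [(0, true), (1399, false), (267, true), (119, true)]),
  (1333, [(0, true), (1399, false), (1870, true), (49, true)]),
  (1334, [(0, true), (1399, false), (247, true), (108, true)]),
  (1335, [(0, true), (1399, false), (1870, true), (472, true)]),
  (1336, [(0, true), (107, true), (65, true), (472, true)]),
  (1337, [(0, true), (1399, false), (1870, true), (719, true)]),
  (1338, [(0, true), (1399, false), (282, true), (719, false)]),
  (1339, [(0, true), (12, true), (3, false), (472, true), (1870, false)]),
  (1340, [(0, true), (1399, false), (1870, true), (1577, false)]),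
  (1341, [(0, true), (1870, true), (8, true), (561, false)]),
  (1342, [(0, true), (1399, false), (741, true), (1216, true)]),
  (1343, [(0, true), (15, true), (3, false), (472, false)]),
  (1344, [(0, true), (1399, false), (1577, true), (472, true)]),
  (1345, [(0, true), (87, true), (206, true), (472, true)]),
  (1346, [(0, true), (42, false), (76, true), (173, true)]),
  (1347, [(0, true), (1399, false), (741, true), (30, false)]),
  (1348, [(0, true), (42, false), (48, true), (472, true)]),
  (1349, [(0, true), (1399, false), (1577, true), (1870, false)]),
  (1350, [(0, true), (1399, false), (5, false), (472, false)]),
  (1351, [(0, true), (42, false), (14, true)]),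
  (1352, [(0, true), (1399, false), (5, false)]),
  (1353, [(0, true), (42, false), (6, true), (1870, false)]),
  (1355, [(0, true), (42, false), (6, true)]),
  (1356, [(0, true), (1399, false), (1216, true)]),
  (1357, [(0, true), (42, false), (741, true), (472, false)]),
  (1358, [(0, true), (42, false), (472, true), (1870, true)]),
  (1359, [(0, true), (42, false), (1577, true)]),
  (1360, [(0, true), (42, false), (561, false)]),
  (1361, [(0, true), (42, false), (44, true)]),
  (1362, [(0, true), (42, false), (1870, true)]),
  (1363, [(0, true), (42, false)])]

def stepsY9 : List (ℕ × List (ℕ × Bool)) := [(1364, [(0, true), (1104, true), (205, true), (1577, false)]),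
  (1365, [(0, true), (1104, true), (561, false), (472, false)]),
  (1366, [(0, true), (1104, true), (2043, true), (472, false)]),
  (1367, [(0, true), (1104, true), (561, false), (2043, false)]),
  (1368, [(0, true), (172, true), (53, true), (30, false)]),
  (1369, [(0, true), (1870, true), (3, true), (472, true), (1577, true)]),
  (1370, [(0, true), (3, true), (1577, true), (472, true)]),
  (1371, [(0, true), (3, true), (1870, true), (472, true)]),
  (1372, [(0, true), (206, true), (44, true), (561, false)]),
  (1373, [(0, true), (1870, true), (46, true), (472, true)]),
  (1374, [(0, true), (180, true), (86, true), (472, true)]),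
  (1375, [(0, true), (1870, true), (472, true), (2043, false)]),
  (1376, [(0, true), (206, true), (48, true), (1216, true)]),
  (1377, [(0, true), (1870, true), (1577, true), (741, false)]),
  (1378, [(0, true), (1870, true), (472, true), (1577, true)]),
  (1379, [(0, true), (1577, true), (7, true), (30, false)]),
  (1380, [(0, true), (180, true), (472, true), (561, true)]),
  (1381, [(0, true), (1577, true), (472, true), (30, false)]),
  (1382, [(0, true), (214, true), (1216, true), (1870, false)]),
  (1383, [(0, true), (1577, true), (1354, false), (30, false)]),
  (1384, [(0, true), (206, true), (85, true), (30, false)]),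
  (1385, [(0, true), (1577, true), (2043, true), (30, false)]),
  (1386, [(0, true), (172, true), (719, false), (30, false)]),
  (1387, [(0, true), (1577, true), (30, false), (1870, false)]),
  (1388, [(0, true), (180, true), (30, false), (472, true)]),
  (1389, [(0, true), (1870, true), (2043, true), (472, false)]),
  (1390, [(0, true), (1870, true), (472, true)]),
  (1391, [(0, true), (561, false), (45, true), (30, false)]),
  (1392, [(0, true), (1870, true), (1354, false)]),
  (1393, [(0, true), (180, true), (30, false)]),
  (1394, [(0, true), (1870, true), (1216, false)]),
  (1395, [(0, true), (30, false), (472, true)]),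
  (1396, [(0, true), (1870, true), (1577, true)]),
  (1397, [(0, true), (30, false), (1870, false)]),
  (1398, [(0, true), (30, false)]),
  (1400, [(0, true), (1216, true), (472, false)]),
  (1401, [(0, true), (561, false), (1104, true)]),
  (1402, [(0, true), (3, false), (1577, false)]),
  (1403, [(0, true), (1216, true)]),
  (1404, [(7, true), (3, true), (1354, true), (172, true), (561, true)]),
  (1405, [(7, true), (3, true), (8, true), (1870, true), (472, true), (1577, false)]),
  (1406, [(7, true), (3, true), (1354, true), (176, true), (52, true)]),
  (1407, [(7, true), (3, true), (8, true), (1399, true), (1104, false)]),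
  (1408, [(42, true), (41, true), (1216, true), (45, true), (1870, false)]),
  (1409, [(42, true), (41, true), (1216, true), (45, true)]),
  (1410, [(42, true), (41, true), (2043, true), (44, true), (1399, true)]),
  (1411, [(42, true), (41, true), (5, true), (1870, true), (561, true), (472, false)]),
  (1412, [(42, true), (41, true), (561, true), (89, false), (1577, true)]),
  (1413, [(42, true), (41, true), (2043, true), (44, true), (45, true)]),
  (1414, [(42, true), (41, true), (561, true), (89, false), (2043, false)]),
  (1415, [(42, true), (41, true), (2043, true), (44, true), (30, false)]),
  (1416, [(42, true), (41, true), (561, true), (80, false), (719, true)]),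
  (1417, [(42, true), (41, true), (48, true), (111, false), (1399, true)]),
  (1418, [(42, true), (41, true), (50, true), (1870, true), (1216, false)]),
  (1419, [(42, true), (41, true), (44, true), (115, false), (472, false)]),
  (1420, [(42, true), (41, true), (50, true), (109, false), (1870, false)]),
  (1421, [(42, true), (41, true), (48, true), (111, false), (1577, false)]),
  (1422, [(42, true), (41, true), (561, true), (80, false)]),
  (1423, [(42, true), (41, true), (9, true), (1104, false), (30, false)]),
  (1424, [(42, true), (41, true), (561, true), (89, false), (30, false)]),
  (1425, [(42, true), (41, true), (1104, false), (719, true), (741, true)]),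
  (1426, [(42, true), (41, true), (1104, false), (1399, true), (1870, false)]),
  (1427, [(42, true), (41, true), (1104, false), (472, false), (52, true)]),
  (1428, [(42, true), (41, true), (1104, false), (1399, true), (1216, false)]),
  (1429, [(42, true), (41, true), (1104, false), (3, false), (472, false)]),
  (1430, [(42, true), (41, true), (1104, false), (1399, true)]),
  (1431, [(42, true), (41, true), (1104, false), (3, false)]),
  (1432, [(42, true), (41, true), (1104, false), (1354, true), (1870, false)]),
  (1433, [(42, true), (41, true), (1104, false), (1216, true), (1870, false)]),
  (1434, [(42, true), (41, true), (1104, false), (1354, true)]),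
  (1435, [(42, true), (41, true), (1104, false), (30, false)]),
  (1436, [(42, true), (5, true), (3, true), (1870, true), (60, true), (472, false)]),
  (1437, [(42, true), (5, true), (3, true), (1870, true), (61, true), (472, false)]),
  (1438, [(42, true), (5, true), (3, true), (1399, true), (741, false), (1870, false)]),
  (1439, [(42, true), (5, true), (3, true), (1399, true), (1104, true), (30, false)]),
  (1440, [(42, true), (3, true), (1216, true), (561, true), (1104, false)]),
  (1441, [(42, true), (3, true), (44, true), (51, true), (30, false)]),
  (1442, [(42, true), (3, true), (1216, true), (561, true)]),
  (1443, [(42, true), (3, true), (561, true), (57, false), (1870, false)]),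
  (1444, [(42, true), (3, true), (45, true), (50, true), (561, false)]),
  (1445, [(42, true), (3, true), (45, true), (178, true), (7, false)]),
  (1446, [(42, true), (3, true), (49, true), (561, false), (112, false)]),
  (1447, [(42, true), (3, true), (45, true), (53, false), (2043, false)]),
  (1448, [(42, true), (3, true), (49, true), (561, false), (1870, true)]),
  (1449, [(42, true), (3, true), (45, true), (50, true), (472, true)]),
  (1450, [(42, true), (3, true), (1399, true), (30, true), (719, false)]),
  (1451, [(42, true), (3, true), (1399, true), (30, true), (1870, true)]),
  (1452, [(42, true), (3, true), (1399, true), (217, false), (6, true)]),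
  (1453, [(42, true), (3, true), (1216, true), (56, true), (1104, false)]),
  (1454, [(42, true), (3, true), (1399, true), (472, true), (6, true)]),
  (1455, [(42, true), (3, true), (1216, true), (56, true)]),
  (1456, [(42, true), (3, true), (1399, true), (472, true), (1870, true)]),
  (1457, [(42, true), (3, true), (1399, true), (220, false), (1870, true)]),
  (1458, [(42, true), (3, true), (1399, true), (1104, false), (2043, false)]),
  (1459, [(42, true), (3, true), (1399, true), (1104, false)]),
  (1460, [(42, true), (6, true), (561, true), (99, false), (52, true)]),
  (1461, [(42, true), (6, true), (561, true), (99, false), (1577, true)]),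
  (1462, [(42, true), (6, true), (45, true), (143, false), (2043, false)]),
  (1463, [(42, true), (6, true), (472, true), (64, true), (4, true)]),
  (1464, [(42, true), (18, true), (1216, true), (561, true), (47, true)]),
  (1465, [(42, true), (18, true), (472, true), (53, true), (2043, true)]),
  (1466, [(42, true), (18, true), (472, true), (108, true), (1104, true)]),
  (1467, [(42, true), (18, true), (1216, true), (52, true), (47, true)]),
  (1468, [(42, true), (14, true), (1216, true), (124, true), (719, true)]),
  (1469, [(42, true), (14, true), (1354, true), (176, true), (1399, true)]),
  (1470, [(42, true), (14, true), (1354, true), (176, true), (1870, true)]),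
  (1471, [(42, true), (14, true), (49, true), (69, true), (5, false)]),
  (1472, [(42, true), (14, true), (50, true), (472, true), (1399, true)]),
  (1473, [(42, true), (14, true), (1354, true), (1216, true), (1104, true)]),
  (1474, [(42, true), (14, true), (1354, true), (172, true), (1870, true)]),
  (1475, [(42, true), (14, true), (1216, true), (1577, false), (1104, true)]),
  (1476, [(42, true), (4, true), (1216, true), (472, true)]),
  (1477, [(42, true), (4, true), (1104, true), (123, false), (2043, false)]),
  (1478, [(42, true), (4, true), (1104, true), (1870, true), (472, false)]),
  (1479, [(42, true), (4, true), (1216, true), (1104, true)]),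
  (1480, [(42, true), (4, true), (1104, true), (118, false), (1870, false)]),
  (1481, [(42, true), (4, true), (1104, true), (119, false), (1870, false)]),
  (1482, [(42, true), (4, true), (1104, true), (3, false), (472, false)]),
  (1483, [(42, true), (4, true), (1104, true), (3, false)]),
  (1484, [(42, true), (14, true), (1216, true), (48, true), (1870, true)]),
  (1485, [(42, true), (14, true), (1870, true), (50, true), (30, false)]),
  (1486, [(42, true), (14, true), (1216, true), (44, true), (1870, true)]),
  (1487, [(42, true), (14, true), (1870, true), (47, true), (30, false)]),
  (1488, [(42, true), (17, true), (561, true), (52, true), (44, false)]),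
  (1489, [(42, true), (17, true), (561, true), (56, true), (1104, false)]),
  (1490, [(42, true), (17, true), (45, true), (72, false), (1870, false)]),
  (1491, [(42, true), (17, true), (561, true), (472, true), (741, false)]),
  (1492, [(42, true), (17, true), (45, true), (50, true), (472, true)]),
  (1493, [(42, true), (17, true), (561, true), (1870, true), (472, false)]),
  (1494, [(42, true), (17, true), (49, true), (46, true), (1870, true)]),
  (1495, [(42, true), (17, true), (44, true), (51, true), (1104, false)]),
  (1496, [(42, true), (5, true), (53, true), (561, false)]),
  (1497, [(42, true), (5, true), (1216, true), (51, true)]),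
  (1498, [(42, true), (5, true), (44, true), (50, false)]),
  (1499, [(42, true), (5, true), (1216, true), (45, true)]),
  (1500, [(42, true), (7, true), (44, true), (472, true), (1104, true)]),
  (1501, [(42, true), (7, true), (1354, true), (172, true), (1399, false)]),
  (1502, [(42, true), (7, true), (1354, true), (472, true), (1870, true)]),
  (1503, [(42, true), (7, true), (44, true), (472, true), (1399, true)]),
  (1504, [(42, true), (7, true), (1354, true), (184, true), (1399, false)]),
  (1505, [(42, true), (7, true), (44, true), (1870, true), (30, true)]),
  (1506, [(42, true), (7, true), (50, true), (75, false), (472, true)]),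
  (1507, [(42, true), (7, true), (1354, true), (1104, false), (1399, false)]),
  (1508, [(42, true), (8, true), (1216, true), (561, true), (1870, true)]),
  (1509, [(42, true), (8, true), (561, true), (48, false), (54, true)]),
  (1510, [(42, true), (8, true), (53, true), (1870, true), (1104, false)]),
  (1511, [(42, true), (8, true), (1216, true), (561, true)]),
  (1512, [(42, true), (8, true), (1216, true), (48, true), (1870, false)]),
  (1513, [(42, true), (8, true), (561, true), (48, false), (30, false)]),
  (1514, [(42, true), (8, true), (2043, true), (741, true), (1354, true)])]

def stepsY10 : List (ℕ × List (ℕ × Bool)) := [(1515, [(42, true), (8, true), (1216, true), (48, true)]),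
  (1516, [(42, true), (48, true), (47, true), (561, false)]),
  (1517, [(42, true), (16, true), (88, true), (1216, true), (1399, true)]),
  (1518, [(42, true), (16, true), (176, true), (561, true), (2043, true)]),
  (1519, [(42, true), (16, true), (176, true), (177, true), (1399, false)]),
  (1520, [(42, true), (16, true), (174, true), (214, true), (30, false)]),
  (1521, [(42, true), (16, true), (88, true), (180, true), (30, false)]),
  (1522, [(42, true), (16, true), (212, true), (104, true), (30, false)]),
  (1523, [(42, true), (16, true), (176, true), (76, true), (30, false)]),
  (1524, [(42, true), (49, true), (109, true), (1216, true), (1577, false)]),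
  (1525, [(42, true), (48, true), (49, true), (134, false), (30, true)]),
  (1526, [(42, true), (44, true), (45, true), (138, false), (30, true)]),
  (1527, [(42, true), (45, true), (113, true), (741, true), (472, true)]),
  (1528, [(42, true), (49, true), (53, true), (9, false)]),
  (1529, [(42, true), (44, true), (51, true), (71, false)]),
  (1530, [(42, true), (561, true), (83, true), (179, true), (1104, false)]),
  (1531, [(42, true), (21, true), (1216, true), (57, true)]),
  (1532, [(42, true), (21, true), (1216, true), (46, true), (472, false)]),
  (1533, [(42, true), (21, true), (50, true), (108, true), (2043, true)]),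
  (1534, [(42, true), (21, true), (30, true), (1104, true), (561, false)]),
  (1535, [(42, true), (21, true), (1216, true), (46, true)]),
  (1536, [(42, true), (21, true), (1216, true), (45, true)]),
  (1537, [(42, true), (21, true), (30, true), (1577, true), (2043, true)]),
  (1538, [(42, true), (21, true), (30, true), (1577, true), (1104, false)]),
  (1539, [(42, true), (21, true), (1216, true), (30, true)]),
  (1540, [(42, true), (20, true), (472, true), (116, true)]),
  (1541, [(42, true), (20, true), (44, true), (85, false), (1870, false)]),
  (1542, [(42, true), (20, true), (47, true), (137, false), (472, false)]),
  (1543, [(42, true), (20, true), (45, true), (1216, true), (472, false)]),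
  (1544, [(42, true), (20, true), (472, true), (62, true)]),
  (1545, [(42, true), (20, true), (472, true), (1216, true)]),
  (1546, [(42, true), (20, true), (472, true), (53, true)]),
  (1547, [(42, true), (20, true), (9, true), (30, false)]),
  (1548, [(42, true), (16, true), (1399, true), (1577, false), (1870, false)]),
  (1549, [(42, true), (16, true), (1399, true), (191, false)]),
  (1550, [(42, true), (16, true), (212, true), (179, false)]),
  (1551, [(42, true), (16, true), (179, true), (212, false)]),
  (1552, [(42, true), (16, true), (1399, true), (1577, false)]),
  (1553, [(42, true), (16, true), (1399, true), (1354, true)]),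
  (1554, [(42, true), (16, true), (215, true), (100, false)]),
  (1555, [(42, true), (16, true), (8, true), (30, false)]),
  (1556, [(42, true), (30, true), (174, true), (121, false), (472, false)]),
  (1557, [(42, true), (1216, true), (49, true), (1577, false)]),
  (1558, [(42, true), (1216, true), (30, true), (1577, false)]),
  (1559, [(42, true), (30, true), (719, true), (58, false)]),
  (1560, [(42, true), (30, true), (1399, true), (5, false), (1104, true)]),
  (1561, [(42, true), (30, true), (1216, true), (1104, false)]),
  (1562, [(42, true), (30, true), (1216, true)]),
  (1563, [(42, true), (30, true), (1399, true), (5, false)]),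
  (1564, [(42, true), (16, true), (1399, true), (1216, true)]),
  (1565, [(42, true), (16, true), (3, false), (52, true), (1870, false)]),
  (1566, [(42, true), (16, true), (3, false), (44, true)]),
  (1567, [(42, true), (16, true), (1399, true), (2043, true)]),
  (1568, [(42, true), (30, true), (1399, true), (62, false)]),
  (1569, [(42, true), (30, true), (1399, true), (67, false)]),
  (1570, [(42, true), (30, true), (1354, true), (66, false)]),
  (1571, [(42, true), (30, true), (3, false), (472, false), (1870, true)]),
  (1572, [(42, true), (30, true), (1399, true), (719, false)]),
  (1573, [(42, true), (30, true), (1399, true), (1870, true)]),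
  (1574, [(42, true), (30, true), (1354, true), (1870, true)]),
  (1575, [(42, true), (30, true), (3, false)]),
  (1576, [(42, true), (16, true), (3, false), (719, true)]),
  (1578, [(42, true), (16, true), (1399, true), (30, false)]),
  (1579, [(42, true), (16, true), (3, false)]),
  (1580, [(42, true), (8, true), (2043, true), (1577, true), (561, false)]),
  (1581, [(42, true), (8, true), (3, false), (561, true), (1577, false)]),
  (1582, [(42, true), (8, true), (3, false), (47, true), (1577, false)]),
  (1583, [(42, true), (8, true), (3, false), (472, true), (1577, true)]),
  (1584, [(42, true), (7, true), (472, true), (76, true)]),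
  (1585, [(42, true), (1216, true), (12, true), (1870, true), (1577, false)]),
  (1586, [(42, true), (1216, true), (12, true), (1577, false)]),
  (1587, [(42, true), (7, true), (3, false), (1577, false)]),
  (1588, [(42, true), (15, true), (5, false), (46, true), (1577, true)]),
  (1589, [(42, true), (1216, true), (60, true), (2043, true)]),
  (1590, [(42, true), (15, true), (472, true), (76, true)]),
  (1591, [(42, true), (1216, true), (77, true), (1870, false)]),
  (1592, [(42, true), (1216, true), (14, true), (1870, false)]),
  (1593, [(42, true), (15, true), (5, false), (472, true)]),
  (1594, [(42, true), (1216, true), (14, true)]),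
  (1595, [(42, true), (15, true), (5, false)]),
  (1596, [(42, true), (7, true), (3, false), (561, true)]),
  (1597, [(42, true), (1216, true), (69, true)]),
  (1598, [(42, true), (1216, true), (4, true)]),
  (1599, [(42, true), (7, true), (3, false)]),
  (1600, [(42, true), (4, true), (3, false), (472, true)]),
  (1601, [(42, true), (4, true), (1399, true), (561, false)]),
  (1602, [(42, true), (4, true), (1399, true), (30, false)]),
  (1603, [(42, true), (4, true), (3, false)]),
  (1604, [(42, true), (4, true), (741, true), (125, false)]),
  (1605, [(42, true), (4, true), (1104, true), (124, false)]),
  (1606, [(42, true), (4, true), (1870, true), (719, true)]),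
  (1607, [(42, true), (4, true), (1870, true), (1104, true)]),
  (1608, [(42, true), (16, true), (1354, true), (1104, false), (1870, false)]),
  (1609, [(42, true), (1216, true), (1104, false), (1870, true)]),
  (1610, [(42, true), (16, true), (1354, true), (120, false)]),
  (1611, [(42, true), (1216, true), (472, true)]),
  (1612, [(42, true), (30, true), (1577, true), (111, false)]),
  (1613, [(42, true), (30, true), (1870, true), (45, true)]),
  (1614, [(42, true), (30, true), (1870, true), (472, false)]),
  (1615, [(42, true), (30, true), (109, false), (2043, false)]),
  (1616, [(42, true), (30, true), (1870, true), (1104, true)]),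
  (1617, [(42, true), (30, true), (1104, true), (472, true)]),
  (1618, [(42, true), (30, true), (1577, true), (1104, false)]),
  (1619, [(42, true), (30, true), (1870, true)]),
  (1620, [(42, true), (41, false), (1216, true), (1104, false)]),
  (1621, [(42, true), (41, false), (472, true), (1577, false)]),
  (1622, [(42, true), (41, false), (1216, true)]),
  (1623, [(42, true), (41, false), (1104, true)]),
  (1624, [(42, true), (41, false), (61, true)]),
  (1625, [(42, true), (41, false), (1870, false)]),
  (1626, [(42, true), (41, false), (472, false)]),
  (1627, [(42, true), (41, false)]),
  (1628, [(42, true), (1870, true), (3, true), (1577, false), (1216, false)]),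
  (1629, [(42, true), (1216, true), (47, true), (1577, false)]),
  (1630, [(42, true), (472, true), (105, true), (1577, true)]),
  (1631, [(42, true), (1216, true), (51, true), (1577, true)]),
  (1632, [(42, true), (45, true), (1399, true), (175, false)]),
  (1633, [(42, true), (472, true), (101, true), (1577, false)]),
  (1634, [(42, true), (1216, true), (1399, true), (1870, false)]),
  (1635, [(42, true), (1216, true), (175, true)]),
  (1636, [(42, true), (472, true), (82, true), (1577, false)]),
  (1637, [(42, true), (49, true), (205, true), (1399, false)]),
  (1638, [(42, true), (2043, true), (1399, true), (1870, false)]),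
  (1639, [(42, true), (44, true), (208, true), (741, false)]),
  (1640, [(42, true), (1399, true), (229, false)]),
  (1641, [(42, true), (472, true), (199, false)]),
  (1642, [(42, true), (1870, true), (1577, false)]),
  (1643, [(42, true), (1399, true), (199, false)]),
  (1644, [(42, true), (174, true), (719, false)]),
  (1645, [(42, true), (1870, true), (719, true), (472, false)]),
  (1646, [(42, true), (1870, true), (719, true)]),
  (1647, [(42, true), (719, true), (174, false)]),
  (1648, [(42, true), (1399, true), (191, false)]),
  (1649, [(42, true), (173, true), (107, false)]),
  (1650, [(42, true), (1399, true), (1577, false)]),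
  (1651, [(42, true), (472, true), (56, false)]),
  (1652, [(42, true), (1399, true), (1216, true)]),
  (1653, [(42, true), (1216, true), (561, true)]),
  (1654, [(42, true), (1399, true), (30, false)]),
  (1655, [(42, true), (3, false)]),
  (1656, [(42, true), (1216, true), (1870, false)]),
  (1657, [(42, true), (30, false), (1870, false)]),
  (1658, [(42, true), (1216, true)]),
  (1659, [(42, true), (30, false)]),
  (1660, [(1399, true), (4, true), (17, true), (741, true), (1870, true)]),
  (1661, [(3, true), (17, true), (277, true), (52, true), (131, false)]),
  (1662, [(1399, true), (4, true), (17, true), (472, true), (1870, false)]),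
  (1663, [(3, true), (17, true), (276, true), (227, false), (472, false)]),
  (1664, [(3, true), (41, true), (1577, true), (45, true), (1870, true)]),
  (1665, [(1399, true), (41, true), (5, true), (561, true), (1870, true)])]

def stepsY11 : List (ℕ × List (ℕ × Bool)) := [(1666, [(1399, true), (41, true), (5, true), (1870, true), (719, false)]),
  (1667, [(3, true), (41, true), (1577, true), (53, true), (1870, true)]),
  (1668, [(1399, true), (41, true), (9, true), (719, true), (1216, true)]),
  (1669, [(3, true), (41, true), (1216, true), (48, true)]),
  (1670, [(3, true), (41, true), (287, true), (561, true), (1577, false)]),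
  (1671, [(3, true), (41, true), (285, true), (1577, true), (30, false)]),
  (1672, [(3, true), (41, true), (287, true), (561, true), (30, false)]),
  (1673, [(3, true), (41, true), (285, true), (55, true), (30, false)]),
  (1674, [(3, true), (41, true), (1216, true), (561, true), (1870, false)]),
  (1675, [(3, true), (41, true), (1216, true), (561, true)]),
  (1676, [(3, true), (41, true), (1577, true), (45, true), (1104, false)]),
  (1677, [(3, true), (41, true), (292, true), (269, false)]),
  (1678, [(3, true), (41, true), (276, true), (285, false)]),
  (1679, [(3, true), (41, true), (1577, true), (53, true), (561, false)]),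
  (1680, [(3, true), (41, true), (272, true), (84, true), (30, false)]),
  (1681, [(3, true), (41, true), (268, true), (86, true), (30, false)]),
  (1682, [(3, true), (41, true), (240, true), (241, true), (30, false)]),
  (1683, [(3, true), (41, true), (236, true), (237, true), (30, false)]),
  (1684, [(41, true), (5, true), (236, true), (1354, true), (56, true)]),
  (1685, [(41, true), (5, true), (286, true), (56, true), (1870, true)]),
  (1686, [(41, true), (5, true), (286, true), (196, false), (1104, false)]),
  (1687, [(41, true), (5, true), (284, true), (198, false), (472, true)]),
  (1688, [(41, true), (6, true), (1216, true), (46, true), (719, true)]),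
  (1689, [(41, true), (6, true), (1216, true), (46, true), (1577, false)]),
  (1690, [(41, true), (6, true), (279, true), (198, false), (561, true)]),
  (1691, [(41, true), (6, true), (276, true), (197, false), (45, true)]),
  (1692, [(41, true), (15, true), (1577, true), (561, true), (1399, false)]),
  (1693, [(41, true), (15, true), (2043, true), (61, true), (719, false)]),
  (1694, [(41, true), (1399, true), (7, true), (44, true), (472, true)]),
  (1695, [(41, true), (1399, true), (7, true), (44, true), (30, false)]),
  (1696, [(41, true), (1399, true), (7, true), (1104, false), (1870, true)]),
  (1697, [(41, true), (1399, true), (7, true), (1104, false)]),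
  (1698, [(41, true), (15, true), (268, true), (165, false), (46, false)]),
  (1699, [(41, true), (15, true), (1577, true), (46, true), (30, false)]),
  (1700, [(41, true), (6, true), (279, true), (52, true), (7, false)]),
  (1701, [(41, true), (6, true), (277, true), (54, true), (1104, false)]),
  (1702, [(41, true), (6, true), (1216, true), (55, true), (63, true)]),
  (1703, [(41, true), (6, true), (1216, true), (55, true), (1577, false)]),
  (1704, [(41, true), (4, true), (1577, true), (1104, false), (1870, false)]),
  (1705, [(41, true), (4, true), (1104, false), (1354, true), (1870, true)]),
  (1706, [(41, true), (4, true), (1104, false), (1577, true)]),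
  (1707, [(41, true), (4, true), (1104, false), (3, false)]),
  (1708, [(41, true), (5, true), (1216, true), (561, true), (1104, true)]),
  (1709, [(41, true), (5, true), (285, true), (59, true), (472, true)]),
  (1710, [(41, true), (5, true), (1216, true), (561, true)]),
  (1711, [(41, true), (5, true), (285, true), (561, true), (30, false)]),
  (1712, [(41, true), (5, true), (289, true), (719, false), (2043, true)]),
  (1713, [(41, true), (5, true), (1216, true), (44, true), (1104, true)]),
  (1714, [(41, true), (5, true), (290, true), (52, true), (30, false)]),
  (1715, [(41, true), (5, true), (1216, true), (44, true)]),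
  (1716, [(41, true), (6, true), (1216, true), (110, true), (1870, false)]),
  (1717, [(41, true), (6, true), (1870, true), (741, true), (1577, false)]),
  (1718, [(41, true), (6, true), (1870, true), (44, true), (1216, true)]),
  (1719, [(41, true), (6, true), (280, true), (54, false), (1870, false)]),
  (1720, [(41, true), (6, true), (281, true), (67, true), (30, false)]),
  (1721, [(41, true), (6, true), (1870, true), (741, true), (30, false)]),
  (1722, [(41, true), (6, true), (1870, true), (44, true), (30, false)]),
  (1723, [(41, true), (6, true), (1216, true), (46, true)]),
  (1724, [(41, true), (7, true), (1354, true), (185, true), (1104, false)]),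
  (1725, [(41, true), (7, true), (472, true), (561, true), (1104, false)]),
  (1726, [(41, true), (7, true), (472, true), (283, true)]),
  (1727, [(41, true), (7, true), (472, true), (60, true)]),
  (1728, [(41, true), (7, true), (280, true), (62, true), (1870, true)]),
  (1729, [(41, true), (7, true), (109, true), (235, true), (1577, false)]),
  (1730, [(41, true), (7, true), (1354, true), (1870, true), (30, true)]),
  (1731, [(41, true), (7, true), (472, true), (218, true)]),
  (1732, [(41, true), (9, true), (270, true), (68, true), (1104, false)]),
  (1733, [(41, true), (9, true), (287, true), (53, true), (741, false)]),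
  (1734, [(41, true), (9, true), (68, true), (44, true), (472, true)]),
  (1735, [(41, true), (9, true), (271, true), (46, true), (1104, false)]),
  (1736, [(41, true), (1577, true), (53, true), (71, false), (30, false)]),
  (1737, [(41, true), (1399, true), (8, true), (48, true), (472, true)]),
  (1738, [(41, true), (1399, true), (8, true), (561, true), (719, false)]),
  (1739, [(41, true), (19, true), (210, true), (1216, true), (30, false)]),
  (1740, [(41, true), (19, true), (235, true), (69, true), (30, false)]),
  (1741, [(41, true), (1399, true), (8, true), (1354, true), (1104, true)]),
  (1742, [(41, true), (1399, true), (8, true), (1354, true)]),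
  (1743, [(41, true), (19, true), (1577, true), (1354, true), (30, false)]),
  (1744, [(41, true), (8, true), (1354, true), (85, false), (30, true)]),
  (1745, [(41, true), (8, true), (1354, true), (1104, false), (472, true)]),
  (1746, [(41, true), (8, true), (1354, true), (1104, false)]),
  (1747, [(41, true), (8, true), (1354, true), (4, false)]),
  (1748, [(41, true), (1399, true), (561, true), (1104, false), (472, true)]),
  (1749, [(41, true), (1399, true), (18, true), (1104, false), (472, true)]),
  (1750, [(41, true), (45, true), (60, true), (5, false)]),
  (1751, [(41, true), (291, true), (274, true), (16, false)]),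
  (1752, [(41, true), (1399, true), (561, true), (472, true)]),
  (1753, [(41, true), (1399, true), (561, true), (104, false)]),
  (1754, [(41, true), (282, true), (290, true), (719, false)]),
  (1755, [(41, true), (12, true), (1870, true), (741, true), (30, true)]),
  (1756, [(41, true), (45, true), (52, true), (1870, true)]),
  (1757, [(41, true), (12, true), (1216, true), (1399, false), (1870, false)]),
  (1758, [(41, true), (1399, true), (18, true), (61, false)]),
  (1759, [(41, true), (1399, true), (18, true), (1104, false)]),
  (1760, [(41, true), (12, true), (1870, true), (1216, true)]),
  (1761, [(41, true), (12, true), (246, true), (45, false)]),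
  (1762, [(41, true), (1399, true), (18, true), (1216, true)]),
  (1763, [(41, true), (1399, true), (18, true), (1870, true)]),
  (1764, [(41, true), (294, true), (69, true), (75, false)]),
  (1765, [(41, true), (290, true), (65, true), (472, true)]),
  (1766, [(41, true), (282, true), (57, true), (107, false)]),
  (1767, [(41, true), (44, true), (54, true), (16, false)]),
  (1768, [(41, true), (1399, true), (8, true), (472, true), (1104, true)]),
  (1769, [(41, true), (12, true), (1577, true), (472, true), (1104, true)]),
  (1770, [(41, true), (12, true), (3, false), (561, true), (1104, false)]),
  (1771, [(41, true), (12, true), (1216, true), (472, true)]),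
  (1772, [(41, true), (12, true), (1216, true), (1104, true)]),
  (1773, [(41, true), (12, true), (3, false), (1104, true)]),
  (1774, [(41, true), (12, true), (1577, true), (30, false)]),
  (1775, [(41, true), (12, true), (1216, true)]),
  (1776, [(41, true), (8, true), (4, false), (44, true)]),
  (1777, [(41, true), (8, true), (4, false), (561, true)]),
  (1778, [(41, true), (8, true), (4, false), (1104, true)]),
  (1779, [(41, true), (8, true), (4, false)]),
  (1780, [(41, true), (30, true), (1216, true), (719, true)]),
  (1781, [(41, true), (30, true), (3, false), (61, true), (1870, true)]),
  (1782, [(41, true), (30, true), (3, false), (1104, false), (1870, false)]),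
  (1783, [(41, true), (30, true), (1216, true), (1104, false)]),
  (1784, [(41, true), (30, true), (3, false), (472, true)]),
  (1785, [(41, true), (30, true), (1216, true), (1870, true)]),
  (1786, [(41, true), (30, true), (1216, true)]),
  (1787, [(41, true), (30, true), (3, false)]),
  (1788, [(41, true), (294, true), (52, true), (5, false)]),
  (1789, [(41, true), (292, true), (54, true), (5, false)]),
  (1790, [(41, true), (1216, true), (18, true), (1104, true)]),
  (1791, [(41, true), (7, true), (4, false), (719, false), (1870, true)]),
  (1792, [(41, true), (7, true), (4, false), (46, true)]),
  (1793, [(41, true), (7, true), (4, false), (472, true)]),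
  (1794, [(41, true), (7, true), (4, false), (1870, false)]),
  (1795, [(41, true), (7, true), (4, false)]),
  (1796, [(41, true), (284, true), (74, true), (30, false)]),
  (1797, [(41, true), (1216, true), (50, true), (1870, true)]),
  (1798, [(41, true), (268, true), (58, true), (30, false)]),
  (1799, [(41, true), (1216, true), (64, true)]),
  (1800, [(41, true), (1216, true), (59, true)]),
  (1801, [(41, true), (272, true), (561, true), (30, false)]),
  (1802, [(41, true), (1216, true), (5, true)]),
  (1803, [(41, true), (16, true), (3, false)]),
  (1804, [(41, true), (8, true), (1870, true), (472, true), (2043, true)]),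
  (1805, [(41, true), (8, true), (1354, true), (92, false)]),
  (1806, [(41, true), (8, true), (98, false), (47, false)]),
  (1807, [(41, true), (8, true), (1870, true), (78, true)]),
  (1808, [(41, true), (19, true), (1354, true), (741, true)]),
  (1809, [(41, true), (19, true), (1354, true), (77, false)]),
  (1810, [(41, true), (1216, true), (561, true), (2043, true)]),
  (1811, [(41, true), (1216, true), (54, true), (2043, false)]),
  (1812, [(41, true), (1216, true), (48, true), (2043, false)]),
  (1813, [(41, true), (7, true), (1870, true), (1577, true), (2043, false)]),
  (1814, [(41, true), (1216, true), (248, true)]),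
  (1815, [(41, true), (7, true), (1870, true), (1354, true)])]

def stepsY12 : List (ℕ × List (ℕ × Bool)) := [(1816, [(41, true), (7, true), (1870, true), (1577, false)]),
  (1817, [(41, true), (1216, true), (57, true)]),
  (1818, [(41, true), (7, true), (1870, true)]),
  (1819, [(41, true), (1216, true), (7, true)]),
  (1820, [(41, true), (1216, true), (45, true)]),
  (1821, [(41, true), (1216, true), (561, true)]),
  (1822, [(41, true), (3, false), (5, false), (2043, true)]),
  (1823, [(41, true), (3, false), (5, false)]),
  (1824, [(41, true), (3, false), (719, true)]),
  (1825, [(41, true), (3, false), (1354, true)]),
  (1826, [(41, true), (3, false), (1870, false)]),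
  (1827, [(41, true), (3, false)]),
  (1828, [(41, true), (241, true), (83, false), (1870, true)]),
  (1829, [(41, true), (237, true), (79, false), (1870, false)]),
  (1830, [(41, true), (236, true), (78, false), (1870, false)]),
  (1831, [(41, true), (240, true), (82, false), (1870, true)]),
  (1832, [(41, true), (237, true), (1354, true), (30, true)]),
  (1833, [(41, true), (236, true), (1354, true), (30, true)]),
  (1834, [(41, true), (1577, true), (9, false), (1870, false)]),
  (1835, [(41, true), (245, true), (161, false), (30, true)]),
  (1836, [(41, true), (1577, true), (131, false), (1104, false)]),
  (1837, [(41, true), (157, false), (48, true)]),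
  (1838, [(41, true), (1216, true), (1870, true), (1577, true)]),
  (1839, [(41, true), (1216, true), (741, true)]),
  (1840, [(41, true), (1216, true), (1870, true)]),
  (1841, [(41, true), (1216, true)]),
  (1842, [(41, true), (158, false), (90, true)]),
  (1843, [(41, true), (1577, true), (30, false)]),
  (1844, [(41, true), (4, false), (53, true)]),
  (1845, [(41, true), (1577, true), (561, false)]),
  (1846, [(41, true), (1577, true), (1870, true)]),
  (1847, [(41, true), (4, false)]),
  (1848, [(41, true), (1354, true), (2043, true)]),
  (1849, [(41, true), (1870, true), (472, false)]),
  (1850, [(41, true), (1870, true)]),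
  (1851, [(41, true), (30, false)]),
  (1852, [(1104, true), (1399, true), (8, true), (1216, true), (472, false)]),
  (1853, [(1104, true), (19, true), (1354, true), (1870, true), (472, false)]),
  (1854, [(4, true), (1399, true), (8, true), (48, true), (50, false)]),
  (1855, [(4, true), (1354, true), (3, true), (172, true), (1870, true)]),
  (1856, [(4, true), (3, true), (1577, true), (561, true), (1104, false)]),
  (1857, [(4, true), (1399, true), (68, true), (103, false), (1870, false)]),
  (1858, [(4, true), (1399, true), (1870, true), (47, true), (1577, false)]),
  (1859, [(4, true), (3, true), (1577, true), (1104, false), (1399, false)]),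
  (1860, [(1104, true), (1399, true), (18, true), (719, false), (1577, true)]),
  (1861, [(1104, true), (3, true), (30, false), (44, true), (1577, false)]),
  (1862, [(1104, true), (3, true), (30, false), (472, true), (1577, false)]),
  (1863, [(1104, true), (3, true), (30, false), (719, true), (1577, true)]),
  (1864, [(1104, true), (3, true), (1354, true), (2043, true)]),
  (1865, [(1104, true), (3, true), (16, false), (472, false), (1870, true)]),
  (1866, [(4, true), (3, true), (1354, true), (172, true)]),
  (1867, [(4, true), (3, true), (174, true), (167, false)]),
  (1868, [(3, true), (5, true), (172, true), (56, false), (54, true)]),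
  (1869, [(3, true), (1354, true), (1577, true), (78, true)]),
  (1871, [(3, true), (5, true), (719, true), (58, false), (561, false)]),
  (1872, [(3, true), (5, true), (2043, true), (1870, true), (472, true), (1399, true)]),
  (1873, [(3, true), (5, true), (180, true), (257, true), (30, false)]),
  (1874, [(3, true), (5, true), (182, true), (45, true), (30, false)]),
  (1875, [(3, true), (5, true), (719, true), (55, true), (30, false)]),
  (1876, [(3, true), (5, true), (182, true), (46, false)]),
  (1877, [(3, true), (5, true), (180, true), (44, false)]),
  (1878, [(3, true), (5, true), (172, true), (52, false)]),
  (1879, [(3, true), (5, true), (2043, true), (1870, true)]),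
  (1880, [(3, true), (5, true), (172, true), (56, false)]),
  (1881, [(3, true), (5, true), (1354, true), (176, true), (472, false)]),
  (1882, [(3, true), (5, true), (1354, true), (176, true)]),
  (1883, [(3, true), (5, true), (472, true), (57, true)]),
  (1884, [(3, true), (1354, true), (9, true), (174, true), (561, true)]),
  (1885, [(3, true), (1354, true), (9, true), (472, true), (561, false)]),
  (1886, [(3, true), (1354, true), (9, true), (719, true), (561, true)]),
  (1887, [(3, true), (1354, true), (9, true), (741, true), (561, true)]),
  (1888, [(3, true), (6, true), (1216, true), (45, true), (1870, false)]),
  (1889, [(3, true), (1354, true), (1216, true), (47, true)]),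
  (1890, [(3, true), (6, true), (192, true), (135, false), (472, true)]),
  (1891, [(3, true), (1354, true), (173, true), (47, true)]),
  (1892, [(3, true), (6, true), (192, true), (135, false)]),
  (1893, [(3, true), (1354, true), (20, true), (1870, true), (472, true)]),
  (1894, [(3, true), (6, true), (1216, true), (2043, false), (1870, false)]),
  (1895, [(3, true), (1354, true), (20, true), (1870, true)]),
  (1896, [(3, true), (6, true), (172, true), (63, false)]),
  (1897, [(3, true), (6, true), (176, true), (719, false)]),
  (1898, [(3, true), (6, true), (174, true), (61, false)]),
  (1899, [(3, true), (6, true), (719, true), (119, false)]),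
  (1900, [(3, true), (9, true), (1216, true), (472, true), (1870, true)]),
  (1901, [(3, true), (9, true), (172, true), (265, true), (30, false)]),
  (1902, [(3, true), (9, true), (1216, true), (46, true), (1870, true)]),
  (1903, [(3, true), (9, true), (1577, true), (1870, true), (2043, true)]),
  (1904, [(3, true), (30, true), (1577, true), (45, true), (1870, true)]),
  (1905, [(3, true), (30, true), (272, true), (70, true), (1870, true)]),
  (1906, [(1104, true), (3, true), (173, true), (47, false)]),
  (1907, [(1104, true), (3, true), (173, true), (4, false)]),
  (1908, [(1104, true), (3, true), (110, false), (57, true)]),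
  (1909, [(1104, true), (3, true), (172, true), (1870, true)]),
  (1910, [(3, true), (30, true), (1870, true), (1577, true)]),
  (1911, [(3, true), (30, true), (1870, true), (4, false)]),
  (1912, [(3, true), (9, true), (1216, true), (1870, true), (1577, false)]),
  (1913, [(3, true), (9, true), (1870, true), (1577, true), (1216, false)]),
  (1914, [(3, true), (9, true), (1216, true), (1870, true)]),
  (1915, [(3, true), (9, true), (1870, true), (2043, true)]),
  (1916, [(3, true), (1354, true), (173, true), (51, true)]),
  (1917, [(3, true), (171, true), (204, true), (4, false)]),
  (1918, [(3, true), (1354, true), (173, true), (45, true)]),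
  (1919, [(3, true), (173, true), (44, true), (48, false)]),
  (1920, [(3, true), (1354, true), (172, true), (49, true)]),
  (1921, [(3, true), (170, true), (204, true), (4, false)]),
  (1922, [(3, true), (1354, true), (172, true), (1870, true)]),
  (1923, [(3, true), (172, true), (45, true), (30, false)]),
  (1924, [(3, true), (14, true), (1870, true), (44, true)]),
  (1925, [(3, true), (1354, true), (172, true), (6, false)]),
  (1926, [(3, true), (14, true), (1870, true), (1577, true)]),
  (1927, [(3, true), (14, true), (1354, true), (472, true)]),
  (1928, [(3, true), (14, true), (1870, true), (472, true)]),
  (1929, [(3, true), (14, true), (1354, true), (2043, true)]),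
  (1930, [(3, true), (14, true), (1870, true)]),
  (1931, [(3, true), (14, true), (5, false)]),
  (1932, [(3, true), (172, true), (50, true), (30, false)]),
  (1933, [(3, true), (174, true), (48, true), (30, false)]),
  (1934, [(3, true), (9, true), (6, false), (472, true), (2043, false)]),
  (1935, [(3, true), (9, true), (1216, true), (46, true)]),
  (1936, [(3, true), (1104, true), (4, false), (472, false), (1577, true)]),
  (1937, [(3, true), (1104, true), (4, false), (472, false)]),
  (1938, [(3, true), (172, true), (49, true), (4, false)]),
  (1939, [(3, true), (1577, true), (30, true), (2043, true)]),
  (1940, [(3, true), (174, true), (48, true), (719, false)]),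
  (1941, [(3, true), (30, true), (1577, true), (1104, false)]),
  (1942, [(3, true), (1104, true), (4, false), (1577, true)]),
  (1943, [(3, true), (1104, true), (4, false)]),
  (1944, [(3, true), (178, true), (51, true), (30, false)]),
  (1945, [(3, true), (1577, true), (9, true), (1216, true)]),
  (1946, [(3, true), (1577, true), (9, true), (30, false)]),
  (1947, [(3, true), (7, true), (5, false)]),
  (1948, [(3, true), (9, true), (1870, true), (48, true)]),
  (1949, [(3, true), (9, true), (472, true), (64, true)]),
  (1950, [(3, true), (9, true), (1399, true), (58, false)]),
  (1951, [(3, true), (9, true), (1870, true), (1354, false)]),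
  (1952, [(3, true), (292, true), (163, true), (30, false)]),
  (1953, [(3, true), (293, true), (187, true), (30, false)]),
  (1954, [(3, true), (173, true), (1354, true), (2043, true)]),
  (1955, [(3, true), (172, true), (59, true), (1870, true)]),
  (1956, [(3, true), (172, true), (1354, true), (472, true)]),
  (1957, [(3, true), (6, true), (1216, true)]),
  (1958, [(3, true), (6, true), (8, false), (1870, false)]),
  (1959, [(3, true), (6, true), (8, false)]),
  (1960, [(3, true), (6, true), (1399, true), (719, false)]),
  (1961, [(3, true), (6, true), (1870, true), (472, true)]),
  (1962, [(3, true), (6, true), (1870, true)]),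
  (1963, [(3, true), (6, true), (30, false)]),
  (1964, [(3, true), (172, true), (167, false), (1577, false)]),
  (1965, [(3, true), (1354, true), (180, true), (1577, false)]),
  (1966, [(3, true), (1354, true), (272, true)])]

def stepsY13 : List (ℕ × List (ℕ × Bool)) := [(1967, [(3, true), (7, true), (64, false), (472, false)]),
  (1968, [(3, true), (173, true), (164, false), (1577, true)]),
  (1969, [(3, true), (175, true), (166, false), (1577, true)]),
  (1970, [(3, true), (4, false), (561, true), (1577, false)]),
  (1971, [(3, true), (4, false), (472, true), (1577, false)]),
  (1972, [(3, true), (4, false), (472, true), (1870, false)]),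
  (1973, [(3, true), (4, false), (561, true), (1870, false)]),
  (1974, [(3, true), (4, false), (1870, false), (2043, false)]),
  (1975, [(3, true), (4, false), (1870, false)]),
  (1976, [(3, true), (4, false), (561, true)]),
  (1977, [(3, true), (4, false), (1399, true)]),
  (1978, [(3, true), (4, false), (472, true)]),
  (1979, [(3, true), (4, false)]),
  (1980, [(3, true), (173, true), (16, false), (1870, false)]),
  (1981, [(3, true), (1354, true), (1870, true), (1104, false)]),
  (1982, [(3, true), (16, false), (561, true), (1870, false)]),
  (1983, [(3, true), (1354, true), (1870, true)]),
  (1984, [(3, true), (1216, true), (1104, true), (1870, false)]),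
  (1985, [(3, true), (1577, true), (2043, true), (1870, false)]),
  (1986, [(3, true), (1577, true), (2043, true)]),
  (1987, [(3, true), (30, false), (1104, true)]),
  (1988, [(3, true), (30, false), (561, true)]),
  (1989, [(3, true), (30, false), (1870, false)]),
  (1990, [(3, true), (30, false), (1577, true)]),
  (1991, [(3, true), (30, false)]),
  (1992, [(3, true), (1216, true), (1870, false)]),
  (1993, [(3, true), (1216, true)]),
  (1994, [(3, true), (1399, true), (1577, false)]),
  (1995, [(3, true), (1870, true)]),
  (1996, [(1399, true), (4, true), (1216, true), (561, true)]),
  (1997, [(1104, true), (12, true), (1870, true), (472, false), (1577, false)]),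
  (1998, [(1104, true), (12, true), (207, true), (80, false)]),
  (1999, [(1399, true), (4, true), (1870, true), (472, false)]),
  (2000, [(1104, true), (7, true), (204, true), (84, false)]),
  (2001, [(4, true), (20, true), (1870, true), (741, true), (1216, false)]),
  (2002, [(1104, true), (7, true), (207, true), (719, false)]),
  (2003, [(4, true), (20, true), (1870, true), (561, true), (1216, true)]),
  (2004, [(1104, true), (7, true), (2043, false), (1216, true)]),
  (2005, [(4, true), (20, true), (172, true), (102, false)]),
  (2006, [(1104, true), (7, true), (8, false), (472, false), (1870, false)]),
  (2007, [(4, true), (20, true), (1216, true), (561, true)]),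
  (2008, [(1104, true), (1399, true), (561, true), (1577, false)]),
  (2009, [(4, true), (15, true), (1870, true), (472, false), (1104, false)]),
  (2010, [(4, true), (15, true), (1577, true), (1104, false)]),
  (2011, [(1104, true), (1399, true), (30, false), (1577, false)]),
  (2012, [(1104, true), (18, true), (1354, true), (472, true), (1870, false)]),
  (2013, [(1104, true), (18, true), (472, true), (1870, false)]),
  (2014, [(4, true), (1354, true), (108, true), (741, true)]),
  (2015, [(4, true), (18, true), (472, true), (561, true)]),
  (2016, [(1104, true), (18, true), (1354, true), (56, false)]),
  (2017, [(1104, true), (18, true), (472, true), (741, false)]),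
  (2018, [(4, true), (18, true), (1354, true), (741, true), (1870, false)]),
  (2019, [(4, true), (18, true), (741, true), (64, false)]),
  (2020, [(4, true), (1354, true), (44, true), (719, true)]),
  (2021, [(1104, true), (7, true), (180, true), (741, false)]),
  (2022, [(4, true), (8, true), (1216, true), (45, true), (1870, false)]),
  (2023, [(1104, true), (7, true), (67, false), (741, false)]),
  (2024, [(4, true), (1354, true), (44, true), (30, false)]),
  (2025, [(1104, true), (7, true), (67, false), (1870, true)]),
  (2026, [(4, true), (8, true), (1870, true), (472, true), (1577, true)]),
  (2027, [(1104, true), (7, true), (64, false), (561, false)]),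
  (2028, [(1104, true), (12, true), (175, true), (46, false)]),
  (2029, [(1104, true), (1399, true), (78, true), (1577, false)]),
  (2030, [(4, true), (1399, true), (48, true), (719, false)]),
  (2031, [(4, true), (21, true), (741, true), (1577, true), (1104, false)]),
  (2032, [(1104, true), (12, true), (63, false), (561, true)]),
  (2033, [(1104, true), (1399, true), (719, true), (2043, true)]),
  (2034, [(4, true), (1399, true), (48, true), (1104, false)]),
  (2035, [(4, true), (21, true), (741, true), (64, false)]),
  (2036, [(4, true), (233, true), (225, true), (30, false)]),
  (2037, [(1104, true), (30, false), (44, true), (45, true)]),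
  (2038, [(4, true), (108, true), (234, true), (30, false)]),
  (2039, [(1104, true), (30, false), (1577, false), (46, false)]),
  (2040, [(4, true), (19, true), (472, true), (55, true)]),
  (2041, [(1104, true), (30, false), (719, true), (52, false)]),
  (2042, [(4, true), (19, true), (472, true), (1216, true)]),
  (2044, [(4, true), (19, true), (175, true), (741, false)]),
  (2045, [(1104, true), (30, false), (472, true), (561, false)]),
  (2046, [(4, true), (19, true), (1577, true), (46, false)]),
  (2047, [(1104, true), (30, false), (1577, false), (1216, true)]),
  (2048, [(4, true), (19, true), (1216, true), (1104, false)]),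
  (2049, [(1104, true), (30, false), (14, true), (1577, true)]),
  (2050, [(4, true), (19, true), (30, false), (1104, false)]),
  (2051, [(1104, true), (30, false), (1577, false)]),
  (2052, [(1104, true), (1399, true), (15, false), (472, true)]),
  (2053, [(1104, true), (12, true), (69, false), (30, true)]),
  (2054, [(4, true), (14, true), (57, false), (561, true)]),
  (2055, [(4, true), (1399, true), (98, true), (1104, false)]),
  (2056, [(4, true), (1399, true), (5, false), (1104, true)]),
  (2057, [(4, true), (14, true), (1104, true), (472, true)]),
  (2058, [(4, true), (14, true), (0, false), (2043, false)]),
  (2059, [(4, true), (1399, true), (5, false)]),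
  (2060, [(4, true), (175, true), (102, true), (30, false)]),
  (2061, [(4, true), (172, true), (240, true), (30, false)]),
  (2062, [(4, true), (173, true), (241, true), (30, false)]),
  (2063, [(4, true), (1216, true), (45, true)]),
  (2064, [(4, true), (8, true), (59, false), (30, false)]),
  (2065, [(4, true), (8, true), (1870, true), (1104, true)]),
  (2066, [(4, true), (8, true), (1870, true)]),
  (2067, [(4, true), (8, true), (30, false)]),
  (2068, [(4, true), (5, false), (44, true), (1104, true)]),
  (2069, [(4, true), (5, false), (472, true), (1104, true)]),
  (2070, [(4, true), (5, false), (2043, true), (561, true)]),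
  (2071, [(4, true), (5, false), (2043, true)]),
  (2072, [(4, true), (5, false), (719, true)]),
  (2073, [(4, true), (5, false), (1870, false)]),
  (2074, [(4, true), (5, false), (472, true)]),
  (2075, [(4, true), (5, false)]),
  (2076, [(4, true), (1399, true), (1870, true), (1104, true)]),
  (2077, [(4, true), (1354, true), (1104, false), (1870, false)]),
  (2078, [(4, true), (30, false), (472, true), (1399, false)]),
  (2079, [(4, true), (1399, true), (2043, true)]),
  (2080, [(4, true), (174, true), (719, false)]),
  (2081, [(4, true), (1216, true), (47, true), (1870, false)]),
  (2082, [(4, true), (1216, true), (63, true)]),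
  (2083, [(4, true), (472, true), (719, false)]),
  (2084, [(4, true), (6, false), (44, true)]),
  (2085, [(4, true), (6, false), (2043, false)]),
  (2086, [(4, true), (6, false), (1104, true)]),
  (2087, [(4, true), (6, false)]),
  (2088, [(4, true), (1870, true), (1104, false)]),
  (2089, [(4, true), (1216, true)]),
  (2090, [(4, true), (1870, true)]),
  (2091, [(4, true), (30, false)]),
  (2092, [(7, true), (5, true), (1870, true), (561, true), (1216, true)]),
  (2093, [(7, true), (5, true), (1870, true), (48, true), (1216, false)]),
  (2094, [(7, true), (5, true), (1870, true), (472, true), (1216, false)]),
  (2095, [(7, true), (5, true), (1870, true), (719, true), (2043, true)]),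
  (2096, [(172, true), (76, true), (52, true), (1354, true)]),
  (2097, [(172, true), (73, true), (105, true), (5, true), (30, false)]),
  (2098, [(204, true), (44, true), (92, true), (67, false)]),
  (2099, [(172, true), (76, true), (60, true), (2043, true)]),
  (2100, [(204, true), (111, true), (2043, true), (5, true), (30, false)]),
  (2101, [(172, true), (143, true), (47, true), (91, false)]),
  (2102, [(200, true), (104, true), (56, true), (87, false)]),
  (2103, [(719, true), (44, true), (89, false), (561, true)]),
  (2104, [(7, true), (5, true), (1216, true), (561, true)]),
  (2105, [(7, true), (5, true), (1354, true), (472, true), (561, true)]),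
  (2106, [(7, true), (5, true), (175, true), (103, false)]),
  (2107, [(7, true), (5, true), (1216, true), (719, true)]),
  (2108, [(5, true), (1216, true), (203, true), (561, true)]),
  (2109, [(1399, true), (5, true), (76, true), (82, false)]),
  (2110, [(5, true), (1354, true), (172, true), (1870, true)]),
  (2111, [(1399, true), (5, true), (1216, true), (472, true)]),
  (2112, [(1399, true), (5, true), (1216, true), (561, true)]),
  (2113, [(5, true), (15, true), (195, true), (98, false)]),
  (2114, [(1399, true), (5, true), (1354, true), (1870, true)]),
  (2115, [(5, true), (1354, true), (1870, true), (1577, false)]),
  (2116, [(30, true), (719, true), (164, false), (76, true)]),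
  (2117, [(30, true), (1870, true), (561, true), (1577, true)])]

def stepsY14 : List (ℕ × List (ℕ × Bool)) := [(2118, [(1104, true), (174, true), (472, false), (1577, false)]),
  (2119, [(1104, true), (472, true), (5, true), (1577, false)]),
  (2120, [(1104, true), (174, true), (472, false), (1399, false)]),
  (2121, [(1104, true), (472, true), (5, true)]),
  (2122, [(30, true), (5, true), (472, true), (116, true)]),
  (2123, [(30, true), (1870, true), (741, true), (2043, true)]),
  (2124, [(5, true), (203, true), (71, true), (50, false)]),
  (2125, [(1399, true), (5, true), (49, true), (1577, false)]),
  (2126, [(5, true), (71, true), (269, true), (30, false)]),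
  (2127, [(5, true), (1399, true), (49, true), (30, false)]),
  (2128, [(5, true), (1399, true), (561, true), (472, true)]),
  (2129, [(5, true), (204, true), (80, true), (30, false)]),
  (2130, [(5, true), (1399, true), (561, true), (30, false)]),
  (2131, [(5, true), (199, true), (76, true), (30, false)]),
  (2132, [(5, true), (1399, true), (2043, true), (472, false)]),
  (2133, [(5, true), (12, true), (1870, true), (46, false)]),
  (2134, [(5, true), (1399, true), (2043, true)]),
  (2135, [(5, true), (12, true), (1870, true), (2043, true)]),
  (2136, [(5, true), (12, true), (1577, true), (1399, false)]),
  (2137, [(5, true), (1399, true), (8, false), (472, false)]),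
  (2138, [(5, true), (12, true), (30, false), (1870, false)]),
  (2139, [(5, true), (1399, true), (8, false)]),
  (2140, [(5, true), (172, true), (100, false), (30, true)]),
  (2141, [(5, true), (176, true), (104, false), (30, true)]),
  (2142, [(1104, true), (5, true), (44, false), (1870, false)]),
  (2143, [(1104, true), (5, true), (47, false)]),
  (2144, [(1104, true), (5, true), (2043, true)]),
  (2145, [(1104, true), (5, true), (1870, true)]),
  (2146, [(5, true), (30, true), (1216, true)]),
  (2147, [(5, true), (30, true), (1870, true)]),
  (2148, [(5, true), (1399, true), (1577, false), (472, false)]),
  (2149, [(5, true), (6, false), (44, true), (1870, false)]),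
  (2150, [(5, true), (1399, true), (719, false)]),
  (2151, [(5, true), (6, false), (561, true), (1870, true)]),
  (2152, [(5, true), (6, false), (561, true)]),
  (2153, [(5, true), (1399, true), (472, true)]),
  (2154, [(5, true), (6, false), (1577, false)]),
  (2155, [(5, true), (6, false)]),
  (2156, [(5, true), (741, true), (1870, true), (472, false)]),
  (2157, [(5, true), (1216, true), (1870, true), (472, true)]),
  (2158, [(5, true), (1216, true), (1870, true)]),
  (2159, [(5, true), (1870, true), (1354, true)]),
  (2160, [(5, true), (173, true), (59, false)]),
  (2161, [(5, true), (1870, true), (741, true)]),
  (2162, [(5, true), (1870, true), (2043, false)]),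
  (2163, [(5, true), (1577, true), (64, false)]),
  (2164, [(5, true), (1870, true), (472, true)]),
  (2165, [(5, true), (1577, true), (561, false)]),
  (2166, [(5, true), (7, false), (1870, false)]),
  (2167, [(5, true), (1870, true)]),
  (2168, [(5, true), (58, false), (30, false)]),
  (2169, [(5, true), (1216, true), (472, true)]),
  (2170, [(5, true), (1216, true)]),
  (2171, [(5, true), (30, false)]),
  (2172, [(1577, true), (561, true), (14, false), (1870, true)]),
  (2173, [(1399, true), (15, false), (56, true), (472, true)]),
  (2174, [(1399, true), (15, false), (46, true), (472, true)]),
  (2175, [(472, true), (57, true), (1577, true), (1216, false)]),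
  (2176, [(172, true), (76, true), (741, false), (1354, true)]),
  (2177, [(1399, true), (15, false), (56, true)]),
  (2178, [(1399, true), (15, false), (46, true)]),
  (2179, [(472, true), (76, true), (97, true), (561, true)]),
  (2180, [(30, true), (719, true), (1354, true), (172, false)]),
  (2181, [(1104, true), (176, true), (1216, true), (561, false)]),
  (2182, [(30, true), (177, true), (741, false), (1577, true)]),
  (2183, [(1104, true), (172, true), (1577, false), (1399, false)]),
  (2184, [(1104, true), (176, true), (561, false)]),
  (2185, [(30, true), (15, false), (1354, true), (472, true)]),
  (2186, [(1104, true), (172, true), (1399, false)]),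
  (2187, [(30, true), (15, false), (1354, true)]),
  (2188, [(6, true), (1870, true), (57, true), (1216, true)]),
  (2189, [(1399, true), (18, true), (51, true), (1870, true)]),
  (2190, [(1399, true), (18, true), (48, false), (1216, true)]),
  (2191, [(6, true), (203, true), (74, true), (30, false)]),
  (2192, [(6, true), (202, true), (58, true), (30, false)]),
  (2193, [(6, true), (203, true), (1399, true), (30, false)]),
  (2194, [(6, true), (1870, true), (57, true), (472, true)]),
  (2195, [(6, true), (1870, true), (56, true), (1577, true)]),
  (2196, [(6, true), (1870, true), (472, true), (1577, false)]),
  (2197, [(6, true), (1870, true), (472, true), (2043, true)]),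
  (2198, [(6, true), (20, false), (561, true), (1399, false)]),
  (2199, [(6, true), (20, false), (1354, false)]),
  (2200, [(6, true), (20, false), (561, true)]),
  (2201, [(6, true), (20, false), (1870, false)]),
  (2202, [(6, true), (20, false), (1577, false)]),
  (2203, [(6, true), (20, false)]),
  (2204, [(6, true), (172, true), (121, false)]),
  (2205, [(1104, true), (15, false), (472, false), (1577, true)]),
  (2206, [(6, true), (7, false), (719, false), (1104, false)]),
  (2207, [(1104, true), (15, false), (46, true)]),
  (2208, [(1104, true), (15, false), (472, false)]),
  (2209, [(6, true), (7, false), (1216, true)]),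
  (2210, [(1104, true), (15, false)]),
  (2211, [(6, true), (7, false)]),
  (2212, [(6, true), (1577, true), (55, false)]),
  (2213, [(6, true), (1216, true), (561, true)]),
  (2214, [(6, true), (1870, true), (561, true)]),
  (2215, [(6, true), (1870, true), (472, true)]),
  (2216, [(6, true), (472, true), (30, false)]),
  (2217, [(6, true), (1216, true), (1870, false)]),
  (2218, [(6, true), (30, false), (1577, true)]),
  (2219, [(6, true), (30, false)]),
  (2220, [(1399, true), (52, true), (2043, true), (1870, false)]),
  (2221, [(1577, true), (56, true), (1870, true), (472, false)]),
  (2222, [(1399, true), (52, true), (2043, true)]),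
  (2223, [(1577, true), (52, true), (57, false), (1870, false)]),
  (2224, [(17, false), (1354, true), (1870, true), (1577, false)]),
  (2225, [(1577, true), (561, true), (472, true), (1399, true)]),
  (2226, [(17, false), (52, true), (561, false), (1870, false)]),
  (2227, [(1577, true), (8, true), (719, false), (1870, true)]),
  (2228, [(17, false), (741, true), (59, true), (2043, false)]),
  (2229, [(17, false), (68, true), (75, true)]),
  (2230, [(1577, true), (76, true), (229, false)]),
  (2231, [(1577, true), (77, true), (134, false)]),
  (2232, [(17, false), (68, true), (52, true)]),
  (2233, [(17, false), (75, true), (59, true)]),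
  (2234, [(17, false), (59, true), (2043, false)]),
  (2235, [(17, false), (44, true), (51, true)]),
  (2236, [(17, false), (51, true), (741, true)]),
  (2237, [(17, false), (44, true), (741, true)]),
  (2238, [(17, false), (741, true), (50, true)]),
  (2239, [(17, false), (45, true), (2043, true)]),
  (2240, [(17, false), (741, true), (2043, true)]),
  (2241, [(17, false), (8, false), (1577, false)]),
  (2242, [(17, false), (8, false), (1870, false)]),
  (2243, [(17, false), (8, false)]),
  (2244, [(17, false), (44, true), (1870, true)]),
  (2245, [(17, false), (741, true), (1870, false)]),
  (2246, [(17, false), (46, false), (472, false)]),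
  (2247, [(17, false), (472, false), (1577, true)]),
  (2248, [(17, false), (46, false)]),
  (2249, [(17, false), (719, true)]),
  (2250, [(17, false), (1870, true)]),
  (2251, [(17, false)]),
  (2252, [(15, false), (472, true), (1870, false), (561, true)]),
  (2253, [(15, false), (46, true), (1216, true)]),
  (2254, [(15, false), (46, true), (472, true)]),
  (2255, [(15, false), (472, true), (1216, false)]),
  (2256, [(15, false), (46, true), (1870, true)]),
  (2257, [(15, false), (59, true), (1870, true)]),
  (2258, [(15, false), (472, true), (1870, false)]),
  (2259, [(15, false), (45, true), (1870, false)]),
  (2260, [(15, false), (46, true), (2043, false)]),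
  (2261, [(15, false), (55, true), (2043, true)]),
  (2262, [(15, false), (472, true), (2043, false)]),
  (2263, [(15, false), (1354, true)]),
  (2264, [(15, false), (561, true)]),
  (2265, [(15, false), (1870, true)]),
  (2266, [(15, false), (2043, false)]),
  (2267, [(15, false)])]

def stepsY15 : List (ℕ × List (ℕ × Bool)) := [(2268, [(719, true), (146, false), (561, true)]),
  (2269, [(472, true), (62, true), (53, false)]),
  (2270, [(192, true), (153, false), (1870, true)]),
  (2271, [(30, false), (60, true), (1870, false)]),
  (2272, [(30, false), (62, true), (1399, false)]),
  (2273, [(30, false), (61, true), (1399, false)]),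
  (2274, [(30, false), (719, true), (1870, true)]),
  (2275, [(30, false), (63, true), (1399, true)]),
  (2276, [(30, false), (62, true), (472, false)]),
  (2277, [(30, false), (61, true), (472, false)]),
  (2278, [(30, false), (561, false), (1870, true)]),
  (2279, [(30, false), (472, false), (1870, false)]),
  (2280, [(30, false), (561, false)]),
  (2281, [(30, false), (472, false)]),
  (2282, [(30, false), (1870, true)]),
  (2283, [(30, false)]),
  (2284, [(1216, true), (52, true), (1870, false)]),
  (2285, [(1216, true), (561, true), (1870, true)]),
  (2286, [(182, true), (1577, true), (561, false)]),
  (2287, [(1870, true), (52, true), (472, false)]),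
  (2288, [(1870, true), (561, true)]),
  (2289, [(175, true), (122, false)]),
  (2290, [(1870, true), (1577, false)]),
  (2291, [(1216, true), (561, true)]),
  (2292, [(1216, true), (1870, false), (1104, true)]),
  (2293, [(1216, true), (1104, true)]),
  (2294, [(84, false), (2043, false)]),
  (2295, [(1870, true), (472, false)]),
  (2296, [(1870, true), (1104, true)]),
  (2297, [(1104, true), (2043, true)]),
  (2298, [(1870, true)]),
  (2299, [(1216, true)]),
  (1, [(1577, true)]),
  (2, [(1104, true)]),
  (10, [(472, false), (44, false)]),
  (11, [(44, false)]),
  (32, [(472, false)]),
  (33, [])]

/-- every point in turn -/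
def stepsY : List (ℕ × List (ℕ × Bool)) :=
  [stepsY0, stepsY1, stepsY2, stepsY3, stepsY4, stepsY5, stepsY6, stepsY7, stepsY8, stepsY9, stepsY10, stepsY11, stepsY12, stepsY13, stepsY14, stepsY15].flatten

/-- a word, its order and a moved point for each candidate -/
def autTests : List (List ℕ × ℕ × ℕ) := [([], 0, 0), ([1], 15, 0), ([1], 15, 0), ([1], 15, 0), ([1], 15, 0), ([1], 15, 0), ([1], 15, 0), ([1], 15, 0), ([1], 15, 0), ([1], 15, 0), ([1], 15, 0), ([1, 2, 3], 16, 0), ([1], 15, 0), ([1], 15, 0), ([1], 15, 0), ([1], 15, 0), ([1], 15, 0), ([1], 15, 0), ([1], 15, 0), ([1], 15, 0), ([1], 15, 0), ([1], 15, 0)]

/-- the relations -/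
def autRels : List (List ℕ × ℕ) := [([1], 15), ([1, 2, 3], 16)]

end Cfsg.Agent.RigidGraph.Co2
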