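import Cfsg.Agent.Lib.RigidGraph.Co2.Out.Defs
import Cfsg.Agent.Lib.RigidGraph.Co2.Out.Data
import Cfsg.Agent.Lib.RigidGraph.Co2.Graphs
import Cfsg.Agent.Lib.RigidGraph.Chunked

/-! The relations, the invariants that bound the centralisers, and the words that tell the candidates apart. -/

set_option autoImplicit false
set_option maxRecDepth 100000
set_option Elab.async false

namespace Cfsg.Agent.RigidGraph.Co2

theorem rel_ok : allB (fun z => Nat.beq (slot hE (slot xE z)) (iter xE 2 (slot hE z)) && Nat.beq (iter xE 23 z) z &&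
    Nat.beq (iter hE 11 z) z && Nat.beq (slot tE (slot hE z)) (iter hE 10 (slot tE z))) 2300 = true := by decide +kernel

theorem fixed_ok : (Nat.beq (slot hE 741) 741 && !Nat.beq (slot xE 0) 0 &&
    allB (fun z => !Nat.beq (slot hE z) z || Nat.beq z 741) 2300) = true := by decide +kernel

theorem imageX_ok : allB (fun z => !samePat xE 23 z 0 || !Nat.beq (meetRows xE 1 2 z) (meetRows xE 1 2 0) ||
    bit orbX z) 2300 = true := by decide +kernel

theorem imageY_ok : allB (fun z => !samePat hE 11 z 30 || !Nat.beq (meetRows hE 1 2 z) (meetRows hE 1 2 30) ||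
    ((List.range 11).any fun k => Nat.beq (iter hE k 30) z)) 2300 = true := by decide +kernel

theorem propX_ok : propOK graph 2300 orbX stepsX = true := by decide +kernel

theorem propY_ok : propOK graph 2300 orbY stepsY = true := by decide +kernel

/-- Equality of lists of numbers. -/
def eqL : List ℕ → List ℕ → Bool
  | [], [] => true
  | a :: l, b :: m => Nat.beq a b && eqL l m
  | _, _ => false

theorem eqL_eq : ∀ {l m : List ℕ}, eqL l m = true → l = m
  | [], [], _ => rfl
  | a :: l, b :: m, h => by
    rw [eqL, Bool.and_eq_true, Nat.beq_eq] at h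
    rw [h.1, eqL_eq h.2]

theorem autTests_ok : allB (fun i =>
    let t := autTests.getD i ([], 0, 0)
    bif Nat.beq i 0 then true
    else Nat.blt t.2.2 2300 && !Nat.beq (powAt (bif Nat.blt i 11 then 1 else 22) (i % 11) t.1 t.2.1 t.2.2) t.2.2 &&
      autRels.any (fun r => eqL r.1 t.1 && Nat.beq r.2 t.2.1)) 22 = true := by decide +kernel

theorem autRels_ok : autRels.all (fun r => allB (fun z => Nat.beq (powAt 1 0 r.1 r.2 z) z) 2300) = true := by
  decide +kernel

end Cfsg.Agent.RigidGraph.Co2
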