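import Cfsg.Agent.Lib.RigidGraph.Co2.Nodes.All
import Cfsg.Agent.Lib.RigidGraph.Co2.RowsB

/-! Evaluation of the words and of the invariants. -/

set_option autoImplicit false
set_option maxRecDepth 100000
set_option Elab.async false

namespace Cfsg.Agent.RigidGraph.Co2

/-- A node as a packed permutation. -/
noncomputable def nodeP (m : ℕ) : ℕ := (nodes.getD m (0, 0)).1

/-- The element of order 23. -/
noncomputable def xE : ℕ := nodeP 0

/-- The involution. -/
noncomputable def tE : ℕ := nodeP 1

/-- The element of order 11. -/
noncomputable def hE : ℕ := nodeP 212

/-- A candidate at a point. -/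
noncomputable def candAt (j z : ℕ) : ℕ := slot tE (iter hE j z)

/-- A word in the powers of the element of order 23 and a candidate, at a point. -/
noncomputable def wordAt (e k : ℕ) (J : List ℕ) (z : ℕ) : ℕ := J.foldr (fun j r => iter xE (e * j % 23) (candAt k r)) z

/-- A power of a word at a point. -/
noncomputable def powAt (e k : ℕ) (J : List ℕ) (m z : ℕ) : ℕ := Nat.rec z (fun _ r => wordAt e k J r) m

/-- The joins along the orbit are those of another point. -/
noncomputable def samePat (w m z p : ℕ) : Bool :=
  allB (fun i => eqB (bit (rowsB.get z) (iter w i z)) (bit (rowsB.get p) (iter w i p))) m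

/-- The common neighbours of a point and two of its images. -/
noncomputable def meetRows (w a b z : ℕ) : ℕ :=
  cntB (bit (Nat.land (rowsB.get z) (Nat.land (rowsB.get (iter w a z)) (rowsB.get (iter w b z))))) 2300

/-- The orbit of the first point under the element of order 23. -/
noncomputable def orbX : ℕ := ((List.range 23).map fun i => iter xE i 0).foldl ins 0

/-- An orbit of the element of order 11 and its fixed point. -/
noncomputable def orbY : ℕ := (((List.range 11).map fun i => iter hE i 30) ++ [741]).foldl ins 0

end Cfsg.Agent.RigidGraph.Co2
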