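import Cfsg.Agent.Lib.RigidGraph.Co2.Group
import Cfsg.Agent.Lib.RigidGraph.Co2.Out.Checks
import Cfsg.Prelude.Def_KGroupFacts
import Mathlib.GroupTheory.Sylow

/-!
Every automorphism of the group on 2300 pairs is inner: an element of order 23 and one of order 11 normalising it
are self-centralising, and the images of an involution inverting the latter are told apart by relations.
-/

set_option autoImplicit false
set_option maxRecDepth 100000

namespace Cfsg.Agent.RigidGraph.Co2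

open Cfsg

attribute [local irreducible] nodes prog rowsB graph nodeP autTests autRels stepsX stepsY orbX orbY permOf

/-- A node as an element of the group. -/
noncomputable def nodeG (m : ℕ) (hm : m < 213) : ↥co2Group :=
  ⟨permOf 2300 (nodes.getD m (0, 0)), node_mem slp_ok m (lengths.1.symm ▸ hm)⟩

theorem nodeG_coe (m : ℕ) (hm : m < 213) :
    ((nodeG m hm : ↥co2Group) : Equiv.Perm (Fin 2300)) = permOf 2300 (nodes.getD m (0, 0)) := rfl

theorem nodeG_val (m : ℕ) (hm : m < 213) (z : Fin 2300) :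
    (((nodeG m hm : ↥co2Group) : Equiv.Perm (Fin 2300)) z : ℕ) = slot (nodeP m) z := by
  rw [nodeG_coe, permOf_val (node_ok slp_ok (lengths.1.symm ▸ hm))]
  unfold nodeP
  rfl

theorem nodeG_pow (m : ℕ) (hm : m < 213) (i : ℕ) (z : Fin 2300) :
    (((nodeG m hm ^ i : ↥co2Group) : Equiv.Perm (Fin 2300)) z : ℕ) = iter (nodeP m) i z := by
  induction i with
  | zero => rfl
  | succ i ih =>
    rw [pow_succ', Subgroup.coe_mul, Equiv.Perm.mul_apply, nodeG_val, ih]
    rfl

/-- The element of order 23. -/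
noncomputable def xG : ↥co2Group := nodeG 0 (by norm_num)

/-- The involution. -/
noncomputable def tG : ↥co2Group := nodeG 1 (by norm_num)

/-- The element of order 11. -/
noncomputable def hG : ↥co2Group := nodeG 212 (by norm_num)

theorem xG_pow (i : ℕ) (z : Fin 2300) : (((xG ^ i : ↥co2Group) : Equiv.Perm (Fin 2300)) z : ℕ) = iter xE i z :=
  nodeG_pow 0 _ i z

theorem hG_pow (i : ℕ) (z : Fin 2300) : (((hG ^ i : ↥co2Group) : Equiv.Perm (Fin 2300)) z : ℕ) = iter hE i z :=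
  nodeG_pow 212 _ i z

theorem grp_ext {a b : ↥co2Group}
    (h : ∀ z : Fin 2300, ((a : Equiv.Perm (Fin 2300)) z : ℕ) = (b : Equiv.Perm (Fin 2300)) z) : a = b :=
  Subtype.ext (Equiv.ext fun z => Fin.ext (h z))

theorem rels : hG * xG = xG ^ 2 * hG ∧ xG ^ 23 = 1 ∧ hG ^ 11 = 1 ∧ tG * hG = hG ^ 10 * tG := by
  refine ⟨grp_ext fun z => ?_, grp_ext fun z => ?_, grp_ext fun z => ?_, grp_ext fun z => ?_⟩ <;>
    have h := allB_spec rel_ok z.2 <;> simp only [Bool.and_eq_true, Nat.beq_eq] at h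
  · rw [Subgroup.coe_mul, Subgroup.coe_mul, Equiv.Perm.mul_apply, Equiv.Perm.mul_apply, xG_pow, hG, xG, nodeG_val,
      nodeG_val, nodeG_val]
    exact h.1.1.1
  · rw [xG_pow]; exact h.1.1.2
  · rw [hG_pow]; exact h.1.2
  · rw [Subgroup.coe_mul, Subgroup.coe_mul, Equiv.Perm.mul_apply, Equiv.Perm.mul_apply, hG_pow, tG, hG, nodeG_val,
      nodeG_val, nodeG_val]
    exact h.2

theorem orderOf_xG : orderOf xG = 23 := by
  haveI : Fact (Nat.Prime 23) := ⟨by norm_num⟩
  refine orderOf_eq_prime rels.2.1 fun e => ?_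
  have h := fixed_ok
  simp only [Bool.and_eq_true, Bool.not_eq_true'] at h
  have h1 := xG_pow 1 0
  simp only [e, one_pow, Subgroup.coe_one, Equiv.Perm.one_apply, Fin.val_zero, iter] at h1
  change 0 = slot xE 0 at h1
  exact absurd h.1.2 (by rw [← h1]; decide)

/-- A candidate. -/
noncomputable def candG (k : ℕ) : ↥co2Group := tG * hG ^ k

theorem candG_val (k : ℕ) (z : Fin 2300) :
    (((candG k : ↥co2Group) : Equiv.Perm (Fin 2300)) z : ℕ) = candAt k z := by
  rw [candG, Subgroup.coe_mul, Equiv.Perm.mul_apply, tG, nodeG_val, hG_pow]; rfl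

theorem graph_B : graph.B = rowsB := by unfold graph; rfl

theorem adj_inv {g : ↥co2Group} (a b : Fin 2300) :
    bit (rowsB.get ((g : Equiv.Perm (Fin 2300)) a : Fin 2300)) ((g : Equiv.Perm (Fin 2300)) b : Fin 2300) =
      bit (rowsB.get a) b := by
  have h := co2Group_le g.2 a b
  rw [Adj, Adj, graph_B] at h
  exact Bool.eq_iff_iff.2 h

theorem iter_comm {w : ℕ} {v g : ↥co2Group}
    (hv : ∀ i (z : Fin 2300), (((v ^ i : ↥co2Group) : Equiv.Perm (Fin 2300)) z : ℕ) = iter w i z)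
    (hg : Commute g v) (i : ℕ) (z : Fin 2300) :
    iter w i ((g : Equiv.Perm (Fin 2300)) z : Fin 2300) =
      ((g : Equiv.Perm (Fin 2300)) ((((v ^ i : ↥co2Group) : Equiv.Perm (Fin 2300)) z)) : Fin 2300) := by
  rw [← hv, ← Equiv.Perm.mul_apply, ← Subgroup.coe_mul, ← (hg.pow_right i).eq, Subgroup.coe_mul, Equiv.Perm.mul_apply]

theorem invariants {w : ℕ} {v g : ↥co2Group}
    (hv : ∀ i (z : Fin 2300), (((v ^ i : ↥co2Group) : Equiv.Perm (Fin 2300)) z : ℕ) = iter w i z)
    (hg : Commute g v) (p : Fin 2300) (m a b : ℕ) :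
    samePat w m ((g : Equiv.Perm (Fin 2300)) p : Fin 2300) p = true ∧
      meetRows w a b ((g : Equiv.Perm (Fin 2300)) p : Fin 2300) = meetRows w a b p := by
  constructor
  · refine allB_of_forall fun i _ => eqB_iff.2 ?_
    rw [iter_comm hv hg i p, adj_inv, hv]
  · rw [meetRows, meetRows, iter_comm hv hg a p, iter_comm hv hg b p, ← hv a p, ← hv b p, cntB_eq_fin, cntB_eq_fin]
    refine (Finset.card_equiv (g : Equiv.Perm (Fin 2300)) fun u => ?_).symm
    simp only [Finset.mem_filter, Finset.mem_univ, true_and, bit_land, adj_inv]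

theorem eq_one_of_prop {g : ↥co2Group} {m : ℕ} {l : List (ℕ × List (ℕ × Bool))}
    (h : propOK graph 2300 m l = true) (hm : ∀ i, bit m i = true → i < 2300)
    (hf : ∀ z : Fin 2300, bit m z = true → (g : Equiv.Perm (Fin 2300)) z = z) : g = 1 := by
  rw [propOK] at h
  split at h
  swap
  · exact Bool.noConfusion h
  rename_i out hout
  refine Subtype.ext (Equiv.ext fun z => propGo_spec (co2Group_le g.2) l m out hout hm hf z ?_)
  rw [Nat.eq_of_beq_eq_true h]
  exact bit_full z.2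

theorem orbX_mem {i : ℕ} (h : bit orbX i = true) :
    ∃ a < 23, i = (((xG ^ a : ↥co2Group) : Equiv.Perm (Fin 2300)) 0 : ℕ) := by
  unfold orbX at h
  rcases bit_foldl_ins _ 0 i h with h | h
  · obtain ⟨a, ha, e⟩ := List.mem_map.1 h
    exact ⟨a, List.mem_range.1 ha, by rw [xG_pow]; exact e.symm⟩
  · rw [bit_zero] at h; exact Bool.noConfusion h

theorem centraliser_x {g : ↥co2Group} (hg : Commute g xG) : ∃ a : ℕ, g = xG ^ a := by
  set z := (g : Equiv.Perm (Fin 2300)) 0 with hz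
  have h := allB_spec imageX_ok z.2
  obtain ⟨hp, hm⟩ := invariants xG_pow hg (0 : Fin 2300) 23 1 2
  simp only [Bool.or_eq_true, Bool.not_eq_true'] at h
  rcases h with (h | h) | h
  · rw [hz, show samePat xE 23 _ 0 = true from hp] at h; exact Bool.noConfusion h
  · rw [hz, show meetRows xE 1 2 _ = meetRows xE 1 2 0 from hm, Nat.beq_refl] at h; exact Bool.noConfusion h
  obtain ⟨a, -, ea⟩ := orbX_mem h
  refine ⟨a, (inv_mul_eq_one.1 ?_).symm⟩
  set f := (xG ^ a)⁻¹ * g
  have hf : Commute f xG := (Commute.pow_self xG a).inv_left.mul_left hg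
  have h0 : (f : Equiv.Perm (Fin 2300)) 0 = 0 := by
    rw [Subgroup.coe_mul, Subgroup.coe_inv, Equiv.Perm.mul_apply, Equiv.Perm.inv_eq_iff_eq]
    exact Fin.ext ea
  refine eq_one_of_prop propX_ok (fun i hi => ?_) fun y hy => ?_
  · obtain ⟨b, -, e⟩ := orbX_mem hi
    exact e ▸ Fin.is_lt _
  · obtain ⟨b, -, e⟩ := orbX_mem hy
    rw [show y = ((xG ^ b : ↥co2Group) : Equiv.Perm (Fin 2300)) 0 from Fin.ext e, ← Equiv.Perm.mul_apply,
      ← Subgroup.coe_mul, (hf.pow_right b).eq, Subgroup.coe_mul, Equiv.Perm.mul_apply, h0]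

theorem centraliser_h {g : ↥co2Group} (hg : Commute g hG) : ∃ a : ℕ, a < 11 ∧ g = hG ^ a := by
  set p : Fin 2300 := ⟨30, by norm_num⟩
  set o : Fin 2300 := ⟨741, by norm_num⟩
  set z := (g : Equiv.Perm (Fin 2300)) p with hz
  have h := allB_spec imageY_ok z.2
  obtain ⟨hp, hm⟩ := invariants hG_pow hg p 11 1 2
  simp only [Bool.or_eq_true, Bool.not_eq_true', List.any_eq_true, List.mem_range, Nat.beq_eq] at h
  rcases h with (h | h) | ⟨k, hk, ek⟩
  · rw [hz, show samePat hE 11 _ 30 = true from hp] at h; exact Bool.noConfusion h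
  · rw [hz, show meetRows hE 1 2 _ = meetRows hE 1 2 30 from hm, Nat.beq_refl] at h; exact Bool.noConfusion h
  refine ⟨k, hk, (inv_mul_eq_one.1 ?_).symm⟩
  set f := (hG ^ k)⁻¹ * g
  have hf : Commute f hG := (Commute.pow_self hG k).inv_left.mul_left hg
  have h0 : (f : Equiv.Perm (Fin 2300)) p = p := by
    rw [Subgroup.coe_mul, Subgroup.coe_inv, Equiv.Perm.mul_apply, Equiv.Perm.inv_eq_iff_eq]
    exact Fin.ext (ek.symm.trans (hG_pow k p).symm)
  have hfix := fixed_ok
  simp only [Bool.and_eq_true, Nat.beq_eq] at hfix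
  have ho : (f : Equiv.Perm (Fin 2300)) o = o := by
    have e1 := iter_comm hG_pow hf 1 o
    have e2 : ((hG ^ 1 : ↥co2Group) : Equiv.Perm (Fin 2300)) o = o :=
      Fin.ext (by rw [hG_pow]; exact hfix.1.1)
    rw [e2] at e1
    have h := allB_spec hfix.2 ((f : Equiv.Perm (Fin 2300)) o).2
    simp only [Bool.or_eq_true, Bool.not_eq_true', Nat.beq_eq] at h
    rcases h with h | h
    · exfalso
      refine Bool.eq_false_iff.1 h ?_
      rw [Nat.beq_eq]
      exact e1
    · exact Fin.ext h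
  refine eq_one_of_prop propY_ok (fun i hi => ?_) fun y hy => ?_
  · unfold orbY at hi
    rcases bit_foldl_ins _ 0 i hi with h | h
    · rcases List.mem_append.1 h with h | h
      · obtain ⟨b, -, e⟩ := List.mem_map.1 h
        rw [← e, ← hG_pow b p]; exact Fin.is_lt _
      · rw [List.mem_singleton.1 h]; norm_num
    · rw [bit_zero] at h; exact Bool.noConfusion h
  · unfold orbY at hy
    rcases bit_foldl_ins _ 0 _ hy with h | h
    · rcases List.mem_append.1 h with h | h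
      · obtain ⟨b, -, e⟩ := List.mem_map.1 h
        rw [show y = ((hG ^ b : ↥co2Group) : Equiv.Perm (Fin 2300)) p from Fin.ext (e.symm.trans (hG_pow b p).symm),
          ← Equiv.Perm.mul_apply, ← Subgroup.coe_mul, (hf.pow_right b).eq, Subgroup.coe_mul, Equiv.Perm.mul_apply, h0]
      · rw [show y = o from Fin.ext (List.mem_singleton.1 h)]; exact ho
    · rw [bit_zero] at h; exact Bool.noConfusion h

theorem ord_dvd {a b : ℕ} (h : xG ^ a = xG ^ b) : a % 23 = b % 23 := by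
  have := (pow_eq_pow_iff_modEq).1 h
  rw [orderOf_xG] at this
  exact this

theorem xG_conj (i : ℕ) : hG ^ i * xG * (hG ^ i)⁻¹ = xG ^ 2 ^ i := by
  induction i with
  | zero => simp
  | succ i ih =>
    rw [pow_succ', mul_inv_rev, show hG * hG ^ i * xG * ((hG ^ i)⁻¹ * hG⁻¹) = hG * (hG ^ i * xG * (hG ^ i)⁻¹) * hG⁻¹ by group,
      ih, ← conj_pow, show hG * xG * hG⁻¹ = xG ^ 2 from mul_inv_eq_iff_eq_mul.2 rels.1, ← pow_mul, ← pow_succ']

theorem coset_reps : ∀ j < 23, j ≠ 0 → ∃ i < 11, ∃ e ∈ [1, 22], 2 ^ i * e % 23 = j := by decide +kernel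

theorem sylow_conj (φ : MulAut ↥co2Group) : ∃ g : ↥co2Group, ∃ j : ℕ, j % 23 ≠ 0 ∧ φ xG = g * xG ^ j * g⁻¹ := by
  haveI : Fact (Nat.Prime 23) := ⟨by norm_num⟩
  have hf : (Nat.card ↥co2Group).factorization 23 = 1 := by
    rw [card_co2Group]
    refine le_antisymm ?_ ((Nat.Prime.dvd_iff_one_le_factorization (by norm_num) (by norm_num)).1 (by norm_num))
    by_contra hlt
    have : 23 ^ 2 ∣ (42305421312000 : ℕ) :=
      (Nat.Prime.pow_dvd_iff_le_factorization (by norm_num) (by norm_num)).2 (by omega)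
    norm_num at this
  have hP : ∀ z : ↥co2Group, orderOf z = 23 →
      Nat.card (Subgroup.zpowers z) = 23 ^ (Nat.card ↥co2Group).factorization 23 :=
    fun z hz => by rw [Nat.card_zpowers, hz, hf, pow_one]
  have hz : orderOf (φ xG) = 23 := by rw [← orderOf_xG]; exact MulEquiv.orderOf_eq φ xG
  obtain ⟨g, hg⟩ := MulAction.exists_smul_eq ↥co2Group (Sylow.ofCard _ (hP _ orderOf_xG)) (Sylow.ofCard _ (hP _ hz))
  have hmem : φ xG ∈ (Subgroup.zpowers xG).map (MulAut.conj g).toMonoidHom := by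
    have h2 : (((g • Sylow.ofCard _ (hP _ orderOf_xG) : Sylow 23 ↥co2Group)) : Subgroup ↥co2Group) =
        Subgroup.zpowers (φ xG) := by rw [hg]; rfl
    have h3 : (((g • Sylow.ofCard _ (hP _ orderOf_xG) : Sylow 23 ↥co2Group)) : Subgroup ↥co2Group) =
        (Subgroup.zpowers xG).map (MulAut.conj g).toMonoidHom := rfl
    rw [← h3, h2]
    exact Subgroup.mem_zpowers _
  obtain ⟨y, hy, e⟩ := Subgroup.mem_map.1 hmem
  obtain ⟨j, rfl⟩ := (Submonoid.mem_powers_iff _ _).1 ((mem_powers_iff_mem_zpowers).2 hy)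
  refine ⟨g, j, fun h0 => ?_, e.symm.trans (MulAut.conj_apply g _)⟩
  have h1 : φ xG = 1 := by
    rw [← e, ← pow_mod_orderOf, orderOf_xG, h0, pow_zero, map_one]
  rw [h1, orderOf_one] at hz
  norm_num at hz

theorem normalise (φ : MulAut ↥co2Group) : ∃ ψ : MulAut ↥co2Group, ∃ e ∈ [1, 22],
    φ⁻¹ * ψ ∈ Inn ↥co2Group ∧ ψ xG = xG ^ e ∧ ψ hG = hG := by
  obtain ⟨g, j, hj, hg⟩ := sylow_conj φ
  obtain ⟨i, -, e, he, hie⟩ := coset_reps (j % 23) (Nat.mod_lt _ (by norm_num)) hj
  set c : ↥co2Group := g * hG ^ i with hc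
  set φ1 : MulAut ↥co2Group := MulAut.conj c⁻¹ * φ with hφ1
  have hx1 : φ1 xG = xG ^ e := by
    have e1 : xG ^ j = hG ^ i * xG ^ e * (hG ^ i)⁻¹ := by
      rw [← conj_pow, xG_conj, ← pow_mul, ← pow_mod_orderOf xG j, ← pow_mod_orderOf xG (2 ^ i * e), orderOf_xG, hie]
    rw [hφ1, MulAut.mul_apply, hg, MulAut.conj_apply, e1, hc]
    group
  obtain ⟨f, hf⟩ : ∃ f : ℕ, (xG ^ e) ^ f = xG := by
    simp only [List.mem_cons, List.not_mem_nil, or_false] at he
    rcases he with rfl | rfl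
    · exact ⟨1, by simp⟩
    · exact ⟨22, by rw [← pow_mul, show 22 * 22 = 23 * 21 + 1 from rfl, pow_add, pow_mul, rels.2.1, one_pow, one_mul, pow_one]⟩
  have hcomm : φ1 hG * xG = xG ^ 2 * φ1 hG := by
    have h1 : φ1 hG * xG ^ e * (φ1 hG)⁻¹ = (xG ^ e) ^ 2 := by
      rw [← hx1, ← map_inv, ← map_mul, ← map_mul, ← map_pow, show hG * xG * hG⁻¹ = xG ^ 2 from mul_inv_eq_iff_eq_mul.2 rels.1]
    have h2 := congrArg (fun a => a ^ f) h1
    simp only [conj_pow] at h2
    rw [hf, ← pow_mul, Nat.mul_comm, pow_mul, hf] at h2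
    exact mul_inv_eq_iff_eq_mul.1 h2
  obtain ⟨a, ha⟩ := centraliser_x (g := hG⁻¹ * φ1 hG) (by
    show hG⁻¹ * φ1 hG * xG = xG * (hG⁻¹ * φ1 hG)
    rw [mul_assoc, hcomm, ← mul_assoc, ← mul_assoc, show hG⁻¹ * xG ^ 2 = xG * hG⁻¹ by
      rw [inv_mul_eq_iff_eq_mul, ← mul_assoc, rels.1, mul_inv_cancel_right]])
  have hh1 : φ1 hG = hG * xG ^ a := by rw [← ha, mul_inv_cancel_left]
  -- shift by a power of `xG`
  have hshift : ∀ m : ℕ, hG * xG ^ m = xG ^ (2 * m) * hG := fun m => by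
    induction m with
    | zero => simp
    | succ m ih =>
      rw [pow_succ, ← mul_assoc, ih, mul_assoc, rels.1, ← mul_assoc, ← pow_add]
      ring_nf
  have hkey : (xG ^ (21 * a))⁻¹ * (hG * xG ^ a) * xG ^ (21 * a) = hG := by
    rw [mul_assoc, mul_assoc, ← pow_add, hshift, inv_mul_eq_iff_eq_mul]
    refine congrArg (· * hG) (pow_eq_pow_iff_modEq.2 ?_)
    rw [orderOf_xG]
    show 2 * (a + 21 * a) % 23 = 21 * a % 23
    omega
  refine ⟨MulAut.conj (xG ^ (21 * a))⁻¹ * φ1, e, he, ?_, ?_, ?_⟩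
  · rw [hφ1, show φ⁻¹ * (MulAut.conj (xG ^ (21 * a))⁻¹ * (MulAut.conj c⁻¹ * φ)) =
      φ⁻¹ * (MulAut.conj (xG ^ (21 * a))⁻¹ * MulAut.conj c⁻¹) * φ by group, ← map_mul]
    exact (inferInstance : (Inn ↥co2Group).Normal).conj_mem' _ ⟨_, rfl⟩ φ
  · rw [MulAut.mul_apply, hx1, MulAut.conj_apply, inv_inv, mul_assoc, ← pow_add, add_comm, pow_add,
      inv_mul_cancel_left]
  · rw [MulAut.mul_apply, hh1, MulAut.conj_apply, inv_inv]
    exact hkey

/-- A word. -/
noncomputable def wordG (e k : ℕ) (J : List ℕ) : ↥co2Group := (J.map fun j => xG ^ (e * j % 23) * candG k).prod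

theorem wordG_val (e k : ℕ) : ∀ (J : List ℕ) (z : Fin 2300),
    (((wordG e k J : ↥co2Group) : Equiv.Perm (Fin 2300)) z : ℕ) = wordAt e k J z := by
  intro J
  induction J with
  | nil => intro z; rfl
  | cons j J ih =>
    intro z
    rw [wordG, List.map_cons, List.prod_cons, ← wordG, Subgroup.coe_mul, Equiv.Perm.mul_apply, Subgroup.coe_mul,
      Equiv.Perm.mul_apply, xG_pow, candG_val, ih]
    rfl

theorem powG_val (e k : ℕ) (J : List ℕ) (m : ℕ) (z : Fin 2300) :
    (((wordG e k J ^ m : ↥co2Group) : Equiv.Perm (Fin 2300)) z : ℕ) = powAt e k J m z := by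
  induction m with
  | zero => rfl
  | succ m ih =>
    rw [pow_succ', Subgroup.coe_mul, Equiv.Perm.mul_apply, wordG_val, ih]
    rfl

theorem xG_mod (n : ℕ) : xG ^ (n % 23) = xG ^ n := by
  conv_rhs => rw [← pow_mod_orderOf, orderOf_xG]

theorem map_word (ψ : MulAut ↥co2Group) {e k : ℕ} (hx : ψ xG = xG ^ e) (hc : ψ tG = candG k) :
    ∀ J, ψ (wordG 1 0 J) = wordG e k J := by
  intro J
  induction J with
  | nil => exact map_one ψ
  | cons j J ih =>
    simp only [wordG, List.map_cons, List.prod_cons, map_mul] at ih ⊢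
    rw [ih, show ψ (candG 0) = candG k by rw [candG, pow_zero, mul_one]; exact hc, xG_mod, xG_mod, map_pow, hx,
      ← pow_mul, one_mul]

theorem candidate_unique {ψ : MulAut ↥co2Group} {e k : ℕ} (he : e ∈ [1, 22]) (hk : k < 11) (hx : ψ xG = xG ^ e)
    (hc : ψ tG = candG k) : e = 1 ∧ k = 0 := by
  by_contra hne
  simp only [List.mem_cons, List.not_mem_nil, or_false] at he
  obtain ⟨i, hi, hi0, hie, hik⟩ : ∃ i < 22, i ≠ 0 ∧ (bif Nat.blt i 11 then 1 else 22) = e ∧ i % 11 = k := by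
    rcases he with rfl | rfl
    · exact ⟨k, by omega, fun h => hne ⟨rfl, h⟩, by rw [show Nat.blt k 11 = true by rw [Nat.blt_eq]; exact hk]; rfl,
        Nat.mod_eq_of_lt hk⟩
    · exact ⟨11 + k, by omega, by omega, by
        rw [show Nat.blt (11 + k) 11 = false from Bool.eq_false_iff.2 fun h => by rw [Nat.blt_eq] at h; omega]; rfl,
        by omega⟩
  have hh := allB_spec autTests_ok hi
  simp only at hh
  rw [show Nat.beq i 0 = false from Bool.eq_false_iff.2 fun hb => hi0 (Nat.eq_of_beq_eq_true hb), cond_false,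
    hie, hik] at hh
  simp only [Bool.and_eq_true, Bool.not_eq_true', Nat.blt_eq, List.any_eq_true, Nat.beq_eq] at hh
  obtain ⟨⟨hpt, hmove⟩, r, hr, hJ, hm⟩ := hh
  have hrel := List.all_eq_true.1 autRels_ok r hr
  rw [← eqL_eq hJ, ← hm] at hmove
  have h1 : wordG 1 0 r.1 ^ r.2 = 1 := grp_ext fun z => by
    rw [powG_val]; exact Nat.eq_of_beq_eq_true (allB_spec hrel z.2)
  have h2 := congrArg ψ h1
  rw [map_pow, map_word ψ hx hc, map_one] at h2
  have h3 := powG_val e k r.1 r.2 ⟨_, hpt⟩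
  rw [h2] at h3
  exact Bool.eq_false_iff.1 hmove (by
    rw [Nat.beq_eq]
    exact h3.symm)

theorem inner_all (φ : MulAut ↥co2Group) : φ ∈ Inn ↥co2Group := by
  obtain ⟨ψ, e, he, hi, hx, hh⟩ := normalise φ
  have h0 : tG⁻¹ * hG ^ 10 = hG * tG⁻¹ := by
    rw [inv_mul_eq_iff_eq_mul, ← mul_assoc, rels.2.2.2, mul_inv_cancel_right]
  have hcomm : ψ tG * hG = hG ^ 10 * ψ tG := by
    have := congrArg ψ rels.2.2.2
    rwa [map_mul, map_mul, map_pow, hh] at this
  obtain ⟨k, hk, ek⟩ := centraliser_h (g := tG⁻¹ * ψ tG) (by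
    show tG⁻¹ * ψ tG * hG = hG * (tG⁻¹ * ψ tG)
    rw [mul_assoc, hcomm, ← mul_assoc, h0, mul_assoc])
  have hc : ψ tG = candG k := by rw [candG, ← ek, mul_inv_cancel_left]
  obtain ⟨rfl, rfl⟩ := candidate_unique he hk hx hc
  rw [pow_one] at hx
  rw [candG, pow_zero, mul_one] at hc
  have hψ : ψ = 1 := by
    refine MulEquiv.ext fun g => ?_
    obtain ⟨g, hg⟩ := g
    have hg' := hg
    rw [co2Group, grp] at hg'
    induction hg' using Subgroup.closure_induction with
    | mem y hy =>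
      rw [Set.mem_insert_iff, Set.mem_singleton_iff] at hy
      rcases hy with e | e
      · rw [show (⟨y, hg⟩ : ↥co2Group) = xG from Subtype.ext (e.trans (nodeG_coe 0 _).symm)]
        exact hx
      · rw [show (⟨y, hg⟩ : ↥co2Group) = tG from Subtype.ext (e.trans (nodeG_coe 1 _).symm)]
        exact hc
    | one => exact map_one ψ
    | mul a b ha hb iha ihb => exact (map_mul ψ ⟨a, ha⟩ ⟨b, hb⟩).trans (congrArg₂ (· * ·) (iha ha) (ihb hb))
    | inv a ha iha => exact (map_inv ψ ⟨a, ha⟩).trans (congrArg (·⁻¹) (iha ha))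
  rw [hψ, mul_one] at hi
  exact inv_mem_iff.1 hi

theorem card_out_co2Group : Nat.card (Out ↥co2Group) = 1 := by
  have : Subsingleton (Out ↥co2Group) :=
    QuotientGroup.subsingleton_iff.2 (Subgroup.eq_top_iff' _ |>.2 inner_all)
  exact Nat.card_of_subsingleton (1 : Out ↥co2Group)

end Cfsg.Agent.RigidGraph.Co2
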